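import Cfsg.Agent.Lib.U43Graph14.Orbits
import Cfsg.Agent.Lib.SmallGroups.Counting
import Cfsg.Agent.Lib.SmallGroups.Sylow

/-!
# Coordinates from the centraliser of `c`

Given `|C(c)| = 972` with the self-centralising subgroup `R` normal in it, and a four group in `C(c)` whose
involutions have centralisers of order not divisible by 27, `C(c)` permutes three lines of `R` cyclically.
-/

set_option autoImplicit false
set_option linter.unusedSectionVars false

namespace Cfsg.Agent.Lib.U43Graph14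

open Blocks

variable {G : Type*} [Group G] [Finite G] {R : Subgroup G}

/-- Four commuting elements of order three separated by the signs of two automorphisms, and a cycle of three
of them, give coordinates. -/
theorem coords_of_cycle (hR : Nat.card R = 81) (hexp : ∀ x ∈ R, x ^ 3 = 1)
    (hcomm : ∀ x ∈ R, ∀ y ∈ R, x * y = y * x)
    {c d d2 d3 z w t : G} (hc : c ∈ R) (hd : d ∈ R) (hd2 : d2 ∈ R) (hd3 : d3 ∈ R)
    (hc1 : c ≠ 1) (hd1 : d ≠ 1) (hd21 : d2 ≠ 1) (hd31 : d3 ≠ 1)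
    (zc : z * c * z⁻¹ = c) (zd : z * d * z⁻¹ = d) (zd2 : z * d2 * z⁻¹ = d2⁻¹) (zd3 : z * d3 * z⁻¹ = d3⁻¹)
    (wc : w * c * w⁻¹ = c) (wd : w * d * w⁻¹ = d⁻¹) (wd2 : w * d2 * w⁻¹ = d2) (wd3 : w * d3 * w⁻¹ = d3⁻¹)
    (tc : t * c * t⁻¹ = c) (td : t * d * t⁻¹ = d2) (td2 : t * d2 * t⁻¹ = d3) (td3 : t * d3 * t⁻¹ = d) :
    ∃ e : ↥R ≃* Multiplicative V, co e (rep 0) = c ∧ co e (rep 1) = d ∧
      (∃ t : G, ∀ v, t * co e v * t⁻¹ = co e (rot v)) ∧
      (∃ s : G, ∀ v, s * co e v * s⁻¹ = co e (flip v)) := by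
  classical
  let _ : CommGroup R :=
    { (inferInstance : Group R) with mul_comm := fun x y => Subtype.ext (hcomm _ x.2 _ y.2) }
  have h3 : ∀ x : R, x ^ 3 = 1 := fun x => Subtype.ext (hexp _ x.2)
  have hadd : ∀ (x : R) (a b : ZMod 3), x ^ (a + b).val = x ^ a.val * x ^ b.val := by
    intro x a b
    rw [← pow_add, ZMod.val_add]
    exact (pow_eq_pow_mod _ (h3 x)).symm
  set C' : R := ⟨c, hc⟩
  set D' : R := ⟨d, hd⟩
  set E' : R := ⟨d2, hd2⟩
  set F' : R := ⟨d3, hd3⟩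
  let f : Multiplicative V →* R :=
    { toFun := fun v => C' ^ (v.toAdd 0).val * D' ^ (v.toAdd 1).val * E' ^ (v.toAdd 2).val * F' ^ (v.toAdd 3).val
      map_one' := by simp
      map_mul' := fun u v => by
        simp only [toAdd_mul, Pi.add_apply, hadd]
        ac_rfl }
  have fval : ∀ v : V, (f (Multiplicative.ofAdd v) : G) =
      c ^ (v 0).val * d ^ (v 1).val * d2 ^ (v 2).val * d3 ^ (v 3).val := fun v => rfl
  have hconj : ∀ (g x : G) (n : ℕ), g * x ^ n * g⁻¹ = (g * x * g⁻¹) ^ n := fun g x n => (conj_pow).symm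
  have hconj4 : ∀ (g a b p q : G), g * (a * b * p * q) * g⁻¹ =
      g * a * g⁻¹ * (g * b * g⁻¹) * (g * p * g⁻¹) * (g * q * g⁻¹) := fun g a b p q => by group
  have hneg : ∀ (x : R) (a : ZMod 3), (x : G) ^ (-a).val = ((x : G)⁻¹) ^ a.val := by
    intro x a
    have h0 := hadd x (-a) a
    rw [neg_add_cancel, ZMod.val_zero, pow_zero] at h0
    have h1 := congrArg Subtype.val h0
    simp only [Subgroup.coe_one, Subgroup.coe_mul, Subgroup.coe_pow] at h1
    rw [inv_pow, ← eq_inv_of_mul_eq_one_left h1.symm]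
  have hz' : ∀ v : V, z * (f (Multiplicative.ofAdd v) : G) * z⁻¹ = f (Multiplicative.ofAdd (flip v)) := by
    intro v
    rw [fval, fval, hconj4, hconj, hconj, hconj, hconj, zc, zd, zd2, zd3]
    simp only [Blocks.flip, Matrix.cons_val_zero, Matrix.cons_val_one, Matrix.cons_val]
    rw [← hneg E', ← hneg F']
  -- elimination
  have helim : ∀ (g : G) (x y : R), g * (x : G) * g⁻¹ = x → g * (y : G) * g⁻¹ = (y : G)⁻¹ → x * y = 1 →
      x = 1 ∧ y = 1 := by
    intro g x y hx hy hxy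
    have hxy' : (x : G) * y = 1 := congrArg Subtype.val hxy
    have h2 : x * y⁻¹ = 1 := Subtype.ext (by
      show (x : G) * (y : G)⁻¹ = 1
      calc (x : G) * (y : G)⁻¹ = g * x * g⁻¹ * (g * y * g⁻¹) := by rw [hx, hy]
        _ = g * ((x : G) * y) * g⁻¹ := by group
        _ = 1 := by rw [hxy']; group)
    have hx2 : x = y := mul_inv_eq_one.1 h2
    subst hx2
    have hx1 : x = 1 := by
      have := h3 x
      rw [pow_succ, pow_two, hxy, one_mul] at this
      exact this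
    exact ⟨hx1, hx1⟩
  have hord : ∀ (x : R), (x : G) ≠ 1 → ∀ a : ZMod 3, x ^ a.val = 1 → a = 0 := by
    intro x hx a ha
    by_contra ha0
    have ho : orderOf x = 3 := orderOf_eq_prime (h3 x) fun e' => hx (congrArg Subtype.val e')
    have := orderOf_dvd_of_pow_eq_one ha
    rw [ho] at this
    have hlt := ZMod.val_lt a
    have hpos : a.val ≠ 0 := fun e' => ha0 ((ZMod.val_eq_zero a).1 e')
    omega
  have hinj : Function.Injective f := by
    rw [injective_iff_map_eq_one]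
    intro v hv
    set a := v.toAdd
    have hv' : C' ^ (a 0).val * D' ^ (a 1).val * (E' ^ (a 2).val * F' ^ (a 3).val) = 1 := by
      rw [← mul_assoc]; exact hv
    obtain ⟨h01, h23⟩ := helim z _ _
      (by
        simp only [Subgroup.coe_mul, Subgroup.coe_pow, C', D']
        rw [show ∀ p q : G, z * (p * q) * z⁻¹ = z * p * z⁻¹ * (z * q * z⁻¹) from fun p q => by group,
          hconj, hconj, zc, zd])
      (by
        simp only [Subgroup.coe_mul, Subgroup.coe_pow, E', F']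
        rw [show ∀ p q : G, z * (p * q) * z⁻¹ = z * p * z⁻¹ * (z * q * z⁻¹) from fun p q => by group,
          hconj, hconj, zd2, zd3, mul_inv_rev, inv_pow, inv_pow]
        exact hcomm _ (inv_mem (pow_mem hd2 _)) _ (inv_mem (pow_mem hd3 _)))
      hv'
    obtain ⟨h0, h1⟩ := helim w (C' ^ (a 0).val) (D' ^ (a 1).val)
      (by simp only [Subgroup.coe_pow, C']; rw [hconj, wc])
      (by simp only [Subgroup.coe_pow, D']; rw [hconj, wd, inv_pow]) h01
    obtain ⟨h2, h3'⟩ := helim w (E' ^ (a 2).val) (F' ^ (a 3).val)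
      (by simp only [Subgroup.coe_pow, E']; rw [hconj, wd2])
      (by simp only [Subgroup.coe_pow, F']; rw [hconj, wd3, inv_pow]) h23
    refine Multiplicative.toAdd.injective ?_
    show a = 0
    funext i
    fin_cases i
    exacts [hord C' hc1 _ h0, hord D' hd1 _ h1, hord E' hd21 _ h2, hord F' hd31 _ h3']
  have hbij : Function.Bijective f := by
    have : Fintype R := Fintype.ofFinite _
    refine (Fintype.bijective_iff_injective_and_card f).2 ⟨hinj, ?_⟩
    rw [← Nat.card_eq_fintype_card (α := R), hR]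
    simp
  refine ⟨(MulEquiv.ofBijective f hbij).symm, ?_, ?_, ⟨t⁻¹, fun v => ?_⟩, ⟨z, fun v => ?_⟩⟩
  · show (f (Multiplicative.ofAdd (rep 0)) : G) = c
    rw [fval]; simp [rep, ZMod.val_one]
  · show (f (Multiplicative.ofAdd (rep 1)) : G) = d
    rw [fval]; simp [rep, ZMod.val_one]
  · show t⁻¹ * (f (Multiplicative.ofAdd v) : G) * (t⁻¹)⁻¹ = f (Multiplicative.ofAdd (rot v))
    have hback : ∀ {x y : G}, t * x * t⁻¹ = y → t⁻¹ * y * (t⁻¹)⁻¹ = x := fun hxy => by
      rw [← hxy]; group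
    have e1 := hback tc
    have e2 := hback td3
    have e3 := hback td
    have e4 := hback td2
    rw [fval, fval, hconj4, hconj, hconj, hconj, hconj, e1, e2, e3, e4]
    simp only [rot, Matrix.cons_val_zero, Matrix.cons_val_one, Matrix.cons_val]
    have hp : ∀ (n : ℕ) (x : G), x ∈ R → x ^ n ∈ R := fun n x hx => pow_mem hx n
    have := congrArg Subtype.val (show C' ^ (v 0).val * F' ^ (v 1).val * D' ^ (v 2).val * E' ^ (v 3).val =
      C' ^ (v 0).val * D' ^ (v 2).val * E' ^ (v 3).val * F' ^ (v 1).val by ac_rfl)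
    exact this
  · exact hz' v

theorem four_cases {α : Type*} [Finite α] {S : Set α} {o a b c y : α} (hS : S.ncard = 4) (ho : o ∈ S)
    (ha : a ∈ S) (hb : b ∈ S) (hc : c ∈ S) (h1 : o ≠ a) (h2 : o ≠ b) (h3 : o ≠ c) (h4 : a ≠ b) (h5 : a ≠ c)
    (h6 : b ≠ c) (hy : y ∈ S) : y = o ∨ y = a ∨ y = b ∨ y = c := by
  have hF : ({o, a, b, c} : Set α) = S := by
    refine Set.eq_of_subset_of_ncard_le ?_ ?_
    · simp [Set.insert_subset_iff, ho, ha, hb, hc]
    · rw [hS, Set.ncard_insert_of_notMem (by simp [h1, h2, h3]), Set.ncard_insert_of_notMem (by simp [h4, h5]),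
        Set.ncard_insert_of_notMem (by simp [h6]), Set.ncard_singleton]
  rw [← hF] at hy
  simpa using hy

section

variable {c d z w : G}

/-- If everything inverted by `z` in `R`, and one element fixed by `z`, is fixed by `v`, then `v` fixes a
subgroup of order at least 27. -/
theorem dvd_card_of_fixed (hR : Nat.card R = 81) (hexp : ∀ x ∈ R, x ^ 3 = 1) {v : G}
    (hz : z * z = 1) (hzR : ∀ x ∈ R, z * x * z⁻¹ ∈ R)
    (hz9 : Nat.card ↥(R ⊓ Subgroup.centralizer ({z} : Set G)) = 9)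
    (hc : c ∈ R) (hc1 : c ≠ 1) (zc : z * c * z⁻¹ = c) (vc : v * c * v⁻¹ = c)
    (hfix : ∀ x ∈ R, z * x * z⁻¹ = x⁻¹ → v * x * v⁻¹ = x) :
    27 ∣ Nat.card (Subgroup.centralizer ({v} : Set G)) := by
  classical
  set A := R ⊓ Subgroup.centralizer ({v} : Set G)
  set B := R ⊓ Subgroup.centralizer ({z} : Set G)
  refine dvd_trans ?_ (Subgroup.card_dvd_of_le (inf_le_right : A ≤ _))
  have hinv : ∀ x : G, z * (z * x * z⁻¹ * x⁻¹) * z⁻¹ = (z * x * z⁻¹ * x⁻¹)⁻¹ := by
    intro x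
    calc z * (z * x * z⁻¹ * x⁻¹) * z⁻¹ = (z * z) * x * (z * z)⁻¹ * (z * x⁻¹ * z⁻¹) := by group
      _ = _ := by rw [hz]; group
  let g : R → A := fun x => ⟨z * (x : G) * z⁻¹ * (x : G)⁻¹, R.mul_mem (hzR _ x.2) (R.inv_mem x.2),
    Subgroup.mem_centralizer_singleton_iff.2
      (mul_inv_eq_iff_eq_mul.1 (hfix _ (R.mul_mem (hzR _ x.2) (R.inv_mem x.2)) (hinv x))).symm⟩
  have hfib : ∀ a b : R, g a = g b → (a : G)⁻¹ * b ∈ B := by
    intro a b hab
    have hab' : z * (a : G) * z⁻¹ * (a : G)⁻¹ = z * (b : G) * z⁻¹ * (b : G)⁻¹ := congrArg Subtype.val hab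
    refine ⟨R.mul_mem (R.inv_mem a.2) b.2, Subgroup.mem_centralizer_singleton_iff.2
      (mul_inv_eq_iff_eq_mul.1 ?_).symm⟩
    calc z * ((a : G)⁻¹ * b) * z⁻¹ = (z * (a : G) * z⁻¹)⁻¹ * (z * (b : G) * z⁻¹) := by group
      _ = (a : G)⁻¹ * (z * (a : G) * z⁻¹ * (a : G)⁻¹)⁻¹ * ((z * (b : G) * z⁻¹ * (b : G)⁻¹) * b) := by group
      _ = _ := by rw [hab']; group
  let g' : ↥R ⧸ B.subgroupOf R → A := fun q => g q.out
  have hg' : Function.Injective g' := by
    intro a b hab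
    rw [← QuotientGroup.out_eq' a, ← QuotientGroup.out_eq' b]
    refine QuotientGroup.eq.2 ?_
    show ((a.out⁻¹ * b.out : R) : G) ∈ B
    exact hfib _ _ hab
  have hle := Nat.card_le_card_of_injective g' hg'
  have hidx : (B.subgroupOf R).index = 9 := by
    have h1 := (B.subgroupOf R).card_mul_index
    rw [Nat.card_congr (Subgroup.subgroupOfEquivOfLe (inf_le_left : B ≤ R)).toEquiv, hz9, hR] at h1
    omega
  have hne : ¬ Function.Surjective g' := fun hs => by
    obtain ⟨q, hq⟩ := hs ⟨c, hc, Subgroup.mem_centralizer_singleton_iff.2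
      (mul_inv_eq_iff_eq_mul.1 vc).symm⟩
    have hq' : z * (q.out : G) * z⁻¹ * (q.out : G)⁻¹ = c := congrArg Subtype.val hq
    have h1 : c = c⁻¹ := by rw [← hq', ← hinv, hq', zc]
    have h2 := hexp c hc
    rw [pow_succ, pow_two] at h2
    nth_rewrite 1 [h1] at h2
    exact hc1 (by simpa using h2)
  have hgt : 9 < Nat.card A := by
    rcases Nat.lt_or_ge 9 (Nat.card A) with h' | h'
    · exact h'
    · exfalso
      refine hne ?_
      have heq : Nat.card (↥R ⧸ B.subgroupOf R) = Nat.card A := le_antisymm hle (h'.trans hidx.ge)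
      exact ((Nat.bijective_iff_injective_and_card g').2 ⟨hg', heq⟩).2
  have hd81 : Nat.card A ∣ 81 := hR ▸ Subgroup.card_dvd_of_le inf_le_left
  obtain ⟨k, hk, hk'⟩ := (Nat.dvd_prime_pow Nat.prime_three).1 (show Nat.card A ∣ 3 ^ 4 by simpa using hd81)
  interval_cases k <;> rw [hk'] at hgt ⊢ <;> revert hgt <;> norm_num

/-- A four group in `C(c)` acting on `R` with small fixed subgroups. -/
theorem exists_coords (hR : Nat.card R = 81) (hexp : ∀ x ∈ R, x ^ 3 = 1)
    (hcomm : ∀ x ∈ R, ∀ y ∈ R, x * y = y * x)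
    (hcent : Subgroup.centralizer (R : Set G) ≤ R)
    (hcard : Nat.card (Subgroup.centralizer ({c} : Set G)) = 972)
    (hnorm : Subgroup.centralizer ({c} : Set G) ≤ Subgroup.normalizer (R : Set G))
    (hc : c ∈ R) (hc1 : c ≠ 1) (hd : d ∈ R) (hd1 : d ≠ 1)
    (hz : z * z = 1) (hw : w * w = 1) (hzw : z * w = w * z)
    (zc : z * c * z⁻¹ = c) (wc : w * c * w⁻¹ = c) (zd : z * d * z⁻¹ = d) (wd : w * d * w⁻¹ = d⁻¹)
    (hz9 : Nat.card ↥(R ⊓ Subgroup.centralizer ({z} : Set G)) = 9)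
    (h27z : ¬ 27 ∣ Nat.card (Subgroup.centralizer ({z} : Set G)))
    (h27w : ¬ 27 ∣ Nat.card (Subgroup.centralizer ({w} : Set G)))
    (h27zw : ¬ 27 ∣ Nat.card (Subgroup.centralizer ({z * w} : Set G))) :
    ∃ e : ↥R ≃* Multiplicative V, co e (rep 0) = c ∧ co e (rep 1) = d ∧
      (∃ t : G, ∀ v, t * co e v * t⁻¹ = co e (rot v)) ∧
      (∃ s : G, ∀ v, s * co e v * s⁻¹ = co e (flip v)) := by
  classical
  set C := Subgroup.centralizer ({c} : Set G) with hC
  have hCmem : ∀ {g : G}, g ∈ C ↔ g * c * g⁻¹ = c := by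
    intro g
    rw [Subgroup.mem_centralizer_singleton_iff]
    exact (mul_inv_eq_iff_eq_mul).symm
  have hzC : z ∈ C := hCmem.2 zc
  have hwC : w ∈ C := hCmem.2 wc
  have hRC : R ≤ C := fun x hx => Subgroup.mem_centralizer_singleton_iff.2 (hcomm x hx c hc)
  have hzi : z⁻¹ = z := inv_eq_of_mul_eq_one_right hz
  have hwi : w⁻¹ = w := inv_eq_of_mul_eq_one_right hw
  have hmapR : ∀ {g : G}, g ∈ C → ∀ {x : G}, x ∈ R → g * x * g⁻¹ ∈ R :=
    fun hg x hx => (Subgroup.mem_normalizer_iff.1 (hnorm hg) x).1 hx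
  have hdd : d⁻¹ ≠ d := fun e' => hd1 (by
    have := hexp d hd
    rw [pow_succ, pow_two] at this
    nth_rewrite 1 [← e'] at this
    simpa using this)
  -- elements acting trivially lie in `R`
  have htriv : ∀ {g : G}, g ∈ C → (∀ x ∈ R, g * x * g⁻¹ = x) → g ∈ R := fun hg hfix =>
    hcent (Subgroup.mem_centralizer_iff.2 fun x hx => (mul_inv_eq_iff_eq_mul.1 (hfix x hx)).symm)
  have hact : ∀ {g r : G}, r ∈ R → ∀ {x : G}, x ∈ R → g * r * x * (g * r)⁻¹ = g * x * g⁻¹ := by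
    intro g r hr x hx
    calc g * r * x * (g * r)⁻¹ = g * (r * x * r⁻¹) * g⁻¹ := by group
      _ = g * x * g⁻¹ := by rw [hcomm r hr x hx]; group
  -- fixed subgroups have order divisible by nine
  have hnine : ∀ v u : G, v * c * v⁻¹ = c → u ∈ R → v * u * v⁻¹ = u → u ∉ Subgroup.zpowers c →
      9 ∣ Nat.card ↥(R ⊓ Subgroup.centralizer ({v} : Set G)) := by
    intro v u hvc hu hvu huc
    set F := R ⊓ Subgroup.centralizer ({v} : Set G)
    have hmem : ∀ {y : G}, y ∈ R → v * y * v⁻¹ = y → y ∈ F := fun hy hvy =>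
      ⟨hy, Subgroup.mem_centralizer_singleton_iff.2 (mul_inv_eq_iff_eq_mul.1 hvy).symm⟩
    have h1 : Subgroup.zpowers c ≤ F := Subgroup.zpowers_le.2 (hmem hc hvc)
    have hoc : orderOf c = 3 := orderOf_eq_prime (hexp c hc) hc1
    have hd81 : Nat.card F ∣ 81 := hR ▸ Subgroup.card_dvd_of_le inf_le_left
    have h3d : 3 ∣ Nat.card F := by
      have := Subgroup.card_dvd_of_le h1
      rwa [Nat.card_zpowers, hoc] at this
    have hne3 : Nat.card F ≠ 3 := fun e' => huc (by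
      rw [Subgroup.eq_of_le_of_card_ge h1 (by rw [e', Nat.card_zpowers, hoc])]
      exact hmem hu hvu)
    obtain ⟨k, hk, hk'⟩ := (Nat.dvd_prime_pow Nat.prime_three).1 (show Nat.card F ∣ 3 ^ 4 by simpa using hd81)
    interval_cases k
    · rw [hk'] at h3d; norm_num at h3d
    · exact absurd hk' (by simpa using hne3)
    all_goals rw [hk']; norm_num
  have hzpc : ∀ {g u : G}, g * c * g⁻¹ = c → u ∈ Subgroup.zpowers c → g * u * g⁻¹ = u := by
    rintro g u hg ⟨n, rfl⟩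
    show g * c ^ n * g⁻¹ = c ^ n
    rw [← conj_zpow, hg]
  have hdc : d ∉ Subgroup.zpowers c := fun hh => hdd (wd.symm.trans (hzpc wc hh))
  -- the part of an element inverted by `z` on which `w` acts trivially
  have hsplit : ∀ y ∈ R, z * y * z⁻¹ = y⁻¹ →
      z * (w * y * w⁻¹ * y) * z⁻¹ = (w * y * w⁻¹ * y)⁻¹ ∧
      w * (w * y * w⁻¹ * y) * w⁻¹ = w * y * w⁻¹ * y := by
    intro y hy hzy
    have hwyR := hmapR hwC hy
    constructor
    · calc z * (w * y * w⁻¹ * y) * z⁻¹ = (z * w) * y * (z * w)⁻¹ * (z * y * z⁻¹) := by group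
        _ = w * (z * y * z⁻¹) * w⁻¹ * (z * y * z⁻¹) := by rw [hzw]; group
        _ = (w * y * w⁻¹)⁻¹ * y⁻¹ := by rw [hzy]; group
        _ = y⁻¹ * (w * y * w⁻¹)⁻¹ := hcomm _ (inv_mem hwyR) _ (inv_mem hy)
        _ = _ := (mul_inv_rev _ _).symm
    · calc w * (w * y * w⁻¹ * y) * w⁻¹ = (w * w) * y * (w * w)⁻¹ * (w * y * w⁻¹) := by group
        _ = y * (w * y * w⁻¹) := by rw [hw]; group
        _ = w * y * w⁻¹ * y := hcomm _ hy _ hwyR
  have zwc : z * w * c * (z * w)⁻¹ = c := by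
    calc z * w * c * (z * w)⁻¹ = z * (w * c * w⁻¹) * z⁻¹ := by group
      _ = c := by rw [wc, zc]
  -- an element fixed by `w` and inverted by `z`
  obtain ⟨u, hu, hu1, zu, wu⟩ : ∃ u ∈ R, u ≠ 1 ∧ z * u * z⁻¹ = u⁻¹ ∧ w * u * w⁻¹ = u := by
    by_contra hno
    push Not at hno
    refine h27zw (dvd_card_of_fixed hR hexp hz (fun x hx => hmapR hzC hx) hz9 hc hc1 zc zwc ?_)
    intro y hy hzy
    obtain ⟨h1, h2⟩ := hsplit y hy hzy
    have hq1 : w * y * w⁻¹ * y = 1 := by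
      by_contra hq1
      exact hno _ (mul_mem (hmapR hwC hy) hy) hq1 h1 h2
    have hwy : w * y * w⁻¹ = y⁻¹ := eq_inv_of_mul_eq_one_left hq1
    calc z * w * y * (z * w)⁻¹ = z * (w * y * w⁻¹) * z⁻¹ := by group
      _ = (z * y * z⁻¹)⁻¹ := by rw [hwy]; group
      _ = y := by rw [hzy, inv_inv]
  have huc : u ∉ Subgroup.zpowers c := fun hh => by
    have h1 : z * u * z⁻¹ = u := hzpc zc hh
    rw [zu] at h1
    have h2 := hexp u hu
    rw [pow_succ, pow_two] at h2
    nth_rewrite 1 [← h1] at h2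
    exact hu1 (by simpa using h2)
  -- an element inverted by both, so fixed by their product
  obtain ⟨u', hu', hu'1, zu', wu'⟩ : ∃ x ∈ R, x ≠ 1 ∧ z * x * z⁻¹ = x⁻¹ ∧ w * x * w⁻¹ = x⁻¹ := by
    by_contra hno
    push Not at hno
    refine h27w (dvd_card_of_fixed hR hexp hz (fun x hx => hmapR hzC hx) hz9 hc hc1 zc wc ?_)
    intro y hy hzy
    have hwyR := hmapR hwC hy
    have hzwy : z * (w * y * w⁻¹) * z⁻¹ = (w * y * w⁻¹)⁻¹ := by
      calc z * (w * y * w⁻¹) * z⁻¹ = (z * w) * y * (z * w)⁻¹ := by group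
        _ = w * (z * y * z⁻¹) * w⁻¹ := by rw [hzw]; group
        _ = _ := by rw [hzy]; group
    have hq1 : y * (w * y * w⁻¹)⁻¹ = 1 := by
      by_contra hq1
      refine hno _ (mul_mem hy (inv_mem hwyR)) hq1 ?_ ?_
      · calc z * (y * (w * y * w⁻¹)⁻¹) * z⁻¹ = z * y * z⁻¹ * (z * (w * y * w⁻¹) * z⁻¹)⁻¹ := by group
          _ = y⁻¹ * (w * y * w⁻¹) := by rw [hzy, hzwy, inv_inv]
          _ = w * y * w⁻¹ * y⁻¹ := hcomm _ (inv_mem hy) _ hwyR
          _ = _ := by group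
      · calc w * (y * (w * y * w⁻¹)⁻¹) * w⁻¹ = w * y * w⁻¹ * ((w * w) * y * (w * w)⁻¹)⁻¹ := by group
          _ = w * y * w⁻¹ * y⁻¹ := by rw [hw]; group
          _ = _ := by group
    exact (mul_inv_eq_one.1 hq1).symm
  have zwu' : z * w * u' * (z * w)⁻¹ = u' := by
    calc z * w * u' * (z * w)⁻¹ = z * (w * u' * w⁻¹) * z⁻¹ := by group
      _ = (z * u' * z⁻¹)⁻¹ := by rw [wu']; group
      _ = u' := by rw [zu', inv_inv]
  have hu'c : u' ∉ Subgroup.zpowers c := fun hh => by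
    have h1 : z * u' * z⁻¹ = u' := hzpc zc hh
    rw [zu'] at h1
    have h2 := hexp u' hu'
    rw [pow_succ, pow_two] at h2
    nth_rewrite 1 [← h1] at h2
    exact hu'1 (by simpa using h2)
  -- the quotient
  set N := R.subgroupOf C
  have hNn : N.Normal := ⟨fun y hy g => by
    rw [Subgroup.mem_subgroupOf] at hy ⊢
    simpa using hmapR g.2 hy⟩
  have hA : Nat.card (↥C ⧸ N) = 12 := by
    have h4 := N.card_mul_index
    rw [Nat.card_congr (Subgroup.subgroupOfEquivOfLe hRC).toEquiv, hR, hcard] at h4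
    show N.index = 12
    omega
  let π : ↥C →* ↥C ⧸ N := QuotientGroup.mk' N
  have hπeq : ∀ {a b : C}, π a = π b → ∀ x ∈ R, (a : G) * x * (a : G)⁻¹ = (b : G) * x * (b : G)⁻¹ := by
    intro a b hab x hx
    have hr : (a : G)⁻¹ * b ∈ R := Subgroup.mem_subgroupOf.1 (QuotientGroup.eq.1 hab)
    rw [← hact (g := (a : G)) hr hx]
    group
  have hπone : ∀ {a : C}, π a = 1 ↔ (a : G) ∈ R := by
    intro a
    rw [← MonoidHom.mem_ker, QuotientGroup.ker_mk', Subgroup.mem_subgroupOf]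
  -- no involution of the four group centralises an element of order three of the quotient
  have key : ∀ (v : C) (t : C), (v : G) * v = 1 → ¬ 27 ∣ Nat.card (Subgroup.centralizer ({(v : G)} : Set G)) →
      9 ∣ Nat.card ↥(R ⊓ Subgroup.centralizer ({(v : G)} : Set G)) →
      orderOf (π t) = 3 → π v * π t ≠ π t * π v := by
    intro v t hv h27 h9 ht hcomm'
    have hr : (t : G)⁻¹ * ((v : G) * t * (v : G)⁻¹) ∈ R := by
      have : π t = π (v * t * v⁻¹) := by rw [map_mul, map_mul, hcomm', map_inv, mul_inv_cancel_right]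
      exact Subgroup.mem_subgroupOf.1 (QuotientGroup.eq.1 this)
    set r := (t : G)⁻¹ * ((v : G) * t * (v : G)⁻¹) with hrdef
    have hvr : (v : G) * r * (v : G)⁻¹ = r⁻¹ := by
      have hvi : (v : G)⁻¹ = v := inv_eq_of_mul_eq_one_right hv
      rw [hrdef, mul_inv_rev, mul_inv_rev, mul_inv_rev, inv_inv, hvi]
      simp [mul_assoc, hv, hvi]
    set x : G := (t : G) * r ^ 2
    have hxC : x ∈ C := mul_mem t.2 (hRC (pow_mem hr 2))
    have hvx : (v : G) * x * (v : G)⁻¹ = x := by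
      show (v : G) * ((t : G) * r ^ 2) * (v : G)⁻¹ = (t : G) * r ^ 2
      have h3 := hexp r hr
      calc (v : G) * ((t : G) * r ^ 2) * (v : G)⁻¹ =
          (t : G) * ((t : G)⁻¹ * ((v : G) * t * (v : G)⁻¹)) * ((v : G) * r * (v : G)⁻¹) ^ 2 := by
            rw [conj_pow]; group
        _ = (t : G) * r * (r⁻¹) ^ 2 := by rw [hvr, ← hrdef]
        _ = (t : G) * r ^ 3 * (r⁻¹) ^ 2 * r⁻¹ ^ 0 * (r ^ 3)⁻¹ * r := by group
        _ = (t : G) * (r⁻¹) ^ 2 * r := by rw [h3]; group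
        _ = (t : G) * r⁻¹ := by group
        _ = (t : G) * (r⁻¹ * r ^ 3) := by rw [h3, mul_one]
        _ = _ := by group
    refine h27 ?_
    set H := C ⊓ Subgroup.centralizer ({(v : G)} : Set G)
    refine dvd_trans ?_ (Subgroup.card_dvd_of_le (inf_le_right : H ≤ _))
    have hxH : x ∈ H := ⟨hxC, Subgroup.mem_centralizer_singleton_iff.2 (mul_inv_eq_iff_eq_mul.1 hvx).symm⟩
    let ρ : ↥H →* ↥C ⧸ N := π.comp (Subgroup.inclusion inf_le_left)
    have hker : Nat.card ρ.ker = Nat.card ↥(R ⊓ Subgroup.centralizer ({(v : G)} : Set G)) :=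
      Nat.card_congr
        { toFun := fun y => ⟨((y : H) : G), hπone.1 y.2, (y : H).2.2⟩
          invFun := fun y => ⟨⟨y.1, hRC y.2.1, y.2.2⟩, hπone.2 y.2.1⟩
          left_inv := fun _ => rfl
          right_inv := fun _ => rfl }
    have hπx : ρ ⟨x, hxH⟩ = π t := by
      refine (QuotientGroup.eq.2 (Subgroup.mem_subgroupOf.2 ?_) : π ⟨x, hxC⟩ = π t)
      show x⁻¹ * (t : G) ∈ R
      rw [show x⁻¹ * (t : G) = (r ^ 2)⁻¹ by show ((t : G) * r ^ 2)⁻¹ * t = _; group]
      exact inv_mem (pow_mem hr 2)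
    have h3 : 3 ∣ ρ.ker.index := by
      rw [Subgroup.index_ker, ← ht, ← hπx]
      exact Subgroup.orderOf_dvd_natCard _ ⟨⟨x, hxH⟩, rfl⟩
    rw [← ρ.ker.card_mul_index, hker]
    exact Nat.mul_dvd_mul h9 h3
  let zC : C := ⟨z, hzC⟩
  let wC : C := ⟨w, hwC⟩
  have keyz := fun t => key zC t hz h27z (by rw [hz9])
  have keyw := fun t => key wC t hw h27w (hnine w u wc hu wu huc)
  have keyzw := fun t => key (zC * wC) t
    (by show z * w * (z * w) = 1
        rw [show z * w * (z * w) = z * (w * z) * w by group, ← hzw, ← mul_assoc, hz, one_mul, hw])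
    h27zw (hnine (z * w) u' zwc hu' zwu' hu'c)
  -- four Sylow three-subgroups, one four group
  have h3' : Fact (Nat.Prime 3) := ⟨Nat.prime_three⟩
  have h2' : Fact (Nat.Prime 2) := ⟨Nat.prime_two⟩
  obtain ⟨tb, htb⟩ := exists_prime_orderOf_dvd_card' (G := ↥C ⧸ N) 3 (by rw [hA]; norm_num)
  obtain ⟨t, rfl⟩ := QuotientGroup.mk'_surjective N tb
  change orderOf (π t) = 3 at htb
  have hsq : ∀ {v : C}, (v : G) * v = 1 → π v * π v = 1 := fun hv => by
    rw [← map_mul]; exact hπone.2 (by rw [Subgroup.coe_mul, hv]; exact one_mem R)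
  have hzz : π zC * π zC = 1 := hsq hz
  have hww : π wC * π wC = 1 := hsq hw
  have hzwc : π zC * π wC = π wC * π zC := by
    rw [← map_mul, ← map_mul]; exact congrArg π (Subtype.ext hzw)
  have hzw2 : π (zC * wC) * π (zC * wC) = 1 := by
    rw [map_mul, mul_assoc, ← mul_assoc (π wC), ← hzwc, mul_assoc (π zC), hww, mul_one, hzz]
  have hn1 : Nat.card (Sylow 3 (↥C ⧸ N)) ≠ 1 := by
    intro h1
    have : Subsingleton (Sylow 3 (↥C ⧸ N)) := (Nat.card_eq_one_iff_unique.1 h1).1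
    have hp : IsPGroup 3 (Subgroup.zpowers (π t)) :=
      IsPGroup.of_card (n := 1) (by rw [Nat.card_zpowers, htb, pow_one])
    obtain ⟨P, hP⟩ := hp.exists_le_sylow
    have hP3 : Nat.card (P : Subgroup (↥C ⧸ N)) = 3 := by
      simpa using SmallGroups.Sylow.card_sylow_eq P (a := 1) (m := 4) (by rw [hA]; norm_num) (by norm_num)
    have hPz : (P : Subgroup (↥C ⧸ N)) = Subgroup.zpowers (π t) :=
      (Subgroup.eq_of_le_of_card_ge hP (by rw [hP3, Nat.card_zpowers, htb])).symm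
    have hconj : ∀ v : C, π v * π t * (π v)⁻¹ = π t ∨ π v * π t * (π v)⁻¹ = (π t)⁻¹ := by
      intro v
      have hn : (P : Subgroup (↥C ⧸ N)).Normal := P.normal_of_subsingleton
      have hm := hn.conj_mem _ (hP (Subgroup.mem_zpowers _)) (π v)
      rw [hPz, ← mem_powers_iff_mem_zpowers, mem_powers_iff_mem_range_orderOf, htb] at hm
      simp only [Finset.mem_image, Finset.mem_range] at hm
      obtain ⟨k, hk, hk'⟩ := hm
      have ht3 : π t ^ 3 = 1 := htb ▸ pow_orderOf_eq_one _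
      interval_cases k
      · exfalso
        rw [pow_zero, eq_comm, conj_eq_one_iff] at hk'
        rw [hk', orderOf_one] at htb; norm_num at htb
      · left; rw [pow_one] at hk'; exact hk'.symm
      · right; rw [← hk']; exact eq_inv_of_mul_eq_one_left (by rw [← pow_succ]; exact ht3)
    rcases hconj zC with e1 | e1
    · exact keyz t htb (mul_inv_eq_iff_eq_mul.1 e1)
    rcases hconj wC with e2 | e2
    · exact keyw t htb (mul_inv_eq_iff_eq_mul.1 e2)
    refine keyzw t htb (mul_inv_eq_iff_eq_mul.1 ?_)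
    rw [map_mul]
    calc π zC * π wC * π t * (π zC * π wC)⁻¹ = π zC * (π wC * π t * (π wC)⁻¹) * (π zC)⁻¹ := by group
      _ = (π zC * π t * (π zC)⁻¹)⁻¹ := by rw [e2]; group
      _ = π t := by rw [e1, inv_inv]
  have hS := SmallGroups.Counting.subsingleton_sylow_two_of_twelve hA hn1
  obtain ⟨S⟩ : Nonempty (Sylow 2 (↥C ⧸ N)) := inferInstance
  have hS4 : Nat.card (S : Subgroup (↥C ⧸ N)) = 4 := by
    simpa using SmallGroups.Sylow.card_sylow_eq S (a := 2) (m := 3) (by rw [hA]; norm_num) (by norm_num)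
  have hinS : ∀ {y : ↥C ⧸ N}, y * y = 1 → y ∈ (S : Subgroup (↥C ⧸ N)) := by
    intro y hy
    have hp : IsPGroup 2 (Subgroup.zpowers y) := by
      intro g
      refine ⟨1, ?_⟩
      obtain ⟨n, hn⟩ := g.2
      refine Subtype.ext ?_
      show (g : ↥C ⧸ N) ^ 2 ^ 1 = 1
      rw [← hn]
      simp only [pow_one]
      rw [← zpow_natCast, ← zpow_mul, mul_comm, zpow_mul, Nat.cast_ofNat, zpow_two, hy, one_zpow]
    obtain ⟨S', hS'⟩ := hp.exists_le_sylow
    rw [Subsingleton.elim S S']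
    exact hS' (Subgroup.mem_zpowers y)
  have hz_ne : π zC ≠ 1 := fun e' => keyz t htb (by rw [e', one_mul, mul_one])
  have hw_ne : π wC ≠ 1 := fun e' => keyw t htb (by rw [e', one_mul, mul_one])
  have hzw_ne : π (zC * wC) ≠ 1 := fun e' => keyzw t htb (by rw [e', one_mul, mul_one])
  have hdist : π zC ≠ π wC := fun e' => hzw_ne (by rw [map_mul, ← e', hzz])
  have hfour : ∀ y ∈ (S : Subgroup (↥C ⧸ N)), y = 1 ∨ y = π zC ∨ y = π wC ∨ y = π (zC * wC) := by
    intro y hy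
    have hzw' : π (zC * wC) ≠ π zC := fun e' => hw_ne (by rwa [map_mul, mul_eq_left] at e')
    have hzw'' : π (zC * wC) ≠ π wC := fun e' => hz_ne (by rwa [map_mul, mul_eq_right] at e')
    exact four_cases (S := ((S : Subgroup (↥C ⧸ N)) : Set (↥C ⧸ N)))
      (by rw [← Nat.card_coe_set_eq]; exact hS4) (one_mem _) (hinS hzz) (hinS hww) (hinS hzw2)
      (Ne.symm hz_ne) (Ne.symm hw_ne) (Ne.symm hzw_ne) hdist (Ne.symm hzw') (Ne.symm hzw'') hy
  have hmove : ∀ {y : ↥C ⧸ N}, y * y = 1 → y ≠ 1 → π t * y * (π t)⁻¹ = π zC ∨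
      π t * y * (π t)⁻¹ = π wC ∨ π t * y * (π t)⁻¹ = π (zC * wC) := by
    intro y hy hy1
    refine (hfour _ (hinS (by
      calc π t * y * (π t)⁻¹ * (π t * y * (π t)⁻¹) = π t * (y * y) * (π t)⁻¹ := by group
        _ = 1 := by rw [hy]; group))).resolve_left fun e' => hy1 (conj_eq_one_iff.1 e')
  have ht3 : π t ^ 3 = 1 := htb ▸ pow_orderOf_eq_one _
  -- the cycle
  have main : ∀ w' : C, (w' : G) * w' = 1 → (w' : G) * c * (w' : G)⁻¹ = c →
      (w' : G) * d * (w' : G)⁻¹ = d⁻¹ → π zC * π w' = π w' * π zC →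
      π t * π zC * (π t)⁻¹ = π w' → π w' * π t ≠ π t * π w' →
      (∀ y, y * y = 1 → y ≠ 1 → π t * y * (π t)⁻¹ = π zC ∨ π t * y * (π t)⁻¹ = π w' ∨
        π t * y * (π t)⁻¹ = π zC * π w') →
      ∃ e : ↥R ≃* Multiplicative V, co e (rep 0) = c ∧ co e (rep 1) = d ∧
        (∃ t : G, ∀ v, t * co e v * t⁻¹ = co e (rot v)) ∧
        (∃ s : G, ∀ v, s * co e v * s⁻¹ = co e (flip v)) := by
    intro w' hw' hw'c hw'd hzw' htz hkey hmv
    have hw'2 : π w' * π w' = 1 := hsq hw'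
    have hw'1 : π w' ≠ 1 := fun e' => hkey (by rw [e', one_mul, mul_one])
    have htw : π t * π w' * (π t)⁻¹ = π zC * π w' := by
      rcases hmv _ hw'2 hw'1 with e1 | e1 | e1
      · exfalso
        refine keyz t htb ?_
        have e2 : π t ^ 2 * π zC * (π t ^ 2)⁻¹ = π zC := by
          rw [pow_two]
          calc π t * π t * π zC * (π t * π t)⁻¹ = π t * (π t * π zC * (π t)⁻¹) * (π t)⁻¹ := by group
            _ = π zC := by rw [htz, e1]
        refine (mul_inv_eq_iff_eq_mul.1 ?_).symm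
        calc π t * π zC * (π t)⁻¹ = π t * (π t ^ 2 * π zC * (π t ^ 2)⁻¹) * (π t)⁻¹ := by rw [e2]
          _ = π t ^ 3 * π zC * (π t ^ 3)⁻¹ := by group
          _ = π zC := by rw [ht3]; group
      · exact absurd (mul_inv_eq_iff_eq_mul.1 e1).symm hkey
      · exact e1
    set d2 := (t : G) * d * (t : G)⁻¹ with hd2
    set d3 := (t : G) * d2 * (t : G)⁻¹ with hd3
    have hd2R : d2 ∈ R := hmapR t.2 hd
    have hd3R : d3 ∈ R := hmapR t.2 hd2R
    have move : ∀ {a b : C}, π t * π a * (π t)⁻¹ = π b → ∀ {x y : G}, x ∈ R → y ∈ R →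
        (a : G) * x * (a : G)⁻¹ = y → (b : G) * ((t : G) * x * (t : G)⁻¹) * (b : G)⁻¹ = t * y * (t : G)⁻¹ := by
      intro a b hab x y hx hy hxy
      rw [← map_inv, ← map_mul, ← map_mul] at hab
      rw [← hπeq hab _ (hmapR t.2 hx)]
      show (t : G) * a * (t : G)⁻¹ * (t * x * (t : G)⁻¹) * ((t : G) * a * (t : G)⁻¹)⁻¹ = _
      rw [← hxy]; group
    have hzw'' : π t * π (zC * w') * (π t)⁻¹ = π zC := by
      rw [map_mul]
      calc π t * (π zC * π w') * (π t)⁻¹ = (π t * π zC * (π t)⁻¹) * (π t * π w' * (π t)⁻¹) := by group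
        _ = π zC := by rw [htz, htw, hzw', ← mul_assoc, hw'2, one_mul]
    rw [← map_mul] at htw
    have zw'd : (z * (w' : G)) * d * (z * (w' : G))⁻¹ = d⁻¹ := by
      calc z * (w' : G) * d * (z * (w' : G))⁻¹ = z * ((w' : G) * d * (w' : G)⁻¹) * z⁻¹ := by group
        _ = (z * d * z⁻¹)⁻¹ := by rw [hw'd]; group
        _ = _ := by rw [zd]
    have wd2 : (w' : G) * d2 * (w' : G)⁻¹ = d2 := move htz hd hd zd
    have zd2 : z * d2 * z⁻¹ = d2⁻¹ := by
      have := move hzw'' hd (inv_mem hd) zw'd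
      rwa [show (t : G) * d⁻¹ * (t : G)⁻¹ = d2⁻¹ by rw [hd2]; group] at this
    have wd3 : (w' : G) * d3 * (w' : G)⁻¹ = d3⁻¹ := by
      have := move htz hd2R (inv_mem hd2R) zd2
      rwa [show (t : G) * d2⁻¹ * (t : G)⁻¹ = d3⁻¹ by rw [hd3]; group] at this
    have zd3 : z * d3 * z⁻¹ = d3⁻¹ := by
      have h1 : (z * (w' : G)) * d2 * (z * (w' : G))⁻¹ = d2⁻¹ := by
        calc z * (w' : G) * d2 * (z * (w' : G))⁻¹ = z * ((w' : G) * d2 * (w' : G)⁻¹) * z⁻¹ := by group
          _ = _ := by rw [wd2, zd2]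
      have := move hzw'' hd2R (inv_mem hd2R) h1
      rwa [show (t : G) * d2⁻¹ * (t : G)⁻¹ = d3⁻¹ by rw [hd3]; group] at this
    have td3 : (t : G) * d3 * (t : G)⁻¹ = d := by
      have hr : π (t ^ 3) = π 1 := by rw [map_pow, ht3, map_one]
      have := hπeq hr d hd
      rw [Subgroup.coe_pow, Subgroup.coe_one] at this
      rw [hd3, hd2]
      calc (t : G) * ((t : G) * ((t : G) * d * (t : G)⁻¹) * (t : G)⁻¹) * (t : G)⁻¹ =
          (t : G) ^ 3 * d * ((t : G) ^ 3)⁻¹ := by simp [pow_succ, mul_assoc]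
        _ = d := by rw [this]; group
    refine coords_of_cycle hR hexp hcomm hc hd hd2R hd3R hc1 hd1 ?_ ?_ zc zd zd2 zd3 hw'c hw'd wd2 wd3
      (hCmem.1 t.2) hd2.symm hd3.symm td3
    · rw [hd2]; exact fun e' => hd1 (conj_eq_one_iff.1 e')
    · rw [hd3, hd2]; exact fun e' => hd1 (conj_eq_one_iff.1 (conj_eq_one_iff.1 e'))
  rcases hmove hzz hz_ne with e1 | e1 | e1
  · exact absurd (mul_inv_eq_iff_eq_mul.1 e1).symm (keyz t htb)
  · refine main wC hw wc wd hzwc e1 (keyw t htb) fun y hy hy1 => ?_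
    rw [← map_mul]; exact hmove hy hy1
  · have hprod : π zC * π (zC * wC) = π wC := by rw [map_mul, ← mul_assoc, hzz, one_mul]
    refine main (zC * wC) ?_ ?_ ?_ ?_ e1 (keyzw t htb) fun y hy hy1 => ?_
    · show z * w * (z * w) = 1
      rw [show z * w * (z * w) = z * (w * z) * w by group, ← hzw, ← mul_assoc, hz, one_mul, hw]
    · show z * w * c * (z * w)⁻¹ = c
      calc z * w * c * (z * w)⁻¹ = z * (w * c * w⁻¹) * z⁻¹ := by group
        _ = c := by rw [wc, zc]
    · show z * w * d * (z * w)⁻¹ = d⁻¹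
      calc z * w * d * (z * w)⁻¹ = z * (w * d * w⁻¹) * z⁻¹ := by group
        _ = (z * d * z⁻¹)⁻¹ := by rw [wd]; group
        _ = d⁻¹ := by rw [zd]
    · rw [hprod, map_mul, hzwc, mul_assoc, hzz, mul_one]
    · rw [hprod]
      rcases hmove hy hy1 with e | e | e
      exacts [Or.inl e, Or.inr (Or.inr e), Or.inr (Or.inl e)]

end

end Cfsg.Agent.Lib.U43Graph14
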