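import Cfsg.Agent.Lib.U43Graph14.Orbits

/-!
# The elementary subgroup of order 81 is unique in the centraliser of `c`

If `R` is normal in `C(c)`, self-centralising, `|C(c)| = 972`, and some element acts on `R` as the three-cycle,
then every conjugate of `R` containing `c` equals `R`.
-/

set_option autoImplicit false
set_option linter.unusedSectionVars false

namespace Cfsg.Agent.Lib.U43Graph14

open Blocks

variable {G : Type*} [Group G] [Finite G] {R : Subgroup G} {e : ↥R ≃* Multiplicative V}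

theorem card_rot_fixed : Nat.card {v : V // rot v = v} = 9 := by
  rw [Nat.card_eq_fintype_card]; decide +kernel

/-- A power of an element acting as the three-cycle, of three-power order and still moving vectors. -/
theorem exists_rot_power {t : G} (ht : ∀ v, t * co e v * t⁻¹ = co e (rot v)) :
    ∃ (l a : ℕ), orderOf (t ^ l) = 3 ^ a ∧ t ^ l ∉ R ∧
      ∀ v, t ^ l * co e v = co e v * t ^ l → rot v = v := by
  obtain ⟨a, l, hl, hal⟩ := Nat.exists_eq_pow_mul_and_not_dvd (orderOf_pos t).ne' 3 (by norm_num)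
  have hiter : ∀ (n : ℕ) v, t ^ n * co e v * (t ^ n)⁻¹ = co e (rot^[n] v) := by
    intro n
    induction n with
    | zero => intro v; simp
    | succ n ih => intro v; rw [Function.iterate_succ_apply', ← ht, ← ih]; simp [pow_succ', mul_assoc]
  have hfix : ∀ v, t ^ l * co e v = co e v * t ^ l → rot v = v := by
    intro v hv
    have h1 : co e (rot^[l] v) = co e v := by rw [← hiter, hv]; group
    have h2 := co_injective h1
    rw [← Nat.mod_add_div l 3, Function.iterate_add_apply, Function.iterate_mul,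
      Function.iterate_fixed (show rot^[3] v = v from rot_rot_rot v)] at h2
    have hl3 : l % 3 = 1 ∨ l % 3 = 2 := by omega
    rcases hl3 with h' | h' <;> rw [h'] at h2
    · exact h2
    · calc rot v = rot (rot^[2] v) := by rw [h2]
        _ = v := rot_rot_rot v
  refine ⟨l, a, ?_, fun hR => ?_, hfix⟩
  · have hl0 : l ≠ 0 := fun e' => hl (e' ▸ dvd_zero 3)
    rw [orderOf_pow_of_dvd hl0 (hal ▸ dvd_mul_left l _), hal, Nat.mul_div_cancel _ (Nat.pos_of_ne_zero hl0)]
  · obtain ⟨w, hw⟩ := exists_co (e := e) hR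
    exact absurd (hfix (rep 1) (by rw [hw, co_comm])) (by decide)

/-- In a subgroup `H` of `N(R)` with Sylow three-subgroups of order 243 and an element acting as the three-cycle,
every three-subgroup has a conjugate in one whose elements outside `R` fix at most nine vectors. -/
theorem exists_sylow_rot {H : Subgroup G} (hRH : R ≤ H) (hHN : H ≤ Subgroup.normalizer (R : Set G))
    (h243 : 243 ∣ Nat.card H) (h729 : ¬ 729 ∣ Nat.card H) {t : G} (htH : t ∈ H)
    (ht : ∀ v, t * co e v * t⁻¹ = co e (rot v)) {Q : Subgroup G} (hQH : Q ≤ H) (hQ : IsPGroup 3 Q) :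
    ∃ k ∈ H, ∀ x ∈ Q, k * x * k⁻¹ ∉ R → ∀ v, k * x * k⁻¹ * co e v = co e v * (k * x * k⁻¹) → rot v = v := by
  classical
  have h3 : Fact (Nat.Prime 3) := ⟨by norm_num⟩
  obtain ⟨l, a, hla, htR, hfix⟩ := exists_rot_power ht
  let tH : H := ⟨t ^ l, pow_mem htH l⟩
  have htp : IsPGroup 3 (Subgroup.zpowers tH) := by
    refine IsPGroup.of_card (n := a) ?_
    rw [Nat.card_zpowers, ← Subgroup.orderOf_coe]
    exact hla
  obtain ⟨P, hP⟩ := htp.exists_le_sylow
  have hQp : IsPGroup 3 (Q.subgroupOf H) := hQ.of_equiv (Subgroup.subgroupOfEquivOfLe hQH).symm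
  obtain ⟨P', hP'⟩ := hQp.exists_le_sylow
  obtain ⟨k, hk⟩ := MulAction.exists_smul_eq H P' P
  refine ⟨k, k.2, fun x hx hxR v hv => ?_⟩
  have hcardP : Nat.card (P : Subgroup H) = 243 := by
    rw [P.card_eq_multiplicity]
    have hlo : 5 ≤ (Nat.card H).factorization 3 :=
      (Nat.Prime.pow_dvd_iff_le_factorization h3.out Nat.card_pos.ne').1 (by norm_num; exact h243)
    have hhi : ¬ 6 ≤ (Nat.card H).factorization 3 := fun h6 =>
      h729 (by simpa using (Nat.Prime.pow_dvd_iff_le_factorization h3.out Nat.card_pos.ne').2 h6)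
    rw [show (Nat.card H).factorization 3 = 5 by omega]; norm_num
  have hn : (R.subgroupOf H).Normal := ⟨fun y hy g => by
    rw [Subgroup.mem_subgroupOf] at hy ⊢
    simpa using (Subgroup.mem_normalizer_iff.1 (hHN g.2) _).1 hy⟩
  have hRP : R.subgroupOf H ≤ (P : Subgroup H) := by
    have hp : IsPGroup 3 (R.subgroupOf H) := by
      refine IsPGroup.of_card (n := 4) ?_
      rw [Nat.card_congr (Subgroup.subgroupOfEquivOfLe hRH).toEquiv, card_R e]
      norm_num
    have hsup : IsPGroup 3 ↥((P : Subgroup H) ⊔ R.subgroupOf H) := P.2.to_sup_of_normal_right hp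
    exact le_sup_right.trans (P.is_maximal' hsup le_sup_left).le
  let K : Subgroup (P : Subgroup H) := (R.subgroupOf H).subgroupOf P
  have hKn : K.Normal := hn.subgroupOf _
  have hq : Nat.card (↥(P : Subgroup H) ⧸ K) = 3 := by
    have h1 := K.card_mul_index
    rw [Nat.card_congr (Subgroup.subgroupOfEquivOfLe hRP).toEquiv,
      Nat.card_congr (Subgroup.subgroupOfEquivOfLe hRH).toEquiv, card_R e, hcardP] at h1
    show K.index = 3
    omega
  have hxP : (⟨k * x * (k : G)⁻¹, mul_mem (mul_mem k.2 (hQH hx)) (inv_mem k.2)⟩ : H) ∈ (P : Subgroup H) := by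
    rw [← hk, Sylow.coe_subgroup_smul, Subgroup.mem_pointwise_smul_iff_inv_smul_mem]
    refine hP' ?_
    rw [Subgroup.mem_subgroupOf]
    simpa [mul_assoc] using hx
  set y : G := k * x * (k : G)⁻¹ with hy
  have hne : ((⟨_, hxP⟩ : (P : Subgroup H)) : ↥(P : Subgroup H) ⧸ K) ≠ 1 := fun h1 =>
    hxR (Subgroup.mem_subgroupOf.1 (Subgroup.mem_subgroupOf.1 ((QuotientGroup.eq_one_iff (N := K) _).1 h1)))
  obtain ⟨j, hj⟩ := Subgroup.mem_zpowers_iff.1 (mem_zpowers_of_prime_card hq hne
    (g' := ((⟨tH, hP (Subgroup.mem_zpowers tH)⟩ : (P : Subgroup H)) : ↥(P : Subgroup H) ⧸ K)))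
  rw [← QuotientGroup.mk_zpow, QuotientGroup.eq] at hj
  have hr : (y ^ j)⁻¹ * t ^ l ∈ R := Subgroup.mem_subgroupOf.1 (Subgroup.mem_subgroupOf.1 hj)
  obtain ⟨w, hw⟩ := exists_co (e := e) hr
  refine hfix v ?_
  rw [show t ^ l = y ^ j * co e w by rw [← hw]; group]
  exact ((show Commute y (co e v) from hv).zpow_left j).mul_left (co_comm w v)

/-- Conjugates of `R` containing `c` are equal to `R`. -/
theorem uniq_of_cent (hcard : Nat.card (Subgroup.centralizer ({co e (rep 0)} : Set G)) = 972)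
    (hnorm : Subgroup.centralizer ({co e (rep 0)} : Set G) ≤ Subgroup.normalizer (R : Set G))
    {t : G} (ht : ∀ v, t * co e v * t⁻¹ = co e (rot v)) (g : G) (hg : g * co e (rep 0) * g⁻¹ ∈ R) :
    g ∈ Subgroup.normalizer (R : Set G) := by
  classical
  set C := Subgroup.centralizer ({co e (rep 0)} : Set G)
  set Q := R.map (MulAut.conj g⁻¹).toMonoidHom
  have hQ : ∀ {x}, x ∈ Q ↔ g * x * g⁻¹ ∈ R := by
    intro x
    simp only [Q, Subgroup.mem_map, MulEquiv.coe_toMonoidHom, MulAut.conj_apply]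
    constructor
    · rintro ⟨r, hr, rfl⟩; simpa [mul_assoc] using hr
    · intro hx; exact ⟨_, hx, by group⟩
  have hab : ∀ x ∈ Q, ∀ y ∈ Q, x * y = y * x := by
    intro x hx y hy
    obtain ⟨u, hu⟩ := exists_co (e := e) (hQ.1 hx)
    obtain ⟨v, hv⟩ := exists_co (e := e) (hQ.1 hy)
    calc x * y = g⁻¹ * (g * x * g⁻¹ * (g * y * g⁻¹)) * g := by group
      _ = g⁻¹ * (g * y * g⁻¹ * (g * x * g⁻¹)) * g := by rw [hu, hv, co_comm]
      _ = _ := by group
  have hRC : R ≤ C := fun x hx => by
    obtain ⟨v, rfl⟩ := exists_co (e := e) hx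
    exact Subgroup.mem_centralizer_singleton_iff.2 (co_comm _ _)
  have hQC : Q ≤ C := fun x hx => Subgroup.mem_centralizer_singleton_iff.2 (hab x hx _ (hQ.2 hg))
  have hQcard : Nat.card Q = 81 := by
    rw [Subgroup.card_map_of_injective (MulAut.conj g⁻¹).injective, card_R e]
  have hQp : IsPGroup 3 Q := IsPGroup.of_card (n := 4) (by rw [hQcard]; norm_num)
  have htC : t ∈ C := Subgroup.mem_centralizer_singleton_iff.2 (by
    have := ht (rep 0)
    rw [show rot (rep 0) = rep 0 by decide] at this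
    exact mul_inv_eq_iff_eq_mul.1 this)
  obtain ⟨k, hk, hfix⟩ := exists_sylow_rot hRC hnorm (by rw [hcard]; norm_num) (by rw [hcard]; norm_num)
    htC ht hQC hQp
  have hkN := hnorm hk
  by_cases hall : Q ≤ R
  · have hQR : Q = R := Subgroup.eq_of_le_of_card_ge hall (by rw [hQcard, card_R e])
    refine Subgroup.mem_normalizer_iff.2 fun y => ⟨fun hy => hQ.1 (hQR.symm ▸ hy), fun hy => ?_⟩
    exact hQR ▸ hQ.2 hy
  exfalso
  obtain ⟨x, hx, hxR⟩ := SetLike.not_le_iff_exists.1 hall
  have hxk : k * x * k⁻¹ ∉ R := fun hh => hxR ((Subgroup.mem_normalizer_iff.1 hkN x).2 hh)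
  have hbig : 27 ≤ Nat.card (R.subgroupOf Q) := by
    have h1 := (R.subgroupOf Q).card_mul_index
    have h2 : R.relIndex Q ∣ 12 := by
      have hn : (R.subgroupOf C).Normal := ⟨fun y hy c => by
        rw [Subgroup.mem_subgroupOf] at hy ⊢
        simpa using (Subgroup.mem_normalizer_iff.1 (hnorm c.2) _).1 hy⟩
      have h3 := Subgroup.relIndex_dvd_index_of_normal (R.subgroupOf C) (Q.subgroupOf C)
      rw [Subgroup.relIndex_subgroupOf hQC] at h3
      have h4 := (R.subgroupOf C).card_mul_index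
      rw [Nat.card_congr (Subgroup.subgroupOfEquivOfLe hRC).toEquiv, card_R e, hcard] at h4
      rwa [show (R.subgroupOf C).index = 12 by omega] at h3
    rw [hQcard] at h1
    change (R.subgroupOf Q).index ∣ 12 at h2
    have h5 : (R.subgroupOf Q).index ∣ 81 := ⟨_, by rw [mul_comm]; exact h1.symm⟩
    have h6 : (R.subgroupOf Q).index ∣ 3 := by
      have := Nat.dvd_gcd h2 h5
      exact this
    have h7 := Nat.le_of_dvd (by norm_num) h6
    have := Nat.mul_le_mul_left (Nat.card (R.subgroupOf Q)) h7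
    omega
  have hsmall : Nat.card (R.subgroupOf Q) ≤ Nat.card {v : V // rot v = v} := by
    have hc : ∀ y : R.subgroupOf Q, ∃ v, rot v = v ∧ co e v = k * ((y : Q) : G) * k⁻¹ := by
      intro y
      obtain ⟨v, hv⟩ := exists_co (e := e) ((Subgroup.mem_normalizer_iff.1 hkN _).1
        (Subgroup.mem_subgroupOf.1 y.2))
      refine ⟨v, hfix x hx hxk v ?_, hv.symm⟩
      rw [← hv]
      have := hab x hx _ (y : Q).2
      calc k * x * k⁻¹ * (k * ((y : Q) : G) * k⁻¹) = k * (x * ((y : Q) : G)) * k⁻¹ := by group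
        _ = k * (((y : Q) : G) * x) * k⁻¹ := by rw [this]
        _ = _ := by group
    choose v hv hvy using hc
    refine Nat.card_le_card_of_injective (fun y => ⟨v y, hv y⟩) fun y y' hyy => ?_
    have h1 : v y = v y' := congrArg Subtype.val hyy
    refine Subtype.ext (Subtype.ext ?_)
    have h2 : k * ((y : Q) : G) * k⁻¹ = k * ((y' : Q) : G) * k⁻¹ := by rw [← hvy, ← hvy, h1]
    exact mul_left_cancel (mul_right_cancel h2)
  rw [card_rot_fixed] at hsmall
  omega

end Cfsg.Agent.Lib.U43Graph14
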