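import Cfsg.Agent.Lib.U43Graph14.Local
import Cfsg.Agent.Lib.U43Graph14.Coords
import Cfsg.Agent.Lib.U43Graph14.Unique

/-!
# Recognition of the unitary group from the centralisers of `c`, `d` and `c * d`
-/

set_option autoImplicit false
set_option linter.unusedSectionVars false

namespace Cfsg.Agent.Lib.U43Graph14

open Blocks

variable {G : Type*} [Group G] [Finite G] {R : Subgroup G} {c d z w w' : G}

/-- An involution of `C(a)` central modulo an odd normal subgroup not containing `R` fixes more of `R` than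
the line of `a`. -/
theorem nine_dvd_fixed (hR : Nat.card R = 81) (hexp : ∀ x ∈ R, x ^ 3 = 1)
    (hcomm : ∀ x ∈ R, ∀ y ∈ R, x * y = y * x) {a v : G} (ha : a ∈ R) (ha1 : a ≠ 1)
    (hv2 : v * v = 1) (hva : v * a * v⁻¹ = a) (hvR : ∀ x ∈ R, v * x * v⁻¹ ∈ R)
    {O : Subgroup G} (haO : a ∈ O) (hRO : ¬ R ≤ O) (hcen : ∀ x ∈ R, v * x * v⁻¹ * x⁻¹ ∈ O) :
    9 ∣ Nat.card ↥(R ⊓ Subgroup.centralizer ({v} : Set G)) := by
  classical
  set F := R ⊓ Subgroup.centralizer ({v} : Set G)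
  obtain ⟨x, hx, hxO⟩ := SetLike.not_le_iff_exists.1 hRO
  set y := x * (v * x * v⁻¹) with hy
  have hyR : y ∈ R := R.mul_mem hx (hvR x hx)
  have hvy : v * y * v⁻¹ = y := by
    rw [hy]
    calc v * (x * (v * x * v⁻¹)) * v⁻¹ = v * x * v⁻¹ * ((v * v) * x * (v * v)⁻¹) := by group
      _ = v * x * v⁻¹ * x := by rw [hv2]; group
      _ = x * (v * x * v⁻¹) := hcomm _ (hvR x hx) _ hx
  have hyO : y ∉ O := fun hyO => hxO (by
    have h1 : v * x * v⁻¹ * x⁻¹ ∈ O := hcen x hx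
    have h2 : x ^ 2 ∈ O := by
      have e : y = x ^ 2 * (v * x * v⁻¹ * x⁻¹) := by
        rw [hy, pow_two, hcomm _ (hvR x hx) _ (R.inv_mem hx)]
        group
      have h3 := O.mul_mem hyO (O.inv_mem h1)
      rwa [e, mul_inv_cancel_right] at h3
    have h4 : x = (x ^ 2) ^ 2 := by
      rw [← pow_mul, show 2 * 2 = 3 + 1 from rfl, pow_succ, hexp x hx, one_mul]
    rw [h4]
    exact O.pow_mem h2 2)
  have hmem : ∀ {u : G}, u ∈ R → v * u * v⁻¹ = u → u ∈ F := fun hu hvu =>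
    ⟨hu, Subgroup.mem_centralizer_singleton_iff.2 (mul_inv_eq_iff_eq_mul.1 hvu).symm⟩
  have h1 : Subgroup.zpowers a ≤ F := Subgroup.zpowers_le.2 (hmem ha hva)
  have hoa : orderOf a = 3 := orderOf_eq_prime (hexp a ha) ha1
  have hd81 : Nat.card F ∣ 3 ^ 4 := by
    rw [show (3 : ℕ) ^ 4 = Nat.card R by rw [hR]; norm_num]
    exact Subgroup.card_dvd_of_le inf_le_left
  obtain ⟨k, hk, hk'⟩ := (Nat.dvd_prime_pow Nat.prime_three).1 hd81
  have hlt : 3 < Nat.card F := by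
    have hle := Subgroup.card_le_of_le h1
    rw [Nat.card_zpowers, hoa] at hle
    refine lt_of_le_of_ne hle fun e => hyO ?_
    have heq := Subgroup.eq_of_le_of_card_ge h1 (by rw [← e, Nat.card_zpowers, hoa])
    have : y ∈ Subgroup.zpowers a := heq.symm ▸ hmem hyR hvy
    exact Subgroup.zpowers_le.2 haO this
  rw [hk']
  rw [hk'] at hlt
  interval_cases k <;> revert hlt <;> norm_num

/-- The centralisers of `c`, `d` and `c * d` determine the group. -/
theorem nonempty_psu_of_centralisers [IsSimpleGroup G] (hG : Nat.card G = 3265920)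
    (hR : Nat.card R = 81) (hexp : ∀ x ∈ R, x ^ 3 = 1) (hcomm : ∀ x ∈ R, ∀ y ∈ R, x * y = y * x)
    (hcent : Subgroup.centralizer (R : Set G) ≤ R)
    (hc : c ∈ R) (hc1 : c ≠ 1) (hd : d ∈ R) (hd1 : d ≠ 1)
    (hcardc : Nat.card (Subgroup.centralizer ({c} : Set G)) = 972)
    (hcardd : Nat.card (Subgroup.centralizer ({d} : Set G)) = 972)
    (hnormc : Subgroup.centralizer ({c} : Set G) ≤ Subgroup.normalizer (R : Set G))
    (hnormd : Subgroup.centralizer ({d} : Set G) ≤ Subgroup.normalizer (R : Set G))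
    (hcarda : Nat.card (Subgroup.centralizer ({c * d} : Set G)) = 5832)
    (hz : z * z = 1) (hw : w * w = 1) (hw' : w' * w' = 1) (hzw : z * w = w * z) (hzw' : z * w' = w' * z)
    (zc : z * c * z⁻¹ = c) (wc : w * c * w⁻¹ = c) (zd : z * d * z⁻¹ = d) (wd : w * d * w⁻¹ = d⁻¹)
    (wd' : w' * d * w'⁻¹ = d) (wc' : w' * c * w'⁻¹ = c⁻¹)
    (hz9 : Nat.card ↥(R ⊓ Subgroup.centralizer ({z} : Set G)) = 9)
    (h27 : ∀ v : G, orderOf v = 2 → ¬ 27 ∣ Nat.card (Subgroup.centralizer ({v} : Set G)))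
    (hnc : ¬ IsConj c d) (hinvc : IsConj c c⁻¹) (hinvd : IsConj d d⁻¹)
    (hfour : ¬ 4 ∣ Nat.card ↥(Subgroup.centralizer ({c * d} : Set G) ⊓ Subgroup.normalizer (R : Set G)))
    (K : Type) [Field K] [Fintype K] (hK : Fintype.card K = 9) :
    Nonempty (G ≃* Cfsg.PSU 4 K 3) := by
  have hne : ∀ {x : G}, x ∈ R → x ≠ 1 → x⁻¹ ≠ x := fun hx hx1 e => hx1 (by
    have h := hexp _ hx
    rw [pow_succ, pow_two] at h
    nth_rewrite 1 [← e] at h
    simpa using h)
  have hord : ∀ {v x : G}, v * v = 1 → x ∈ R → x ≠ 1 → v * x * v⁻¹ = x⁻¹ → orderOf v = 2 := by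
    intro v x hv hx hx1 hvx
    refine orderOf_eq_prime (by rw [pow_two]; exact hv) fun e => hne hx hx1 ?_
    rw [← hvx, e]; group
  have hd2 : d * d ≠ 1 := fun e => hne hd hd1 (inv_eq_of_mul_eq_one_right e)
  have hz2 : orderOf z = 2 := by
    refine orderOf_eq_prime (by rw [pow_two]; exact hz) fun e => ?_
    subst e
    have : R ⊓ Subgroup.centralizer ({(1 : G)} : Set G) = R := inf_eq_left.2 fun x _ =>
      Subgroup.mem_centralizer_singleton_iff.2 (by simp)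
    rw [this, hR] at hz9
    norm_num at hz9
  have hzw2 : ∀ {v x : G}, v * v = 1 → z * v = v * z → x ∈ R → x ≠ 1 → z * x * z⁻¹ = x →
      v * x * v⁻¹ = x⁻¹ → orderOf (z * v) = 2 := by
    intro v x hv hzv hx hx1 hzx hvx
    refine hord ?_ hx hx1 ?_
    · rw [show z * v * (z * v) = z * (v * z) * v by group, ← hzv, ← mul_assoc, hz, one_mul, hv]
    · calc z * v * x * (z * v)⁻¹ = z * (v * x * v⁻¹) * z⁻¹ := by group
        _ = (z * x * z⁻¹)⁻¹ := by rw [hvx]; group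
        _ = x⁻¹ := by rw [hzx]
  obtain ⟨e, hec, hed, ⟨t, ht⟩, hflip⟩ := exists_coords hR hexp hcomm hcent hcardc hnormc hc hc1 hd hd1
    hz hw hzw zc wc zd wd hz9 (h27 z hz2) (h27 w (hord hw hd hd1 wd)) (h27 _ (hzw2 hw hzw hd hd1 zd wd))
  obtain ⟨e', hec', -, ⟨t', ht'⟩, -⟩ := exists_coords hR hexp hcomm hcent hcardd hnormd hd hd1 hc hc1
    hz hw' hzw' zd wd' zc wc' hz9 (h27 z hz2) (h27 w' (hord hw' hc hc1 wc'))
    (h27 _ (hzw2 hw' hzw' hc hc1 zc wc'))
  have hea : co e (rep 2) = c * d := by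
    rw [show rep 2 = rep 0 + rep 1 by decide, co_add, hec, hed]
  refine Local.nonempty_psu (R := R) (e := e) ⟨hG, hcent, ?_, ?_, ?_, ?_, ?_, ?_, ?_, ?_, ⟨t, ht⟩, hflip, ?_⟩ K hK
  · rw [hec]; exact hcardc
  · rw [hed]; exact hcardd
  · rw [hea]; exact hcarda
  · intro g hg
    exact uniq_of_cent (e := e) (by rw [hec]; exact hcardc) (by rw [hec]; exact hnormc) ht g hg
  · intro g hg
    refine uniq_of_cent (e := e') (by rw [hec']; exact hcardd) (by rw [hec']; exact hnormd) ht' g ?_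
    rw [hec']; rwa [hed] at hg
  · rw [hec, hed]; exact hnc
  · rw [hec]; exact hinvc
  · rw [hed]; exact hinvd
  · rw [hea]; exact hfour

end Cfsg.Agent.Lib.U43Graph14
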