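import Cfsg.Agent.Lib.U43Graph14.Coord

/-!
# Sets of vectors stable under the alternating group on four letters and negation

The coordinates `y` have `y 0` on the fixed line and the other three permuted by the three-cycle and changed in
sign by the four group.
-/

set_option autoImplicit false
set_option maxRecDepth 20000

namespace Cfsg.Agent.Lib.U43Graph14.Blocks

/-- The three-cycle. -/
def rot (v : V) : V := ![v 0, v 2, v 3, v 1]

/-- One involution of the four group. -/
def flip (v : V) : V := ![v 0, v 1, -v 2, -v 3]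

/-- The change of coordinates to those of the form. -/
def toX : V ≃+ V where
  toFun v := ![v 1 - v 0, v 1 + v 0, v 2, v 3]
  invFun v := ![2 * (v 1 - v 0), 2 * (v 1 + v 0), v 2, v 3]
  left_inv := by decide +kernel
  right_inv := by decide +kernel
  map_add' u v := by
    funext i
    fin_cases i <;> simp <;> ring

/-- The block of a vector. -/
def blk (v : V) : Fin 8 :=
  let n := (if v 1 = 0 then 0 else 1) + (if v 2 = 0 then 0 else 1) + (if v 3 = 0 then 0 else 1)
  if n = 0 then 0
  else if n = 1 then (if v 0 = 0 then 1 else 2)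
  else if n = 2 then (if v 0 = 0 then 3 else 4)
  else if v 0 = 0 then 5 else if v 0 * v 1 * v 2 * v 3 = 1 then 6 else 7

/-- A vector in each block. -/
def rep : Fin 8 → V :=
  ![![1, 0, 0, 0], ![0, 1, 0, 0], ![1, 1, 0, 0], ![0, 1, 1, 0], ![1, 1, 1, 0], ![0, 1, 1, 1],
    ![1, 1, 1, 1], ![1, 1, 1, 2]]

theorem blk_rep : ∀ i, blk (rep i) = i := by decide +kernel

theorem rep_ne_zero : ∀ i, rep i ≠ 0 := by decide +kernel

theorem qv_toX : ∀ v : V, v ≠ 0 → (qv (toX v) = 0 ↔ blk v = 2 ∨ blk v = 5) := by decide +kernel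

/-- The words in the generators. -/
def word (k : Fin 3 × Fin 4 × Bool) (v : V) : V :=
  let w := rot^[k.1.val] v
  let w' := ![w, flip w, rot (flip (rot (rot w))), flip (rot (flip (rot (rot w))))] k.2.1
  if k.2.2 then -w' else w'

theorem exists_word : ∀ v : V, v ≠ 0 → ∃ k, word k (rep (blk v)) = v := by decide +kernel

theorem flip_flip : ∀ v, flip (flip v) = v := by decide +kernel

theorem rot_rot_rot : ∀ v, rot (rot (rot v)) = v := by decide +kernel

/-- A union of blocks. -/
def union (b : Fin 8 → Bool) : Finset V := Finset.univ.filter fun v => v ≠ 0 ∧ b (blk v) = true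

theorem mem_union {b : Fin 8 → Bool} {v : V} : v ∈ union b ↔ v ≠ 0 ∧ b (blk v) = true := by
  simp [union]

/-- A stable set is a union of blocks. -/
theorem eq_union (S : Finset V) (h0 : (0 : V) ∉ S) (hr : ∀ v ∈ S, rot v ∈ S) (hf : ∀ v ∈ S, flip v ∈ S)
    (hn : ∀ v ∈ S, -v ∈ S) : S = union fun i => decide (rep i ∈ S) := by
  have hr' : ∀ v, rot v ∈ S ↔ v ∈ S := fun v =>
    ⟨fun h => rot_rot_rot v ▸ hr _ (hr _ h), hr v⟩
  have hf' : ∀ v, flip v ∈ S ↔ v ∈ S := fun v => ⟨fun h => flip_flip v ▸ hf _ h, hf v⟩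
  have hn' : ∀ v, -v ∈ S ↔ v ∈ S := fun v => ⟨fun h => neg_neg v ▸ hn _ h, hn v⟩
  have hit : ∀ (n : ℕ) (v : V), rot^[n] v ∈ S ↔ v ∈ S := by
    intro n
    induction n with
    | zero => intro v; rfl
    | succ n ih => intro v; rw [Function.iterate_succ_apply', hr', ih]
  have hw : ∀ k v, word k v ∈ S ↔ v ∈ S := by
    rintro ⟨i, j, s⟩ v
    unfold word
    cases s <;> fin_cases j <;> simp [hr', hf', hn', hit]
  ext v
  simp only [mem_union, decide_eq_true_eq]
  constructor
  · intro hv
    have hv0 : v ≠ 0 := fun e => h0 (e ▸ hv)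
    obtain ⟨k, hk⟩ := exists_word v hv0
    exact ⟨hv0, (hw k _).1 (hk.symm ▸ hv)⟩
  · rintro ⟨hv0, hv⟩
    obtain ⟨k, hk⟩ := exists_word v hv0
    exact hk ▸ (hw k _).2 hv

theorem card_pair : ∀ b : Fin 8 → Bool, b 0 = true → b 1 = false → b 2 = false → (union b).card ≤ 34 →
    ∀ k : Fin 46, 4 * (union b).card = 3 * k.val → 4 ∣ k.val → k.val ∣ 4480 →
      k.val = 40 ∧ b 3 = true ∧ b 4 = false ∧
        ((b 5 = false ∧ b 6 = true ∧ b 7 = true) ∨ (b 5 = true ∧ b 6 = false ∧ b 7 = true) ∨
          (b 5 = true ∧ b 6 = true ∧ b 7 = false)) := by decide +kernel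

theorem card_second : ∀ b : Fin 8 → Bool, b 0 = false → b 1 = true → b 2 = false → b 3 = false →
    (union b).card = 30 → (b 5 = false ∨ b 6 = false ∨ b 7 = false) →
      b 4 = true ∧ b 5 = false ∧ b 6 = false ∧ b 7 = false := by decide +kernel

theorem card_third : ∀ b : Fin 8 → Bool, b 0 = false → b 1 = false → b 2 = true → b 3 = false → b 4 = false →
    (union b).card = 20 →
      ((b 5 = true ∧ b 6 = false ∧ b 7 = false) ∨ (b 5 = false ∧ b 6 = true ∧ b 7 = false) ∨
          (b 5 = false ∧ b 6 = false ∧ b 7 = true)) := by decide +kernel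

theorem twelve_le : ∀ b : Fin 8 → Bool, b 2 = true → 12 ≤ (union b).card := by decide +kernel

/-- The number of members whose sum with the given one is a member. -/
def num (S : Finset V) (p : V) : ℕ := (S.filter fun q => p + q ∈ S).card

theorem not_six : num (union fun i => decide (i = 2 ∨ i = 6)) (rep 2) ≠
    num (union fun i => decide (i = 2 ∨ i = 6)) (rep 6) := by decide +kernel

theorem not_seven : num (union fun i => decide (i = 2 ∨ i = 7)) (rep 2) ≠
    num (union fun i => decide (i = 2 ∨ i = 7)) (rep 7) := by decide +kernel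

theorem covers : ∀ (b c : Fin 8 → Bool), b 0 = true → b 3 = true → b 6 = true → b 7 = true → c 1 = true →
    c 4 = true → ∀ i : Fin 8, ¬ (i = 2 ∨ i = 5) → b i = true ∨ c i = true := by
  intro b c h0 h3 h6 h7 h1 h4 i hi
  fin_cases i <;> simp_all

theorem two_six (b : Fin 8 → Bool) (h0 : b 0 = false) (h1 : b 1 = false) (h2 : b 2 = true) (h3 : b 3 = false)
    (h4 : b 4 = false) (h5 : b 5 = false) (h6 : b 6 = true) (h7 : b 7 = false) :
    ∀ i, b i = true ↔ i = 2 ∨ i = 6 := by
  intro i; fin_cases i <;> simp_all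

theorem two_seven (b : Fin 8 → Bool) (h0 : b 0 = false) (h1 : b 1 = false) (h2 : b 2 = true) (h3 : b 3 = false)
    (h4 : b 4 = false) (h5 : b 5 = false) (h6 : b 6 = false) (h7 : b 7 = true) :
    ∀ i, b i = true ↔ i = 2 ∨ i = 7 := by
  intro i; fin_cases i <;> simp_all

end Cfsg.Agent.Lib.U43Graph14.Blocks
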