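import Cfsg.Agent.Lib.U43Graph14.Assemble
import Cfsg.Agent.Lib.ZStar.UniqueCase

/-!
# An element of order three whose centraliser has Sylow two-subgroups with one involution
-/

set_option autoImplicit false
set_option linter.unusedSectionVars false

namespace Cfsg.Agent.Lib.U43Graph14

open Cfsg.Agent.Lib

universe u

variable {G : Type u} [Group G] [Finite G]

theorem orderOf_conj (g x : G) : orderOf (g * x * g⁻¹) = orderOf x := by
  rw [← MulAut.conj_apply, MulEquiv.orderOf_eq]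

/-- If `z` is the only involution of `C(a) ∩ C(z)`, then `C(a)` has one class of involutions and `z` is
central in it modulo an odd normal subgroup. -/
theorem one_involution {a z : G} (hz : orderOf z = 2) (hza : z * a = a * z)
    (huniq : ∀ v : G, orderOf v = 2 → v * a = a * v → v * z = z * v → v = z) :
    (∀ v : G, orderOf v = 2 → v * a = a * v → ∃ g : G, g * a = a * g ∧ g * v * g⁻¹ = z) ∧
    ∃ O : Subgroup G, O ≤ Subgroup.centralizer ({a} : Set G) ∧ Odd (Nat.card O) ∧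
      (∀ g ∈ Subgroup.centralizer ({a} : Set G), ∀ x ∈ O, g * x * g⁻¹ ∈ O) ∧
      ∀ g ∈ Subgroup.centralizer ({a} : Set G), z * g * z⁻¹ * g⁻¹ ∈ O := by
  classical
  have : Fact (Nat.Prime 2) := ⟨Nat.prime_two⟩
  set X := Subgroup.centralizer ({a} : Set G) with hX
  let zX : X := ⟨z, Subgroup.mem_centralizer_singleton_iff.2 hza⟩
  have hzX : orderOf zX = 2 := by rw [← Subgroup.orderOf_coe]; exact hz
  have huX : ∀ v : X, orderOf v = 2 → v * zX = zX * v → v = zX := fun v hv hc => Subtype.ext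
    (huniq v (by rw [Subgroup.orderOf_coe]; exact hv) (Subgroup.mem_centralizer_singleton_iff.1 v.2)
      (congrArg Subtype.val hc))
  have hp : IsPGroup 2 (Subgroup.zpowers zX) :=
    IsPGroup.of_card (n := 1) (by rw [Nat.card_zpowers, hzX, pow_one])
  obtain ⟨S, hS⟩ := hp.exists_le_sylow
  have hzS : zX ∈ (S : Subgroup X) := hS (Subgroup.mem_zpowers zX)
  -- a central involution of `S` is `z`
  have hcentral : ∀ y ∈ (S : Subgroup X), y * zX = zX * y := by
    have hnt : Nontrivial (S : Subgroup X) := ⟨⟨⟨zX, hzS⟩, 1, fun h => by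
      rw [show zX = 1 from congrArg Subtype.val h, orderOf_one] at hzX; norm_num at hzX⟩⟩
    have := S.2.center_nontrivial
    have hcp : IsPGroup 2 (Subgroup.center (S : Subgroup X)) := S.2.to_subgroup _
    obtain ⟨k, hk0, hk⟩ := hcp.nontrivial_iff_card.1 this
    obtain ⟨c, hc⟩ := exists_prime_orderOf_dvd_card' (G := Subgroup.center (S : Subgroup X)) 2
      (by rw [hk]; exact dvd_pow_self 2 (Nat.pos_iff_ne_zero.1 hk0))
    have hcS : ∀ y ∈ (S : Subgroup X), y * ((c : (S : Subgroup X)) : X) = ((c : (S : Subgroup X)) : X) * y :=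
      fun y hy => congrArg Subtype.val (Subgroup.mem_center_iff.1 c.2 ⟨y, hy⟩)
    have hcz : ((c : (S : Subgroup X)) : X) = zX := huX _
      (by rw [Subgroup.orderOf_coe, Subgroup.orderOf_coe]; exact hc) (hcS zX hzS).symm
    rw [← hcz]; exact hcS
  have hone : ∀ v ∈ (S : Subgroup X), orderOf v = 2 → v = zX := fun v hv hv2 => huX v hv2 (hcentral v hv)
  have hiso : ∀ g : X, g * zX * g⁻¹ ∈ (S : Subgroup X) → g * zX * g⁻¹ = zX := fun g hg =>
    hone _ hg (by rw [orderOf_conj]; exact hzX)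
  refine ⟨fun v hv hva => ?_, ?_⟩
  · let vX : X := ⟨v, Subgroup.mem_centralizer_singleton_iff.2 hva⟩
    have hvX : orderOf vX = 2 := by rw [← Subgroup.orderOf_coe]; exact hv
    have hp' : IsPGroup 2 (Subgroup.zpowers vX) :=
      IsPGroup.of_card (n := 1) (by rw [Nat.card_zpowers, hvX, pow_one])
    obtain ⟨S', hS'⟩ := hp'.exists_le_sylow
    obtain ⟨g, hg⟩ := MulAction.exists_smul_eq X S' S
    refine ⟨g, Subgroup.mem_centralizer_singleton_iff.1 g.2, ?_⟩
    have hmem : g * vX * g⁻¹ ∈ (S : Subgroup X) := by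
      rw [← hg, Sylow.coe_subgroup_smul, Subgroup.mem_pointwise_smul_iff_inv_smul_mem]
      simpa [mul_assoc] using hS' (Subgroup.mem_zpowers vX)
    exact congrArg Subtype.val (hone _ hmem (by rw [orderOf_conj]; exact hvX))
  · obtain ⟨N, hN, hodd, hcom⟩ := ZStar.UniqueCase.zstar S zX hzX hzS hiso
    refine ⟨N.map X.subtype, Subgroup.map_subtype_le _, ?_, ?_, ?_⟩
    · rwa [Subgroup.card_map_of_injective X.subtype_injective]
    · rintro g hg _ ⟨x, hx, rfl⟩
      exact ⟨⟨g, hg⟩ * x * ⟨g, hg⟩⁻¹, hN.conj_mem x hx _, rfl⟩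
    · intro g hg
      exact ⟨_, hcom ⟨g, hg⟩, rfl⟩

/-- The stabiliser of `a` in `N(R)` has no subgroup of order four. -/
theorem not_four_dvd {R : Subgroup G} {a z : G} (hR : Nat.card R = 81) (hexp : ∀ x ∈ R, x ^ 3 = 1)
    (hcomm : ∀ x ∈ R, ∀ y ∈ R, x * y = y * x) (ha : a ∈ R) (ha1 : a ≠ 1)
    (hz : orderOf z = 2) (hza : z * a = a * z) (hzR : ∀ x ∈ R, z * x * z⁻¹ ∈ R)
    (huniq : ∀ v : G, orderOf v = 2 → v * a = a * v → v * z = z * v → v = z)
    (hsmall : ∀ F : Subgroup G, F ≤ Subgroup.centralizer ({a} : Set G) ⊓ Subgroup.centralizer ({z} : Set G) →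
      Odd (Nat.card F) →
      (∀ g ∈ Subgroup.centralizer ({a} : Set G) ⊓ Subgroup.centralizer ({z} : Set G),
        ∀ x ∈ F, g * x * g⁻¹ ∈ F) → Nat.card F ≤ 3)
    (hnine : ∀ F : Subgroup G, F ≤ Subgroup.centralizer ({a} : Set G) ⊓ Subgroup.centralizer ({z} : Set G) →
      Nat.card F = 9 → ¬ 4 ∣ Nat.card ↥(Subgroup.centralizer ({a} : Set G) ⊓
        Subgroup.centralizer ({z} : Set G) ⊓ Subgroup.normalizer (F : Set G)))
    (hz9 : 9 ∣ Nat.card ↥(R ⊓ Subgroup.centralizer ({z} : Set G)))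
    (h27 : ∀ v : G, orderOf v = 2 → ¬ 27 ∣ Nat.card (Subgroup.centralizer ({v} : Set G))) :
    ¬ 4 ∣ Nat.card ↥(Subgroup.centralizer ({a} : Set G) ⊓ Subgroup.normalizer (R : Set G)) := by
  classical
  intro h4
  have : Fact (Nat.Prime 2) := ⟨Nat.prime_two⟩
  obtain ⟨hconj, O, hOX, hOodd, hOn, hOc⟩ := one_involution hz hza huniq
  set X := Subgroup.centralizer ({a} : Set G)
  set Cz := Subgroup.centralizer ({z} : Set G)
  set N := Subgroup.normalizer (R : Set G)
  have hRX : R ≤ X := fun x hx => Subgroup.mem_centralizer_singleton_iff.2 (hcomm x hx a ha)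
  have hRO : ¬ R ≤ O := by
    intro hle
    have h1 : Nat.card ↥(O ⊓ Cz) ≤ 3 := hsmall _ (inf_le_inf_right _ hOX)
      (hOodd.of_dvd_nat (Subgroup.card_dvd_of_le inf_le_left)) (by
        rintro g ⟨hgX, hgz⟩ x ⟨hxO, hxz⟩
        exact ⟨hOn g hgX x hxO, Cz.mul_mem (Cz.mul_mem hgz hxz) (Cz.inv_mem hgz)⟩)
    have h2 := Subgroup.card_le_of_le (inf_le_inf_right Cz hle : R ⊓ Cz ≤ O ⊓ Cz)
    have h3 := Nat.le_of_dvd Nat.card_pos hz9
    omega
  have haO' : Subgroup.zpowers a ⊔ O ≤ X :=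
    sup_le (Subgroup.zpowers_le.2 (Subgroup.mem_centralizer_singleton_iff.2 rfl)) hOX
  -- a two-subgroup of order four
  obtain ⟨T, hT⟩ := Sylow.exists_subgroup_card_pow_prime (G := ↥(X ⊓ N)) 2 (n := 2) (by simpa using h4)
  have hTp : IsPGroup 2 T := IsPGroup.of_card hT
  have hnt : Nontrivial T := Finite.one_lt_card_iff_nontrivial.1 (by rw [hT]; norm_num)
  have := hTp.center_nontrivial
  obtain ⟨k, hk0, hk⟩ := (hTp.to_subgroup (Subgroup.center T)).nontrivial_iff_card.1 this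
  obtain ⟨c, hc⟩ := exists_prime_orderOf_dvd_card' (G := Subgroup.center T) 2
    (by rw [hk]; exact dvd_pow_self 2 (Nat.pos_iff_ne_zero.1 hk0))
  set v : G := (((c : T) : ↥(X ⊓ N)) : G) with hv
  have hv2 : orderOf v = 2 := by
    rw [hv, Subgroup.orderOf_coe, Subgroup.orderOf_coe, Subgroup.orderOf_coe]; exact hc
  obtain ⟨hvX, hvN⟩ := ((c : T) : ↥(X ⊓ N)).2
  obtain ⟨g, hga, hgv⟩ := hconj v hv2 (Subgroup.mem_centralizer_singleton_iff.1 hvX)
  have hgX : g ∈ X := Subgroup.mem_centralizer_singleton_iff.2 hga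
  have hvR : ∀ x ∈ R, v * x * v⁻¹ ∈ R := fun x hx => (Subgroup.mem_normalizer_iff.1 hvN x).1 hx
  have hvv : v * v = 1 := by
    have := pow_orderOf_eq_one v
    rwa [hv2, pow_two] at this
  -- `v` is central modulo `O`
  have hvO : ∀ x ∈ X, v * x * v⁻¹ * x⁻¹ ∈ O := by
    intro x hx
    have h1 := hOn g⁻¹ (X.inv_mem hgX) _ (hOc (g * x * g⁻¹) (X.mul_mem (X.mul_mem hgX hx) (X.inv_mem hgX)))
    have h2 : g⁻¹ * (z * (g * x * g⁻¹) * z⁻¹ * (g * x * g⁻¹)⁻¹) * g⁻¹⁻¹ = v * x * v⁻¹ * x⁻¹ := by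
      rw [← hgv]; group
    rwa [h2] at h1
  -- enlarge `O` by `a`
  have hO' : ¬ R ≤ Subgroup.zpowers a ⊔ O := by
    intro hle
    have hn : ∀ u ∈ Subgroup.zpowers a, ∀ x ∈ X, x * u = u * x := by
      rintro u ⟨n, rfl⟩ x hx
      exact (show Commute x a from Subgroup.mem_centralizer_singleton_iff.1 hx).zpow_right n
    have hsmall' := hsmall ((Subgroup.zpowers a ⊔ O) ⊓ Cz) (inf_le_inf_right _ haO') ?_ ?_
    · have h2 := Subgroup.card_le_of_le (inf_le_inf_right Cz hle : R ⊓ Cz ≤ (Subgroup.zpowers a ⊔ O) ⊓ Cz)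
      have h3 := Nat.le_of_dvd Nat.card_pos hz9
      omega
    · refine Odd.of_dvd_nat ?_ (Subgroup.card_dvd_of_le inf_le_left)
      rw [← Nat.not_even_iff_odd, even_iff_two_dvd]
      intro h2
      obtain ⟨x, hx⟩ := exists_prime_orderOf_dvd_card' (G := ↥(Subgroup.zpowers a ⊔ O)) 2 h2
      have hle : Subgroup.zpowers a ≤ Subgroup.centralizer (O : Set G) := fun u hu =>
        Subgroup.mem_centralizer_iff.2 fun o ho => hn u hu o (hOX ho)
      have hxm : (x : G) ∈ ((Subgroup.zpowers a ⊔ O : Subgroup G) : Set G) := x.2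
      rw [Subgroup.coe_mul_of_left_le_normalizer_right _ _
        (hle.trans (Subgroup.centralizer_le_normalizer _))] at hxm
      obtain ⟨u, hu, o, ho, huo⟩ := hxm
      have hc : Commute u o := (hn u hu o (hOX ho)).symm
      have hpow : (x : G) ^ (3 * Nat.card O) = 1 := by
        rw [← huo]
        show (u * o) ^ _ = 1
        rw [hc.mul_pow]
        have h3 : orderOf u ∣ 3 := by
          have := Subgroup.orderOf_dvd_natCard _ hu
          rwa [Nat.card_zpowers, orderOf_eq_prime (hexp a ha) ha1] at this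
        rw [orderOf_dvd_iff_pow_eq_one.1 (h3.trans (dvd_mul_right _ _)),
          orderOf_dvd_iff_pow_eq_one.1 ((Subgroup.orderOf_dvd_natCard _ ho).trans (dvd_mul_left _ _)), one_mul]
      have hd := orderOf_dvd_of_pow_eq_one hpow
      rw [Subgroup.orderOf_coe, hx] at hd
      exact (Nat.not_even_iff_odd.2 (Odd.mul (by decide) hOodd)) (even_iff_two_dvd.2 hd)
    · rintro h ⟨hhX, hhz⟩ x ⟨hx, hxz⟩
      refine ⟨?_, Cz.mul_mem (Cz.mul_mem hhz hxz) (Cz.inv_mem hhz)⟩
      have hm : (Subgroup.zpowers a ⊔ O).map (MulAut.conj h).toMonoidHom ≤ Subgroup.zpowers a ⊔ O := by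
        rw [Subgroup.map_sup]
        refine sup_le_sup ?_ ?_
        · rintro _ ⟨u, hu, rfl⟩
          show h * u * h⁻¹ ∈ _
          rw [hn u hu h hhX, mul_inv_cancel_right]; exact hu
        · rintro _ ⟨u, hu, rfl⟩
          exact hOn h hhX u hu
      exact hm ⟨x, hx, rfl⟩
  have hfix := nine_dvd_fixed hR hexp hcomm ha ha1 hvv
    (mul_inv_eq_iff_eq_mul.2 (Subgroup.mem_centralizer_singleton_iff.1 hvX)) hvR
    (O := Subgroup.zpowers a ⊔ O) (Subgroup.mem_sup_left (Subgroup.mem_zpowers a)) hO'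
    (fun x hx => Subgroup.mem_sup_right (hvO x (hRX hx)))
  set F := R ⊓ Subgroup.centralizer ({v} : Set G)
  have hF9 : Nat.card F = 9 := by
    have hd81 : Nat.card F ∣ 3 ^ 4 := by
      rw [show (3 : ℕ) ^ 4 = Nat.card R by rw [hR]; norm_num]
      exact Subgroup.card_dvd_of_le inf_le_left
    have h27' : ¬ 27 ∣ Nat.card F := fun hh => h27 v hv2 (hh.trans (Subgroup.card_dvd_of_le inf_le_right))
    obtain ⟨k, hk, hk'⟩ := (Nat.dvd_prime_pow Nat.prime_three).1 hd81
    rw [hk'] at hfix h27' ⊢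
    interval_cases k <;> revert hfix h27' <;> norm_num
  set F' := F.map (MulAut.conj g).toMonoidHom
  have hF'le : F' ≤ X ⊓ Cz := by
    rintro _ ⟨x, ⟨hxR, hxv⟩, rfl⟩
    refine ⟨X.mul_mem (X.mul_mem hgX (hRX hxR)) (X.inv_mem hgX), Subgroup.mem_centralizer_singleton_iff.2 ?_⟩
    show g * x * g⁻¹ * z = z * (g * x * g⁻¹)
    rw [← hgv]
    calc g * x * g⁻¹ * (g * v * g⁻¹) = g * (x * v) * g⁻¹ := by group
      _ = g * (v * x) * g⁻¹ := by rw [Subgroup.mem_centralizer_singleton_iff.1 hxv]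
      _ = _ := by group
  refine hnine F' hF'le (by rw [Subgroup.card_map_of_injective (MulAut.conj g).injective, hF9]) ?_
  set T' := ((T.map (X ⊓ N).subtype).map (MulAut.conj g).toMonoidHom)
  have hT' : Nat.card T' = 4 := by
    rw [Subgroup.card_map_of_injective (MulAut.conj g).injective,
      Subgroup.card_map_of_injective (X ⊓ N).subtype_injective, hT]
    norm_num
  rw [← hT']
  refine Subgroup.card_dvd_of_le ?_
  rintro _ ⟨_, ⟨y, hy, rfl⟩, rfl⟩
  obtain ⟨hyX, hyN⟩ := y.2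
  have hyv : (y : G) * v = v * y :=
    congrArg (fun p : T => ((p : ↥(X ⊓ N)) : G)) (Subgroup.mem_center_iff.1 c.2 ⟨y, hy⟩)
  refine ⟨⟨X.mul_mem (X.mul_mem hgX hyX) (X.inv_mem hgX), Subgroup.mem_centralizer_singleton_iff.2 ?_⟩, ?_⟩
  · show g * (y : G) * g⁻¹ * z = z * (g * (y : G) * g⁻¹)
    rw [← hgv]
    calc g * (y : G) * g⁻¹ * (g * v * g⁻¹) = g * ((y : G) * v) * g⁻¹ := by group
      _ = g * (v * y) * g⁻¹ := by rw [hyv]
      _ = _ := by group
  · refine Subgroup.mem_normalizer_iff.2 fun x => ?_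
    have key : ∀ f : G, f ∈ F ↔ (y : G) * f * (y : G)⁻¹ ∈ F := fun f => by
      refine and_congr (Subgroup.mem_normalizer_iff.1 hyN f) ?_
      show f ∈ Subgroup.centralizer ({v} : Set G) ↔ _ ∈ Subgroup.centralizer ({v} : Set G)
      rw [Subgroup.mem_centralizer_singleton_iff, Subgroup.mem_centralizer_singleton_iff]
      have hyv' : (y : G)⁻¹ * v = v * (y : G)⁻¹ := (show Commute (y : G) v from hyv).inv_left
      constructor
      · intro hf
        calc (y : G) * f * (y : G)⁻¹ * v = (y : G) * (f * v) * (y : G)⁻¹ := by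
              rw [mul_assoc, hyv']; group
          _ = (y : G) * (v * f) * (y : G)⁻¹ := by rw [hf]
          _ = v * ((y : G) * f * (y : G)⁻¹) := by rw [← mul_assoc (y : G), hyv]; group
      · intro hf
        calc f * v = (y : G)⁻¹ * ((y : G) * f * (y : G)⁻¹ * v) * (y : G) := by
              rw [mul_assoc ((y : G) * f), hyv']; group
          _ = (y : G)⁻¹ * (v * ((y : G) * f * (y : G)⁻¹)) * (y : G) := by rw [hf]
          _ = v * f := by rw [← mul_assoc (y : G)⁻¹, hyv']; group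
    have hmap : ∀ w : G, w ∈ F' ↔ g⁻¹ * w * g ∈ F := fun w => by
      constructor
      · rintro ⟨f, hf, rfl⟩; simpa [mul_assoc] using hf
      · intro hw; exact ⟨_, hw, by simp [mul_assoc]⟩
    show x ∈ F' ↔ g * (y : G) * g⁻¹ * x * (g * (y : G) * g⁻¹)⁻¹ ∈ F'
    rw [hmap, hmap, key]
    have e : g⁻¹ * (g * (y : G) * g⁻¹ * x * (g * (y : G) * g⁻¹)⁻¹) * g =
        (y : G) * (g⁻¹ * x * g) * (y : G)⁻¹ := by group
    rw [e]

end Cfsg.Agent.Lib.U43Graph14
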