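import Cfsg.Agent.Lib.U43Type85.Basic

/-!
# Checks on the coded centraliser needed for the recognition
-/

set_option autoImplicit false
set_option maxRecDepth 20000

namespace Cfsg.Agent.Lib.U43Graph14.CodeFacts

open Cfsg.Agent.Lib.U43Type85

/-- Products of two involutions. -/
def two : ℕ := 0xa82a82544544a82a82544544a82a82544544039039039039039039544544a82a82039039544544a82a82544544a82a82544544a82a82039039039039039039a82a82544544039039f30f30f30f30f30f30f30f300cf0cf0cf0cff30f30f30f300cf0cf0cf0cf0cf0cf0cf0cffc6fc6fc6fc6fc6fc6fc6fc6fc6fc6fc6fc6039039039039039039fc6fc6fc6fc6039039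

/-- Products of three involutions. -/
def three : ℕ := 0xfffffffffffffffffffffffffffffffffffffffffffffffffffffffffffffffffffffffffffffffffffffffffffffffffffffffffffffffffffffffffffffffffffffffffffffffffffffffffffffffffffffffffffffffffffffffffffffffffffffffffffffffffffffffffc6fc6fc6fc6fc6fc6fc6fc6fc6fc6fc6fc6039039039039039039fc6fc6fc6fc6039039

/-- A bit. -/
def bit (L n : ℕ) : Bool := Nat.testBit L n

/-- A step from the involutions. -/
def step (P : ℕ → Bool) (n : ℕ) : Bool := (0 :: invList).any fun t => P (mul t n)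

theorem gen_check : ((List.range 1152).all fun n =>
    step (bit three) n && (!(bit three n) || step (bit two) n) &&
      (!(bit two n) || step (fun m => Nat.beq m 0 || isInv m) n)) = true := by decide +kernel

/-- The code of `a`. -/
def ca : ℕ := enc 1 0 0

/-- The code of `b`. -/
def cb : ℕ := enc 0 1 0

theorem codes : ca = 24 ∧ cb = 1 ∧ mul 24 1 = 25 ∧ mul 24 (inv 1) = 30 := by decide +kernel

/-- The elements commuting with `a'` = `c * d`. -/
def centA : List ℕ := (List.range 1152).filter fun k => Nat.beq (mul k (mul 25 30)) (mul (mul 25 30) k)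

/-- Ninth power is one. -/
def odd9 (x : ℕ) : Bool :=
  let y := mul (mul x x) x
  Nat.beq (mul (mul y y) y) 0

theorem inv_actions : cj 12 25 = 25 ∧ cj 12 30 = 30 ∧ mul 576 576 = 0 ∧ mul 864 864 = 0 ∧
    mul 12 576 = mul 576 12 ∧ mul 12 864 = mul 864 12 ∧
    cj 576 25 = 25 ∧ cj 576 30 = inv 30 ∧ cj 864 30 = 30 ∧ cj 864 25 = inv 25 ∧
    mul (mul 25 25) 25 = 0 ∧ mul (mul 30 30) 30 = 0 ∧ mul 25 30 = mul 30 25 ∧
    mul 25 30 ≠ 0 ∧ mul 25 (mul 30 30) ≠ 0 := by decide +kernel

theorem centA_unique : (centA.all fun k => !(isInv k) || Nat.beq k 12) = true := by decide +kernel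

theorem centA_small : (centA.all fun x =>
    !(odd9 x && centA.all fun q => odd9 (mul (cj q x) (inv x))) ||
      Nat.beq x 0 || Nat.beq x (mul 25 30) || Nat.beq x (inv (mul 25 30))) = true := by decide +kernel

/-- The nine products. -/
def span (a x : ℕ) : List ℕ :=
  [0, a, inv a, x, inv x, mul a x, mul a (inv x), mul (inv a) x, mul (inv a) (inv x)]

theorem centA_nine : (centA.all fun x =>
    !(odd9 x) || (Nat.beq x 0 || Nat.beq x (mul 25 30) || Nat.beq x (inv (mul 25 30))) ||
      Nat.ble (centA.filter fun q => (span (mul 25 30) x).any fun y => Nat.beq y (cj q x)).length 18) = true := by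
  decide +kernel

theorem no_nine : ∀ x ∈ centA, (!(odd9 x) || Nat.beq (mul (mul x x) x) 0) = true := by decide +kernel

end Cfsg.Agent.Lib.U43Graph14.CodeFacts
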