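import Cfsg.Agent.Lib.U43Graph14.Data

/-! The four-dimensional orthogonal space of minus type over three elements. -/

set_option autoImplicit false
set_option maxRecDepth 20000

namespace Cfsg.Agent.Lib.U43Graph14

/-- The space. -/
abbrev V : Type := Fin 4 → ZMod 3

/-- The form. -/
def qv (v : V) : ZMod 3 := v 0 * v 1 + v 2 * v 2 + v 3 * v 3

/-- The polar form. -/
def bv (u v : V) : ZMod 3 := u 0 * v 1 + u 1 * v 0 + 2 * (u 2 * v 2) + 2 * (u 3 * v 3)

theorem qv_add (u v : V) : qv (u + v) = qv u + qv v + bv u v := by
  simp only [qv, bv, Pi.add_apply]; ring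

theorem qv_neg (u : V) : qv (-u) = qv u := by
  simp only [qv, Pi.neg_apply]; ring

theorem qv_smul (c : ZMod 3) (u : V) : qv (c • u) = c * c * qv u := by
  simp only [qv, Pi.smul_apply, smul_eq_mul]; ring

theorem bv_add_right (u v w : V) : bv u (v + w) = bv u v + bv u w := by
  simp only [bv, Pi.add_apply]; ring

theorem bv_smul_right (c : ZMod 3) (u v : V) : bv u (c • v) = c * bv u v := by
  simp only [bv, Pi.smul_apply, smul_eq_mul]; ring

theorem bv_sub_right (u v w : V) : bv u (v - w) = bv u v - bv u w := by
  simp only [bv, Pi.sub_apply]; ring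

theorem bv_comm (u v : V) : bv u v = bv v u := by simp only [bv]; ring

theorem bv_self (u : V) : bv u u = 2 * qv u := by simp only [bv, qv]; ring

/-- The ten singular points. -/
def pts : Fin 10 → V :=
  ![![0, 1, 0, 0], ![1, 0, 0, 0], ![1, 1, 1, 1], ![1, 1, 1, 2], ![1, 1, 2, 1], ![1, 1, 2, 2],
    ![1, 2, 0, 1], ![1, 2, 0, 2], ![1, 2, 1, 0], ![1, 2, 2, 0]]

/-- Vectors of product one with the singular points. -/
def dual : Fin 10 → V :=
  ![![1, 0, 0, 0], ![0, 1, 0, 0], ![0, 0, 0, 2], ![0, 0, 0, 1], ![0, 0, 0, 2], ![0, 0, 0, 1],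
    ![0, 0, 0, 2], ![0, 0, 0, 1], ![0, 0, 2, 0], ![0, 0, 1, 0]]

theorem bv_dual : ∀ i, bv (pts i) (dual i) = 1 := by decide +kernel

theorem qv_pts : ∀ i, qv (pts i) = 0 ∧ pts i ≠ 0 := by decide +kernel

theorem sing_cases : ∀ v : V, qv v = 0 → v ≠ 0 → ∃ i, v = pts i ∨ v = -pts i := by decide +kernel

theorem pts_injective : ∀ i j, pts i = pts j ∨ pts i = -pts j → i = j := by decide +kernel

theorem card_perp : ∀ i, (Finset.univ.filter fun w : V => bv (pts i) w = 0).card = 27 := by decide +kernel

theorem card_sing : (Finset.univ.filter fun w : V => w ≠ 0 ∧ qv w = 0).card = 20 := by decide +kernel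

/-- Two independent singular vectors are not orthogonal. -/
theorem bv_ne_zero : ∀ i j, i ≠ j → bv (pts i) (pts j) ≠ 0 := by decide +kernel

theorem sing_bv {u v : V} (hu : qv u = 0) (hu0 : u ≠ 0) (hv : qv v = 0) (hv0 : v ≠ 0) :
    bv u v ≠ 0 ∨ v = u ∨ v = -u := by
  obtain ⟨i, hi⟩ := sing_cases u hu hu0
  obtain ⟨j, hj⟩ := sing_cases v hv hv0
  by_cases hij : i = j
  · subst hij
    right
    rcases hi with rfl | rfl <;> rcases hj with rfl | rfl <;> simp
  · left
    have h := bv_ne_zero i j hij
    have hn : ∀ a b : V, bv (-a) b = -bv a b := fun a b => by simp only [bv, Pi.neg_apply]; ring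
    have hn' : ∀ a b : V, bv a (-b) = -bv a b := fun a b => by simp only [bv, Pi.neg_apply]; ring
    rcases hi with rfl | rfl <;> rcases hj with rfl | rfl <;> simp [hn, hn', h]

/-- A subgroup all of whose elements are singular has order at most three. -/
theorem card_le_three (S : AddSubgroup V) (h : ∀ v ∈ S, qv v = 0) : Nat.card S ≤ 3 := by
  by_cases h0 : ∃ u ∈ S, u ≠ 0
  · obtain ⟨u, hu, hu0⟩ := h0
    have hsub : (S : Set V) ⊆ {0, u, -u} := by
      intro v hv
      by_cases hv0 : v = 0
      · simp [hv0]
      rcases sing_bv (h u hu) hu0 (h v hv) hv0 with hb | rfl | rfl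
      · have h2 := h (u + v) (S.add_mem hu hv)
        rw [qv_add, h u hu, h v hv, zero_add, zero_add] at h2
        exact absurd h2 hb
      · simp
      · simp
    calc Nat.card S = Set.ncard (S : Set V) := Nat.card_coe_set_eq _
      _ ≤ Set.ncard ({0, u, -u} : Set V) := Set.ncard_le_ncard hsub
      _ ≤ 3 := (Set.ncard_insert_le _ _).trans (Nat.succ_le_succ ((Set.ncard_insert_le _ _).trans (by simp)))
  · push Not at h0
    have : S = ⊥ := (AddSubgroup.eq_bot_iff_forall _).2 h0
    simp [this]

/-- A subgroup of order 27 meeting the singular vectors in one line is the orthogonal of the line. -/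
theorem mem_iff_of_tangent {S : AddSubgroup V} (hS : Nat.card S = 27) (i : Fin 10) (hi : pts i ∈ S)
    (huniq : ∀ j, pts j ∈ S → j = i) (w : V) : w ∈ S ↔ bv (pts i) w = 0 := by
  classical
  have hsub : ∀ w ∈ S, bv (pts i) w = 0 := by
    intro w hw
    by_contra hb
    set c : ZMod 3 := -(qv w) * bv (pts i) w
    set w' := w + c • pts i with hw'
    have hc : ∀ a b : ZMod 3, b ≠ 0 → a + -a * b * b = 0 := by decide
    have hwS : w' ∈ S := by
      refine S.add_mem hw ?_
      rw [← ZMod.natCast_zmod_val c, Nat.cast_smul_eq_nsmul]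
      exact S.nsmul_mem hi _
    have hbw : bv (pts i) w' = bv (pts i) w := by
      rw [hw', bv_add_right, bv_smul_right, bv_self, (qv_pts i).1]; ring
    have hq : qv w' = 0 := by
      rw [hw', qv_add, qv_smul, (qv_pts i).1, bv_smul_right, bv_comm, mul_zero, add_zero]
      exact hc _ _ hb
    have hw0 : w' ≠ 0 := fun h => hb (by rw [← hbw, h]; simp [bv])
    obtain ⟨j, hj⟩ := sing_cases w' hq hw0
    have hjS : pts j ∈ S := by
      rcases hj with hj | hj
      · exact hj ▸ hwS
      · simpa [hj] using S.neg_mem hwS
    obtain rfl := huniq j hjS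
    refine hb (hbw.symm.trans ?_)
    rcases hj with hj | hj <;> rw [hj]
    · rw [bv_self, (qv_pts j).1, mul_zero]
    · have : bv (pts j) (-pts j) = -bv (pts j) (pts j) := by simp only [bv, Pi.neg_apply]; ring
      rw [this, bv_self, (qv_pts j).1, mul_zero, neg_zero]
  refine ⟨hsub w, fun hw => ?_⟩
  have hsub' : (S : Set V).toFinset ⊆ Finset.univ.filter fun w : V => bv (pts i) w = 0 := fun v hv =>
    Finset.mem_filter.2 ⟨Finset.mem_univ _, hsub v (Set.mem_toFinset.1 hv)⟩
  have hcard : (S : Set V).toFinset.card = 27 := by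
    rw [Set.toFinset_card, ← Nat.card_eq_fintype_card]; exact hS
  have := Finset.eq_of_subset_of_card_le hsub' (by rw [card_perp, hcard])
  have hm : w ∈ (S : Set V).toFinset := this ▸ Finset.mem_filter.2 ⟨Finset.mem_univ _, hw⟩
  exact Set.mem_toFinset.1 hm

/-- An automorphism of exponent three fixing two singular lines and the singular set is the identity. -/
theorem eq_id_of_fix (T : V ≃+ V) (h3 : ∀ x, T (T (T x)) = x) (hq : ∀ x, qv (T x) = 0 ↔ qv x = 0)
    (i j : Fin 10) (hij : i ≠ j) (hi : T (pts i) = pts i) (hj : T (pts j) = pts j) (x : V) : T x = x := by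
  classical
  -- the permutation of the singular lines
  have hln : ∀ k, ∃ l, T (pts k) = pts l ∨ T (pts k) = -pts l := fun k =>
    sing_cases _ ((hq _).2 (qv_pts k).1) (fun h => (qv_pts k).2 (T.injective (h.trans T.map_zero.symm)))
  choose π hπ using hln
  have hkey : ∀ k l, (T (pts k) = pts l ∨ T (pts k) = -pts l) → π k = l := by
    intro k l h
    refine pts_injective _ _ ?_
    rcases hπ k with e | e <;> rcases h with e' | e' <;> rw [e] at e'
    · exact Or.inl e'
    · exact Or.inr e'
    · exact Or.inr (by rw [← e', neg_neg])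
    · exact Or.inl (neg_injective e')
  have hπ3 : ∀ k, π (π (π k)) = k := by
    intro k
    have h := h3 (pts k)
    refine hkey _ _ ?_
    rcases hπ k with e | e <;> rcases hπ (π k) with e' | e' <;>
      simp only [e, e', map_neg, neg_neg] at h
    · exact Or.inl h
    · exact Or.inr (by rw [← h, neg_neg])
    · exact Or.inr (by rw [← h, neg_neg])
    · exact Or.inl h
  have hfix : ∀ k, π k = k → T (pts k) = pts k := by
    intro k hk
    have e := hπ k
    rw [hk] at e
    rcases e with e | e
    · exact e
    · have h := h3 (pts k)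
      rw [e, map_neg, e, map_neg, map_neg, neg_neg, e] at h
      exact absurd h (fun h => (qv_pts k).2 (by
        have hh : ∀ v : V, -v = v → v = 0 := by decide +kernel
        exact hh _ h))
  -- at least four fixed lines
  let σ : Equiv.Perm (Fin 10) :=
    ⟨π, fun k => π (π k), fun k => hπ3 k, fun k => hπ3 k⟩
  have hσ : σ ^ 3 = 1 := Equiv.ext fun k => hπ3 k
  have hfour : 4 ≤ (Finset.univ.filter fun k => σ k = k).card := by
    have h1 : 2 ≤ (Finset.univ.filter fun k => σ k = k).card := by
      refine le_trans (le_of_eq (Finset.card_pair hij).symm) (Finset.card_le_card ?_)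
      intro k hk
      rw [Finset.mem_insert, Finset.mem_singleton] at hk
      refine Finset.mem_filter.2 ⟨Finset.mem_univ _, ?_⟩
      rcases hk with rfl | rfl
      · exact hkey _ _ (Or.inl hi)
      · exact hkey _ _ (Or.inl hj)
    have : Fact (Nat.Prime 3) := ⟨by norm_num⟩
    have hmod := Equiv.Perm.card_compl_support_modEq (p := 3) (n := 1) (σ := σ) (by simpa using hσ)
    have heq : σ.supportᶜ = Finset.univ.filter fun k => σ k = k := by ext k; simp
    rw [heq, Fintype.card_fin, Nat.ModEq] at hmod
    omega
  -- the fixed subgroup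
  let F : AddSubgroup V := T.toAddMonoidHom.eqLocus (AddMonoidHom.id V)
  have hF : ∀ {v}, v ∈ F ↔ T v = v := Iff.rfl
  let D : V →+ V := T.toAddMonoidHom - AddMonoidHom.id V
  have hD : D.ker = F := by
    ext v
    show T v - v = 0 ↔ T v = v
    exact sub_eq_zero
  have hFcard : 27 ≤ Nat.card F := by
    have hdvd : Nat.card F ∣ 81 := by
      have h := F.card_addSubgroup_dvd_card
      simpa using h
    have hlo : 8 < Nat.card F := by
      let g : Fin 2 × {k : Fin 10 // σ k = k} → F := fun p =>
        ⟨if p.1 = 0 then pts p.2.1 else -pts p.2.1, by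
          have e := hfix _ p.2.2
          split
          · exact hF.2 e
          · exact hF.2 (by rw [map_neg, e])⟩
      have hg : Function.Injective g := by
        rintro ⟨a, ⟨k, hk⟩⟩ ⟨b, ⟨l, hl⟩⟩ h
        have h' := congrArg Subtype.val h
        simp only [g] at h'
        have key : ∀ (a b : Fin 2) (k l : Fin 10),
            (if a = 0 then pts k else -pts k) = (if b = 0 then pts l else -pts l) → a = b ∧ k = l := by
          decide +kernel
        obtain ⟨rfl, rfl⟩ := key a b k l h'
        rfl
      have hne : ∀ p, g p ≠ 0 := fun p h => by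
        have h' := congrArg Subtype.val h
        simp only [g, AddSubgroup.coe_zero] at h'
        split at h' <;> simp [(qv_pts p.2.1).2] at h'
      have : Fintype.card (Fin 2 × {k : Fin 10 // σ k = k}) < Fintype.card F :=
        Fintype.card_lt_of_injective_of_notMem g hg (b := 0) (by rintro ⟨p, hp⟩; exact hne p hp)
      rw [Fintype.card_prod, Fintype.card_fin, Fintype.card_subtype, ← Nat.card_eq_fintype_card] at this
      omega
    by_contra hlt
    have h9 : Nat.card F = 9 := by
      have : Nat.card F < 27 := by omega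
      interval_cases h : Nat.card F <;> first | rfl | omega
    -- nine elements hold at most two singular lines
    have hS := Finset.card_le_card_of_injOn (s := (Finset.univ.filter fun k => σ k = k))
      (t := (Finset.univ : Finset (Fin 10)).filter fun k => k = i ∨ k = j) id (fun k hk => ?_)
      (fun a _ b _ h => h)
    · have : ((Finset.univ : Finset (Fin 10)).filter fun k => k = i ∨ k = j).card ≤ 2 := by
        refine le_trans (Finset.card_le_card ?_) (Finset.card_le_two (a := i) (b := j))
        intro k hk
        simpa using (Finset.mem_filter.1 hk).2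
      omega
    · refine Finset.mem_filter.2 ⟨Finset.mem_univ _, ?_⟩
      by_contra hk'
      rw [not_or] at hk'
      have hk2 := hfix k (Finset.mem_filter.1 hk).2
      let g3 : ZMod 3 × ZMod 3 × ZMod 3 → F := fun p =>
        ⟨p.1 • pts i + p.2.1 • pts j + p.2.2 • pts k, hF.2 (by
          have hs : ∀ (c : ZMod 3) (v : V), T v = v → T (c • v) = c • v := fun c v hv => by
            rw [← ZMod.natCast_zmod_val c, Nat.cast_smul_eq_nsmul, map_nsmul, hv]
          rw [map_add, map_add, hs _ _ hi, hs _ _ hj, hs _ _ hk2])⟩
      have hg3 : Function.Injective g3 := by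
        intro a b h
        have h' := congrArg Subtype.val h
        simp only [g3] at h'
        have hz : (a.1 - b.1) • pts i + (a.2.1 - b.2.1) • pts j + (a.2.2 - b.2.2) • pts k = 0 := by
          rw [sub_smul, sub_smul, sub_smul, ← sub_eq_zero.2 h']; abel
        have key : ∀ i j k : Fin 10, i ≠ j → k ≠ i → k ≠ j → ∀ x y z : ZMod 3,
            x • pts i + y • pts j + z • pts k = 0 → x = 0 ∧ y = 0 ∧ z = 0 := by decide +kernel
        obtain ⟨e1, e2, e3⟩ := key i j k hij hk'.1 hk'.2 _ _ _ hz
        exact Prod.ext (sub_eq_zero.1 e1) (Prod.ext (sub_eq_zero.1 e2) (sub_eq_zero.1 e3))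
      have := Nat.card_le_card_of_injective g3 hg3
      rw [h9] at this
      simp at this
  have himg : Nat.card D.range ≤ 3 := by
    have h := D.ker.card_mul_index
    rw [AddSubgroup.index_ker, hD, show Nat.card V = 81 by simp] at h
    by_contra hlt
    have := Nat.mul_le_mul hFcard (not_le.1 hlt)
    omega
  -- the image of `T - 1` is fixed
  have himgfix : ∀ x : V, T (D x) = D x := by
    intro x
    set d := D x with hd
    have hdR : d ∈ D.range := ⟨x, rfl⟩
    have hDd : D d ∈ D.range := ⟨d, rfl⟩
    have hd0 : D d = 0 := by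
      by_cases hd' : d = 0
      · rw [hd', map_zero]
      have hn : -d ≠ d := fun h => hd' ((by decide +kernel : ∀ v : V, -v = v → v = 0) d h)
      have hall : ∀ r ∈ D.range, r = 0 ∨ r = d ∨ r = -d := by
        intro r hr
        by_contra hr'
        simp only [not_or] at hr'
        have hle : ({0, d, -d, r} : Finset V).card ≤ 3 := by
          refine le_trans ?_ himg
          rw [← Set.ncard_coe_finset, show Nat.card D.range = Set.ncard (D.range : Set V) from
            Nat.card_coe_set_eq (D.range : Set V)]
          refine Set.ncard_le_ncard fun v hv => ?_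
          simp only [Finset.mem_coe, Finset.mem_insert, Finset.mem_singleton] at hv
          rcases hv with rfl | rfl | rfl | rfl
          exacts [D.range.zero_mem, hdR, D.range.neg_mem hdR, hr]
        rw [Finset.card_insert_of_notMem (by simp [Ne.symm hd', hd', Ne.symm hr'.1]),
          Finset.card_insert_of_notMem (by simp [Ne.symm hn, Ne.symm hr'.2.1]),
          Finset.card_insert_of_notMem (by simp [Ne.symm hr'.2.2]), Finset.card_singleton] at hle
        omega
      have hT : T d = D d + d := (sub_add_cancel (T d) d).symm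
      rcases hall _ hDd with e | e | e
      · exact e
      · exfalso
        rw [e] at hT
        have h := h3 d
        rw [hT, map_add, hT, map_add, map_add, hT] at h
        exact hd' ((by decide +kernel : ∀ v : V, v + v + (v + v) + (v + v + (v + v)) = v → v = 0) d h)
      · exfalso
        rw [e, neg_add_cancel] at hT
        exact hd' (T.injective (hT.trans T.map_zero.symm))
    exact sub_eq_zero.1 hd0
  -- singular vectors are fixed
  have hsing : ∀ k, T (pts k) = pts k := by
    intro k
    by_contra hk
    set e := D (pts k)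
    have he : T (pts k) = e + pts k := (sub_add_cancel _ _).symm
    have hee : T e = e := himgfix _
    have h1 : qv (pts k + e) = 0 := by rw [add_comm, ← he]; exact (hq _).2 (qv_pts k).1
    have h2 : qv (pts k + (e + e)) = 0 := by
      rw [show pts k + (e + e) = T (T (pts k)) by rw [he, map_add, hee, he]; abel]
      exact (hq _).2 ((hq _).2 (qv_pts k).1)
    have key : ∀ (k : Fin 10) (e : V), qv (pts k + e) = 0 → qv (pts k + (e + e)) = 0 →
        e = 0 ∨ e = pts k ∨ e = -pts k := by decide +kernel
    rcases key k e h1 h2 with h | h | h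
    · exact hk (by rw [he, h, zero_add])
    · rw [h] at hee; exact hk hee
    · exact hk (by rw [h, map_neg, neg_inj] at hee; exact hee)
  have hbasis : ∀ x : V, ∃ a b c e : ZMod 3, x = a • pts 0 + b • pts 1 + c • pts 2 + e • pts 3 := by
    decide +kernel
  obtain ⟨a, b, c, e, rfl⟩ := hbasis x
  have hs : ∀ (c : ZMod 3) (v : V), T v = v → T (c • v) = c • v := fun c v hv => by
    rw [← ZMod.natCast_zmod_val c, Nat.cast_smul_eq_nsmul, map_nsmul, hv]
  rw [map_add, map_add, map_add, hs _ _ (hsing 0), hs _ _ (hsing 1), hs _ _ (hsing 2), hs _ _ (hsing 3)]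

end Cfsg.Agent.Lib.U43Graph14
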