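import Cfsg.Agent.Lib.U43Graph14.CodeFacts
import Cfsg.Agent.Lib.U43Graph14.CentA

/-!
# Facts about the centraliser of the involution from its code
-/

set_option autoImplicit false
set_option linter.unusedSectionVars false

namespace Cfsg.Agent.Lib.U43Graph14

open Cfsg.Agent.Lib Cfsg.Agent.Lib.U43Type85 CodeFacts

universe u

variable {G : Type u} [Group G] [Finite G] {z : G} (S : Setup z)

include S

theorem cd_lt : mul 25 30 < 1152 := Setup.mul_lt (by norm_num) (by norm_num)

theorem setup_cd : S.f (mul 25 30) = S.f 25 * S.f 30 := S.f_mul 25 (by norm_num) 30 (by norm_num)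

/-- The centraliser of `z` is generated by its involutions. -/
theorem setup_gen : Subgroup.closure {x : Subgroup.centralizer ({z} : Set G) | orderOf x = 2} = ⊤ := by
  set M := Subgroup.closure {x : Subgroup.centralizer ({z} : Set G) | orderOf x = 2}
  let C := Subgroup.centralizer ({z} : Set G)
  have hmem : ∀ n, S.f n ∈ C := fun n => Subgroup.mem_centralizer_singleton_iff.2 (S.f_comm n).eq
  have hinv : ∀ n < 1152, isInv n = true → S.f n ∈ M.map C.subtype := fun n hn hi =>
    ⟨⟨S.f n, hmem n⟩, Subgroup.subset_closure (by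
      show orderOf (⟨S.f n, hmem n⟩ : C) = 2
      rw [Subgroup.orderOf_mk]
      exact (S.isInv_iff hn).1 hi), rfl⟩
  have h0 : S.f 0 ∈ M.map C.subtype := S.f_zero ▸ one_mem _
  have hall := gen_check
  simp only [List.all_eq_true, List.mem_range, Bool.and_eq_true] at hall
  have hstep : ∀ (P : ℕ → Bool), (∀ m < 1152, P m = true → S.f m ∈ M.map C.subtype) →
      ∀ n < 1152, step P n = true → S.f n ∈ M.map C.subtype := by
    intro P hP n hn hs
    obtain ⟨t, ht, hPt⟩ := List.any_eq_true.1 hs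
    have htl : t < 1152 ∧ S.f t ∈ M.map C.subtype := by
      rcases List.mem_cons.1 ht with rfl | ht
      · exact ⟨by norm_num, h0⟩
      · obtain ⟨h1, h2⟩ := Setup.mem_invList.1 ht
        exact ⟨h1, hinv t h1 h2⟩
    have h1 := hP _ (Setup.mul_lt htl.1 hn) hPt
    rw [S.f_mul t htl.1 n hn] at h1
    have := mul_mem (inv_mem htl.2) h1
    simpa using this
  have h2 : ∀ m < 1152, bit two m = true → S.f m ∈ M.map C.subtype := fun m hm hb => by
    have h := (hall m hm).2
    rw [hb] at h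
    refine hstep _ ?_ m hm (by simpa using h)
    intro k hk hk'
    rcases Bool.or_eq_true_iff.1 hk' with hk' | hk'
    · exact (Nat.eq_of_beq_eq_true hk').symm ▸ h0
    · exact hinv k hk hk'
  have h3 : ∀ m < 1152, bit three m = true → S.f m ∈ M.map C.subtype := fun m hm hb => by
    have h := (hall m hm).1.2
    rw [hb] at h
    exact hstep _ h2 m hm (by simpa using h)
  refine eq_top_iff.2 fun x _ => ?_
  obtain ⟨n, hn, e⟩ := S.f_surj x (Subgroup.mem_centralizer_singleton_iff.1 x.2)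
  obtain ⟨y, hy, hyx⟩ := hstep _ h3 n hn (hall n hn).1.1
  have : y = x := Subtype.ext (hyx.trans e)
  exact this ▸ hy

/-- The named elements. -/
theorem setup_actions :
    z * S.f 25 * z⁻¹ = S.f 25 ∧ z * S.f 30 * z⁻¹ = S.f 30 ∧
    S.f 576 * S.f 576 = 1 ∧ S.f 864 * S.f 864 = 1 ∧
    z * S.f 576 = S.f 576 * z ∧ z * S.f 864 = S.f 864 * z ∧
    S.f 576 * S.f 25 * (S.f 576)⁻¹ = S.f 25 ∧ S.f 576 * S.f 30 * (S.f 576)⁻¹ = (S.f 30)⁻¹ ∧
    S.f 864 * S.f 30 * (S.f 864)⁻¹ = S.f 30 ∧ S.f 864 * S.f 25 * (S.f 864)⁻¹ = (S.f 25)⁻¹ ∧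
    S.f 25 ^ 3 = 1 ∧ S.f 30 ^ 3 = 1 ∧ S.f 25 * S.f 30 = S.f 30 * S.f 25 ∧
    S.f 25 * S.f 30 ≠ 1 ∧ S.f 25 * (S.f 30 * S.f 30) ≠ 1 ∧ S.f 25 ≠ 1 ∧ S.f 30 ≠ 1 := by
  obtain ⟨a1, a2, a3, a4, a5, a6, a7, a8, a9, a10, a11, a12, a13, a14, a15⟩ := inv_actions
  have hne : ∀ n < 1152, n ≠ 0 → S.f n ≠ 1 := fun n hn h0 h => h0 ((S.f_eq_one hn).1 h)
  refine ⟨?_, ?_, ?_, ?_, ?_, ?_, ?_, ?_, ?_, ?_, ?_, ?_, ?_, ?_, ?_, hne 25 (by norm_num) (by norm_num),
    hne 30 (by norm_num) (by norm_num)⟩
  · have e := S.f_cj (m := 12) (n := 25) (by norm_num) (by norm_num)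
    rw [a1, S.f_z] at e
    exact e.symm
  · have e := S.f_cj (m := 12) (n := 30) (by norm_num) (by norm_num)
    rw [a2, S.f_z] at e
    exact e.symm
  · rw [← S.f_mul 576 (by norm_num) 576 (by norm_num), a3, S.f_zero]
  · rw [← S.f_mul 864 (by norm_num) 864 (by norm_num), a4, S.f_zero]
  · exact (S.f_comm 576).eq.symm
  · exact (S.f_comm 864).eq.symm
  · have e := S.f_cj (m := 576) (n := 25) (by norm_num) (by norm_num)
    rw [a7] at e
    exact e.symm
  · have e := S.f_cj (m := 576) (n := 30) (by norm_num) (by norm_num)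
    rw [a8, S.f_inv (by norm_num)] at e
    exact e.symm
  · have e := S.f_cj (m := 864) (n := 30) (by norm_num) (by norm_num)
    rw [a9] at e
    exact e.symm
  · have e := S.f_cj (m := 864) (n := 25) (by norm_num) (by norm_num)
    rw [a10, S.f_inv (by norm_num)] at e
    exact e.symm
  · rw [pow_succ, pow_two, ← S.f_mul 25 (by norm_num) 25 (by norm_num),
      ← S.f_mul _ (Setup.mul_lt (by norm_num) (by norm_num)) 25 (by norm_num), a11, S.f_zero]
  · rw [pow_succ, pow_two, ← S.f_mul 30 (by norm_num) 30 (by norm_num),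
      ← S.f_mul _ (Setup.mul_lt (by norm_num) (by norm_num)) 30 (by norm_num), a12, S.f_zero]
  · rw [← S.f_mul 25 (by norm_num) 30 (by norm_num), a13, S.f_mul 30 (by norm_num) 25 (by norm_num)]
  · rw [← S.f_mul 25 (by norm_num) 30 (by norm_num)]
    exact hne _ (Setup.mul_lt (by norm_num) (by norm_num)) a14
  · rw [← S.f_mul 30 (by norm_num) 30 (by norm_num),
      ← S.f_mul 25 (by norm_num) _ (Setup.mul_lt (by norm_num) (by norm_num))]
    exact hne _ (Setup.mul_lt (by norm_num) (Setup.mul_lt (by norm_num) (by norm_num))) a15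

/-- Elements of `C(a) ∩ C(z)` in code. -/
theorem setup_mem_centA {x : G} (hx : x ∈ Subgroup.centralizer ({S.f 25 * S.f 30} : Set G) ⊓
    Subgroup.centralizer ({z} : Set G)) : ∃ n, n ∈ centA ∧ n < 1152 ∧ S.f n = x := by
  obtain ⟨n, hn, rfl⟩ := S.f_surj x (Subgroup.mem_centralizer_singleton_iff.1 hx.2)
  refine ⟨n, List.mem_filter.2 ⟨List.mem_range.2 hn, ?_⟩, hn, rfl⟩
  refine beq_true (S.f_inj _ (Setup.mul_lt hn (cd_lt S)) _ (Setup.mul_lt (cd_lt S) hn) ?_)
  rw [S.f_mul n hn _ (cd_lt S), S.f_mul _ (cd_lt S) n hn, setup_cd S]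
  exact Subgroup.mem_centralizer_singleton_iff.1 hx.1

/-- `z` is the only involution of `C(a) ∩ C(z)`. -/
theorem setup_uniq (v : G) (hv : orderOf v = 2) (hva : v * (S.f 25 * S.f 30) = S.f 25 * S.f 30 * v)
    (hvz : v * z = z * v) : v = z := by
  obtain ⟨n, hn, hlt, rfl⟩ := setup_mem_centA S
    ⟨Subgroup.mem_centralizer_singleton_iff.2 hva, Subgroup.mem_centralizer_singleton_iff.2 hvz⟩
  have h := List.all_eq_true.1 centA_unique n hn
  rw [(S.isInv_iff hlt).2 hv] at h
  simp only [Bool.not_true, Bool.false_or] at h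
  rw [Nat.eq_of_beq_eq_true h, S.f_z]

theorem setup_odd9 {n : ℕ} (hn : n < 1152) : odd9 n = true ↔ S.f n ^ 9 = 1 := by
  have h3 := Setup.mul_lt (Setup.mul_lt hn hn) hn
  have h9 := Setup.mul_lt (Setup.mul_lt h3 h3) h3
  have e : S.f n ^ 9 = S.f (mul (mul (mul (mul n n) n) (mul (mul n n) n)) (mul (mul n n) n)) := by
    rw [S.f_mul _ (Setup.mul_lt h3 h3) _ h3, S.f_mul _ h3 _ h3, S.f_mul _ (Setup.mul_lt hn hn) _ hn,
      S.f_mul _ hn _ hn]
    simp [pow_succ, mul_assoc]
  rw [e, S.f_eq_one h9]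
  exact ⟨fun h => Nat.eq_of_beq_eq_true h, fun h => beq_true h⟩

theorem setup_card : Nat.card ↥(Subgroup.centralizer ({z} : Set G)) = 1152 := by
  let f : Fin 1152 → ↥(Subgroup.centralizer ({z} : Set G)) :=
    fun n => ⟨S.f n, Subgroup.mem_centralizer_singleton_iff.2 (S.f_comm n).eq⟩
  have hf : Function.Bijective f :=
    ⟨fun a b h => Fin.ext (S.f_inj _ a.2 _ b.2 (congrArg Subtype.val h)), fun y => by
      obtain ⟨n, hn, e⟩ := S.f_surj y (Subgroup.mem_centralizer_singleton_iff.1 y.2)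
      exact ⟨⟨n, hn⟩, Subtype.ext e⟩⟩
  rw [← Nat.card_congr (Equiv.ofBijective f hf), Nat.card_fin]

/-- The odd-order elements of a subgroup of `C(a) ∩ C(z)`. -/
theorem setup_pow_nine {x : G} (hx : x ∈ Subgroup.centralizer ({S.f 25 * S.f 30} : Set G) ⊓
    Subgroup.centralizer ({z} : Set G)) (hodd : Odd (orderOf x)) : x ^ 9 = 1 := by
  have hcard : Nat.card ↥(Subgroup.centralizer ({z} : Set G)) ∣ 2 ^ 7 * 9 := by
    rw [setup_card S]; norm_num
  refine orderOf_dvd_iff_pow_eq_one.1 ?_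
  exact (Nat.Coprime.pow_right 7 (Nat.coprime_two_right.2 hodd)).dvd_of_dvd_mul_left
    ((Subgroup.orderOf_dvd_natCard _ hx.2).trans hcard)

theorem setup_small (F : Subgroup G) (hF : F ≤ Subgroup.centralizer ({S.f 25 * S.f 30} : Set G) ⊓
      Subgroup.centralizer ({z} : Set G)) (hodd : Odd (Nat.card F))
    (hn : ∀ g ∈ Subgroup.centralizer ({S.f 25 * S.f 30} : Set G) ⊓ Subgroup.centralizer ({z} : Set G),
        ∀ x ∈ F, g * x * g⁻¹ ∈ F) : Nat.card F ≤ 3 := by
  classical
  have hsub : ∀ x ∈ F, x ∈ ({1, S.f 25 * S.f 30, (S.f 25 * S.f 30)⁻¹} : Set G) := by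
    intro x hx
    obtain ⟨n, hnA, hlt, rfl⟩ := setup_mem_centA S (hF hx)
    have h9 : ∀ y ∈ F, y ^ 9 = 1 := fun y hy => setup_pow_nine S (hF hy)
      (hodd.of_dvd_nat (Subgroup.orderOf_dvd_natCard F hy))
    have h := List.all_eq_true.1 centA_small n hnA
    have hcomm : (centA.all fun q => odd9 (mul (cj q n) (inv n))) = true := by
      refine List.all_eq_true.2 fun q hq => ?_
      obtain ⟨hql, hqc⟩ := List.mem_filter.1 hq
      have hql := List.mem_range.1 hql
      refine (setup_odd9 S (Setup.mul_lt (Setup.cj_lt hql hlt) (Setup.inv_lt hlt))).2 ?_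
      rw [S.f_mul _ (Setup.cj_lt hql hlt) _ (Setup.inv_lt hlt), S.f_cj hql hlt, S.f_inv hlt]
      refine h9 _ (F.mul_mem (hn _ ⟨Subgroup.mem_centralizer_singleton_iff.2 ?_,
        Subgroup.mem_centralizer_singleton_iff.2 (S.f_comm q).eq⟩ _ hx) (F.inv_mem hx))
      rw [← setup_cd S]
      exact ((S.cm2_iff hql (cd_lt S)).1 hqc).eq
    rw [(setup_odd9 S hlt).2 (h9 _ hx), hcomm] at h
    simp only [Bool.and_true, Bool.not_true, Bool.false_or, Bool.or_eq_true] at h
    rcases h with (h | h) | h <;> rw [Nat.eq_of_beq_eq_true h]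
    · simp [S.f_zero]
    · simp [setup_cd S]
    · simp [S.f_inv (cd_lt S), setup_cd S]
  calc Nat.card F = Set.ncard (F : Set G) := Nat.card_coe_set_eq _
    _ ≤ Set.ncard ({1, S.f 25 * S.f 30, (S.f 25 * S.f 30)⁻¹} : Set G) := Set.ncard_le_ncard hsub
    _ ≤ 3 := (Set.ncard_insert_le _ _).trans (Nat.succ_le_succ ((Set.ncard_insert_le _ _).trans (by simp)))

theorem setup_nine (F : Subgroup G) (hF : F ≤ Subgroup.centralizer ({S.f 25 * S.f 30} : Set G) ⊓
      Subgroup.centralizer ({z} : Set G)) (h9 : Nat.card F = 9) :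
    ¬ 4 ∣ Nat.card ↥(Subgroup.centralizer ({S.f 25 * S.f 30} : Set G) ⊓
      Subgroup.centralizer ({z} : Set G) ⊓ Subgroup.normalizer (F : Set G)) := by
  classical
  set D := Subgroup.centralizer ({S.f 25 * S.f 30} : Set G) ⊓ Subgroup.centralizer ({z} : Set G)
  set a := S.f 25 * S.f 30 with ha
  obtain ⟨a1, a2, -, -, -, -, -, -, -, -, a11, a12, a13, a14, -, -, -⟩ := setup_actions S
  have haD : a ∈ D := ⟨Subgroup.mem_centralizer_singleton_iff.2 rfl,
    Subgroup.mem_centralizer_singleton_iff.2 (((S.f_comm 25).mul_left (S.f_comm 30))).eq⟩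
  have hpow : ∀ y ∈ F, y ^ 9 = 1 := fun y hy =>
    orderOf_dvd_iff_pow_eq_one.1 (h9 ▸ Subgroup.orderOf_dvd_natCard F hy)
  have ha3 : a ^ 3 = 1 := by
    rw [ha, (show Commute (S.f 25) (S.f 30) from a13).mul_pow, a11, a12, one_mul]
  -- `a` lies in `F`
  have haF : a ∈ F := by
    by_contra haF
    have hdisj : ∀ y ∈ F, y ∈ Subgroup.zpowers a → y = 1 := by
      intro y hy ⟨k, hk⟩
      have hoa : orderOf a = 3 := orderOf_eq_prime ha3 a14
      obtain ⟨j, hj, hj'⟩ : ∃ j < 3, a ^ j = y := by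
        have hy' : y ∈ Subgroup.zpowers a := ⟨k, hk⟩
        rw [← mem_powers_iff_mem_zpowers, mem_powers_iff_mem_range_orderOf, hoa] at hy'
        simpa using hy'
      interval_cases j
      · simpa using hj'.symm
      · exact absurd (by rw [← hj', pow_one] at hy; exact hy) haF
      · exfalso
        refine haF ?_
        rw [show a = (a ^ 2) ^ 2 by rw [← pow_mul, show 2 * 2 = 3 + 1 from rfl, pow_succ, ha3, one_mul]]
        exact F.pow_mem (hj' ▸ hy) 2
    have h27 : 27 ∣ Nat.card (Subgroup.centralizer ({z} : Set G)) := by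
      let f : F × Subgroup.zpowers a →* Subgroup.centralizer ({z} : Set G) :=
        { toFun := fun p => ⟨(p.1 : G) * p.2, (Subgroup.centralizer ({z} : Set G)).mul_mem (hF p.1.2).2
            (Subgroup.zpowers_le.2 haD.2 p.2.2)⟩
          map_one' := Subtype.ext (by simp)
          map_mul' := fun p q => Subtype.ext (by
            obtain ⟨k, hk⟩ := p.2.2
            have hc : Commute ((q.1 : F) : G) ((p.2 : Subgroup.zpowers a) : G) := by
              rw [← hk]
              exact (show Commute ((q.1 : F) : G) a from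
                Subgroup.mem_centralizer_singleton_iff.1 (hF q.1.2).1).zpow_right k
            show (p.1 : G) * q.1 * (p.2 * q.2) = p.1 * p.2 * (q.1 * q.2)
            calc (p.1 : G) * q.1 * (p.2 * q.2) = p.1 * ((q.1 : G) * p.2) * q.2 := by group
              _ = _ := by rw [hc.eq]; group) }
      have hinj : Function.Injective f := by
        rw [injective_iff_map_eq_one]
        rintro ⟨x, y⟩ hxy
        have h1 : (x : G) * (y : G) = 1 := congrArg Subtype.val hxy
        have hx : (x : G) ∈ Subgroup.zpowers a := by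
          rw [mul_eq_one_iff_eq_inv.1 h1]; exact inv_mem y.2
        have hx1 := hdisj _ x.2 hx
        rw [hx1, one_mul] at h1
        exact Prod.ext (Subtype.ext hx1) (Subtype.ext h1)
      have h := Subgroup.card_dvd_of_injective f hinj
      rw [Nat.card_prod, h9, Nat.card_zpowers, orderOf_eq_prime ha3 a14] at h
      exact h
    rw [setup_card S] at h27
    norm_num at h27
  -- a further generator
  obtain ⟨x, hxF, hxa⟩ : ∃ x ∈ F, x ∉ ({1, a, a⁻¹} : Set G) := by
    by_contra hall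
    push Not at hall
    have h1 : Set.ncard (F : Set G) ≤ 3 := (Set.ncard_le_ncard (t := ({1, a, a⁻¹} : Set G)) hall).trans
      ((Set.ncard_insert_le _ _).trans (Nat.succ_le_succ ((Set.ncard_insert_le _ _).trans (by simp))))
    rw [← Nat.card_coe_set_eq] at h1
    have : Nat.card F ≤ 3 := h1
    omega
  obtain ⟨n, hnA, hlt, rfl⟩ := setup_mem_centA S (hF hxF)
  have hn3 : n ≠ 0 ∧ n ≠ mul 25 30 ∧ n ≠ inv (mul 25 30) := by
    refine ⟨fun e => hxa ?_, fun e => hxa ?_, fun e => hxa ?_⟩ <;> rw [e]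
    · simp [S.f_zero]
    · simp [setup_cd S, ha]
    · simp [S.f_inv (cd_lt S), setup_cd S, ha]
  have h := List.all_eq_true.1 centA_nine n hnA
  rw [(setup_odd9 S hlt).2 (hpow _ hxF), beq_false hn3.1, beq_false hn3.2.1, beq_false hn3.2.2] at h
  simp only [Bool.not_true, Bool.or_self, Bool.false_or, Nat.ble_eq] at h
  -- the span is `F`
  set L := (span (mul 25 30) n) with hL
  have hmn := cd_lt S
  have hLlt : ∀ y ∈ L, y < 1152 := by
    intro y hy
    simp only [hL, span, List.mem_cons, List.not_mem_nil, or_false] at hy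
    rcases hy with rfl | rfl | rfl | rfl | rfl | rfl | rfl | rfl | rfl
    exacts [by norm_num, hmn, Setup.inv_lt hmn, hlt, Setup.inv_lt hlt, Setup.mul_lt hmn hlt,
      Setup.mul_lt hmn (Setup.inv_lt hlt), Setup.mul_lt (Setup.inv_lt hmn) hlt,
      Setup.mul_lt (Setup.inv_lt hmn) (Setup.inv_lt hlt)]
  have hFL : ∀ y ∈ F, ∃ m ∈ L, S.f m = y := by
    have hcomm : Commute a (S.f n) := (Subgroup.mem_centralizer_singleton_iff.1 (hF hxF).1).symm
    have hx3 : S.f n ^ 3 = 1 := by
      by_contra hne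
      have ho : orderOf (S.f n) = 9 := by
        have hd : orderOf (S.f n) ∣ 3 ^ 2 := by simpa using orderOf_dvd_of_pow_eq_one (hpow _ hxF)
        obtain ⟨k, hk, hk'⟩ := (Nat.dvd_prime_pow Nat.prime_three).1 hd
        interval_cases k
        · exact absurd (orderOf_dvd_iff_pow_eq_one.1 (by rw [hk']; norm_num)) hne
        · exact absurd (orderOf_dvd_iff_pow_eq_one.1 (by rw [hk']; norm_num)) hne
        · simpa using hk'
      have heq : Subgroup.zpowers (S.f n) = F :=
        Subgroup.eq_of_le_of_card_ge (Subgroup.zpowers_le.2 hxF) (by rw [h9, Nat.card_zpowers, ho])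
      have ha' : a ∈ Subgroup.zpowers (S.f n) := heq.symm ▸ haF
      rw [← mem_powers_iff_mem_zpowers, mem_powers_iff_mem_range_orderOf, ho] at ha'
      simp only [Finset.mem_image, Finset.mem_range] at ha'
      obtain ⟨k, hk, hk'⟩ := ha'
      have h3k : 3 ∣ k := by
        have h1 : S.f n ^ (k * 3) = 1 := by rw [pow_mul, hk', ha3]
        have h2 := orderOf_dvd_of_pow_eq_one h1
        rw [ho] at h2
        exact Nat.dvd_of_mul_dvd_mul_right (by norm_num : 0 < 3) h2
      -- the generator of a cyclic group of order nine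
      have hc := CodeFacts.no_nine n hnA
      rw [(setup_odd9 S hlt).2 (hpow _ hxF)] at hc
      simp only [Bool.not_true, Bool.false_or] at hc
      refine hne ?_
      rw [pow_succ, pow_two, ← S.f_mul n hlt n hlt, ← S.f_mul _ (Setup.mul_lt hlt hlt) n hlt,
        Nat.eq_of_beq_eq_true hc, S.f_zero]
    let g : Fin 3 × Fin 3 → F := fun p =>
      ⟨a ^ p.1.val * S.f n ^ p.2.val, F.mul_mem (F.pow_mem haF _) (F.pow_mem hxF _)⟩
    have hg : Function.Injective g := by
      rintro ⟨i, j⟩ ⟨i', j'⟩ hij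
      have e : a ^ i.val * S.f n ^ j.val = a ^ i'.val * S.f n ^ j'.val := congrArg Subtype.val hij
      have key : ∀ p q : ℕ, a ^ p * S.f n ^ q = 1 → 3 ∣ p ∧ 3 ∣ q := by
        intro p q hpq
        have hoa : orderOf a = 3 := orderOf_eq_prime ha3 a14
        have hox : orderOf (S.f n) = 3 := orderOf_eq_prime hx3 fun e1 => hn3.1 ((S.f_eq_one hlt).1 e1)
        have h3q : 3 ∣ q := by
          by_contra hq
          have hx' : S.f n ∈ Subgroup.zpowers a := by
            have hq' : S.f n ^ q ∈ Subgroup.zpowers a := by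
              rw [show S.f n ^ q = (a ^ p)⁻¹ from eq_inv_of_mul_eq_one_right hpq]
              exact inv_mem (pow_mem (Subgroup.mem_zpowers a) p)
            have hq2 : S.f n = (S.f n ^ q) ^ (q % 3) := by
              rw [← pow_mul, ← pow_mod_orderOf, hox, Nat.mul_mod, Nat.mod_mod]
              have : q % 3 = 1 ∨ q % 3 = 2 := by omega
              rcases this with e | e <;> rw [e] <;> simp
            rw [hq2]; exact pow_mem hq' _
          refine hxa ?_
          rw [← mem_powers_iff_mem_zpowers, mem_powers_iff_mem_range_orderOf, hoa] at hx'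
          simp only [Finset.mem_image, Finset.mem_range] at hx'
          obtain ⟨k, hk, hk'⟩ := hx'
          interval_cases k
          · simp [← hk']
          · simp [← hk']
          · have : a ^ 2 = a⁻¹ := eq_inv_of_mul_eq_one_left (by rw [← pow_succ]; exact ha3)
            simp [← hk', this]
        refine ⟨?_, h3q⟩
        obtain ⟨r, rfl⟩ := h3q
        rw [pow_mul, hx3, one_pow, mul_one] at hpq
        exact hoa ▸ orderOf_dvd_of_pow_eq_one hpq
      have h1 : a ^ (i.val + (3 - i'.val)) * S.f n ^ (j.val + (3 - j'.val)) = 1 := by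
        have hc2 := hcomm.pow_pow (3 - i'.val) j.val
        calc a ^ (i.val + (3 - i'.val)) * S.f n ^ (j.val + (3 - j'.val))
            = a ^ i.val * (a ^ (3 - i'.val) * S.f n ^ j.val) * S.f n ^ (3 - j'.val) := by
              rw [pow_add, pow_add]; group
          _ = a ^ i.val * S.f n ^ j.val * (a ^ (3 - i'.val) * S.f n ^ (3 - j'.val)) := by rw [hc2.eq]; group
          _ = a ^ i'.val * S.f n ^ j'.val * (a ^ (3 - i'.val) * S.f n ^ (3 - j'.val)) := by rw [e]
          _ = a ^ i'.val * (S.f n ^ j'.val * a ^ (3 - i'.val)) * S.f n ^ (3 - j'.val) := by group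
          _ = (a ^ i'.val * a ^ (3 - i'.val)) * (S.f n ^ j'.val * S.f n ^ (3 - j'.val)) := by
              rw [← (hcomm.pow_pow (3 - i'.val) j'.val).eq]; group
          _ = 1 := by
              rw [← pow_add, ← pow_add, Nat.add_sub_cancel' i'.2.le, Nat.add_sub_cancel' j'.2.le, ha3, hx3,
                one_mul]
      obtain ⟨h2, h3⟩ := key _ _ h1
      exact Prod.ext (Fin.ext (by have := i.2; have := i'.2; show i.val = i'.val; omega))
        (Fin.ext (by have := j.2; have := j'.2; show j.val = j'.val; omega))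
    have : Fintype F := Fintype.ofFinite F
    have hbij : Function.Bijective g := (Fintype.bijective_iff_injective_and_card g).2
      ⟨hg, by rw [← Nat.card_eq_fintype_card (α := F), h9]; simp⟩
    intro y hy
    obtain ⟨⟨i, j⟩, hij⟩ := hbij.2 ⟨y, hy⟩
    have e : a ^ i.val * S.f n ^ j.val = y := congrArg Subtype.val hij
    have ha2 : a ^ 2 = a⁻¹ := eq_inv_of_mul_eq_one_left (by rw [← pow_succ]; exact ha3)
    have hx2 : S.f n ^ 2 = (S.f n)⁻¹ := eq_inv_of_mul_eq_one_left (by rw [← pow_succ]; exact hx3)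
    simp only [hL, span, List.exists_mem_cons_iff, List.not_mem_nil, false_and, exists_false, or_false]
    fin_cases i <;> fin_cases j <;>
      simp only [pow_zero, pow_one, one_mul, mul_one, ha2, hx2, Fin.mk_zero, Fin.val_zero, Fin.mk_one,
        Fin.val_one, Fin.reduceFinMk, Fin.val_two] at e <;>
      simp [S.f_zero, S.f_mul, S.f_inv, setup_cd S, Setup.inv_lt, Setup.mul_lt, hlt, hmn, ← ha, ← e]
  -- count
  have hinj : Nat.card ↥(D ⊓ Subgroup.normalizer (F : Set G)) ≤ 18 := by
    have hc : ∀ q : ↥(D ⊓ Subgroup.normalizer (F : Set G)), ∃ m, m ∈ centA.filter (fun q =>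
        L.any fun y => Nat.beq y (cj q n)) ∧ S.f m = (q : G) := by
      intro q
      obtain ⟨m, hmA, hml, hmq⟩ := setup_mem_centA S q.2.1
      refine ⟨m, List.mem_filter.2 ⟨hmA, List.any_eq_true.2 ?_⟩, hmq⟩
      obtain ⟨y, hy, hye⟩ := hFL _ ((Subgroup.mem_normalizer_iff.1 q.2.2 _).1 hxF)
      refine ⟨y, hy, beq_true (S.f_inj y (hLlt y hy) _ (Setup.cj_lt hml hlt) ?_)⟩
      rw [hye, S.f_cj hml hlt, hmq]
    choose m hm hmq using hc
    refine le_trans ?_ (le_trans (List.toFinset_card_le _) h)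
    rw [← Nat.card_eq_finsetCard]
    exact Nat.card_le_card_of_injective (fun q => ⟨m q, List.mem_toFinset.2 (hm q)⟩) fun q r hqr => by
      have : m q = m r := congrArg Subtype.val hqr
      exact Subtype.ext (by rw [← hmq, ← hmq, this])
  intro h4
  have h9' : 9 ∣ Nat.card ↥(D ⊓ Subgroup.normalizer (F : Set G)) :=
    h9 ▸ Subgroup.card_dvd_of_le (le_inf hF Subgroup.le_normalizer)
  have hpos : 0 < Nat.card ↥(D ⊓ Subgroup.normalizer (F : Set G)) := Nat.card_pos
  omega

end Cfsg.Agent.Lib.U43Graph14
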