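import Cfsg.Agent.Lib.U43Graph14.CountCodes
import Cfsg.Agent.Lib.U43Graph14.FromSetup
import Cfsg.Agent.Lib.U43Type85.Iface

/-!
# The involution count: products of even order
-/

set_option autoImplicit false
set_option linter.unusedSectionVars false

namespace Cfsg.Agent.Lib.U43Graph14

open Cfsg.Agent.Lib Cfsg.Agent.Lib.U43Type85 CountCodes

universe u

variable {G : Type u} [Group G] [Finite G] {z : G} (S : Setup z)

include S

/-- The involutions correspond to the inverted elements other than `z`. -/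
theorem setup_mul_inverted {u : G} (hu : orderOf u = 2) : Inverted z (z * u) ∧ z * u ≠ z := by
  have hz := Setup.z_sq S
  have hu2 := sq_of_orderOf hu
  refine ⟨?_, fun h => ?_⟩
  · show z * (z * u) * z⁻¹ = (z * u)⁻¹
    rw [mul_inv_rev, inv_eq_of_mul_eq_one_right hu2, ← mul_assoc, hz, one_mul]
  · rw [mul_eq_left] at h
    rw [h, orderOf_one] at hu
    norm_num at hu

theorem setup_card_involutions :
    Nat.card {u : G // orderOf u = 2} * 1152 = Nat.card G ∧
    Nat.card {u : G // orderOf u = 2} = Nat.card {x : G // Inverted z x ∧ x ≠ z} := by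
  constructor
  · rw [← setup_card S, ← SmallGroups.Counting.card_isConj_mul z]
    congr 1
    refine Nat.card_congr (Equiv.subtypeEquivRight fun u =>
      ⟨fun hu => Setup.one_class S S.orderOf_z hu, fun h => ?_⟩)
    obtain ⟨g, hg⟩ := isConj_iff.1 h
    rw [← hg, orderOf_conj, S.orderOf_z]
  · have hz := Setup.z_sq S
    refine Nat.card_congr
      { toFun := fun u => ⟨z * u.1, setup_mul_inverted S u.2⟩
        invFun := fun x => ⟨z * x.1, ?_⟩
        left_inv := fun u => Subtype.ext (by simp [← mul_assoc, hz])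
        right_inv := fun x => Subtype.ext (by simp [← mul_assoc, hz]) }
    refine orderOf_of_sq ?_ fun h => x.2.2 ?_
    · have h := x.2.1
      rw [Inverted, inv_eq_of_mul_eq_one_right hz] at h
      calc z * x.1 * (z * x.1) = z * x.1 * z * x.1 := by group
        _ = 1 := by rw [h, inv_mul_cancel]
    · rw [eq_inv_of_mul_eq_one_right h, inv_eq_of_mul_eq_one_right hz]

theorem setup_hitZ {x : ℕ} (hx : x < 1152) : ∀ fuel y, y < 1152 →
    (hitZ x fuel y = true ↔ ∃ j < fuel, S.f y * S.f x ^ j = z) := by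
  intro fuel
  induction fuel with
  | zero => intro y _; simp [hitZ]
  | succ k ih =>
    intro y hy
    rw [hitZ, Bool.or_eq_true, ih _ (Setup.mul_lt hy hx)]
    constructor
    · rintro (h | ⟨j, hj, h⟩)
      · exact ⟨0, k.succ_pos, by rw [pow_zero, mul_one, Nat.eq_of_beq_eq_true h, S.f_z]⟩
      · exact ⟨j + 1, by omega, by rw [pow_succ', ← mul_assoc, ← S.f_mul y hy x hx]; exact h⟩
    · rintro ⟨j, hj, h⟩
      rcases j with _ | j
      · rw [pow_zero, mul_one] at h
        exact Or.inl (beq_true ((S.f_eq_z hy).1 h))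
      · exact Or.inr ⟨j, by omega, by rw [S.f_mul y hy x hx, mul_assoc, ← pow_succ']; exact h⟩

theorem setup_pow24 {x : ℕ} (hx : x < 1152) : S.f x ^ 24 = 1 := by
  have h := all_range exp_check hx
  have h2 := Setup.mul_lt hx hx
  have h4 := Setup.mul_lt h2 h2
  have h8 := Setup.mul_lt h4 h4
  have h16 := Setup.mul_lt h8 h8
  have e : S.f (pow24 x) = S.f x ^ 24 := by
    rw [pow24, S.f_mul _ h16 _ h8, S.f_mul _ h8 _ h8, S.f_mul _ h4 _ h4, S.f_mul _ h2 _ h2,
      S.f_mul _ hx _ hx]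
    simp [pow_succ, mul_assoc]
  rw [← e, Nat.eq_of_beq_eq_true h, S.f_zero]

theorem setup_hit {t n : ℕ} (ht : t < 1152) (hn : n < 1152) :
    hit t n = true ↔ ∃ j : ℕ, (S.f t * S.f n) ^ j = z := by
  rw [hit, setup_hitZ S (Setup.mul_lt ht hn) 24 0 (by norm_num), S.f_zero, ← S.f_mul t ht n hn]
  simp only [one_mul]
  constructor
  · rintro ⟨j, -, h⟩; exact ⟨j, h⟩
  · rintro ⟨j, h⟩
    refine ⟨j % 24, Nat.mod_lt _ (by norm_num), ?_⟩
    rw [← pow_eq_pow_mod j (setup_pow24 S (Setup.mul_lt ht hn))]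
    exact h

/-- An element has at most one involution among its powers. -/
theorem involution_pow_unique {x : G} {i j : ℕ} (hi : orderOf (x ^ i) = 2) (hj : orderOf (x ^ j) = 2) :
    x ^ i = x ^ j := by
  have key : ∀ k, orderOf (x ^ k) = 2 → x ^ k = x ^ (orderOf x / 2) := by
    intro k hk
    have h2 : orderOf x ∣ k * 2 := orderOf_dvd_of_pow_eq_one (by
      rw [pow_mul, ← hk, pow_orderOf_eq_one])
    have h1 : ¬ orderOf x ∣ k := fun h => by
      rw [orderOf_dvd_iff_pow_eq_one.1 h, orderOf_one] at hk; norm_num at hk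
    obtain ⟨q, hq⟩ := h2
    have hodd : q % 2 = 1 := by
      by_contra hq'
      obtain ⟨r, rfl⟩ : 2 ∣ q := by omega
      exact h1 ⟨r, by nlinarith⟩
    obtain ⟨r, rfl⟩ : ∃ r, q = 2 * r + 1 := ⟨q / 2, by omega⟩
    have hN : k = orderOf x * r + orderOf x / 2 := by
      have : orderOf x * (2 * r + 1) = 2 * (orderOf x * r) + orderOf x := by ring
      omega
    rw [hN, pow_add, pow_mul, pow_orderOf_eq_one, one_pow, one_mul]
  rw [key i hi, key j hj]

/-- The inverted elements of even order. -/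
theorem setup_card_even :
    Nat.card {x : G // (Inverted z x ∧ x ≠ z) ∧ Even (orderOf x)} = 1170 := by
  classical
  have hz := Setup.z_sq S
  have hex : ∀ t : {t // t ∈ others.toFinset}, ∃ m : G, m * z * m⁻¹ = S.f t.1 ∧ m * S.f t.1 * m⁻¹ = z := by
    intro t
    obtain ⟨h1, h2⟩ := List.mem_filter.1 (List.mem_toFinset.1 t.2)
    obtain ⟨ht, hi⟩ := Setup.mem_invList.1 h1
    exact S.exists_exchange ht hi (fun e => by rw [e] at h2; exact Bool.noConfusion h2)
  choose m hm1 hm2 using hex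
  have hlt : ∀ t : {t // t ∈ others.toFinset}, t.1 < 1152 ∧ orderOf (S.f t.1) = 2 := fun t => by
    obtain ⟨h1, -⟩ := List.mem_filter.1 (List.mem_toFinset.1 t.2)
    obtain ⟨ht, hi⟩ := Setup.mem_invList.1 h1
    exact ⟨ht, (S.isInv_iff ht).1 hi⟩
  let T := Σ t : {t // t ∈ others.toFinset}, {n // n ∈ (invList.filter fun n => hit t.1 n).toFinset}
  have hT : Nat.card T = 1170 := by
    rw [Nat.card_sigma]
    have h1 : ∀ t : {t // t ∈ others.toFinset},
        Nat.card {n // n ∈ (invList.filter fun n => hit t.1 n).toFinset} =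
          (invList.filter fun n => hit t.1 n).length := fun t => by
      rw [Nat.card_eq_finsetCard, List.toFinset_card_of_nodup (reps_nodup.2.2.filter _)]
    rw [Finset.sum_congr rfl fun t _ => h1 t, Finset.univ_eq_attach,
      Finset.sum_attach others.toFinset fun t => (invList.filter fun n => hit t n).length,
      List.sum_toFinset _ reps_nodup.2.1]
    exact even_count
  have hn : ∀ p : T, p.2.1 < 1152 ∧ orderOf (S.f p.2.1) = 2 ∧ ∃ j : ℕ, (S.f p.1.1 * S.f p.2.1) ^ j = z := by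
    intro p
    obtain ⟨h1, h2⟩ := List.mem_filter.1 (List.mem_toFinset.1 p.2.2)
    obtain ⟨hn, hi⟩ := Setup.mem_invList.1 h1
    exact ⟨hn, (S.isInv_iff hn).1 hi, (setup_hit S (hlt p.1).1 hn).1 h2⟩
  let g : T → G := fun p => m p.1 * (S.f p.1.1 * S.f p.2.1) * (m p.1)⁻¹
  have hgz : ∀ p : T, g p = z * (m p.1 * S.f p.2.1 * (m p.1)⁻¹) := fun p => by
    show m p.1 * (S.f p.1.1 * S.f p.2.1) * (m p.1)⁻¹ = _
    calc m p.1 * (S.f p.1.1 * S.f p.2.1) * (m p.1)⁻¹
        = (m p.1 * S.f p.1.1 * (m p.1)⁻¹) * (m p.1 * S.f p.2.1 * (m p.1)⁻¹) := by group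
      _ = _ := by rw [hm2]
  have hgpow : ∀ p : T, ∃ j : ℕ, g p ^ j = S.f p.1.1 := fun p => by
    obtain ⟨-, -, j, hj⟩ := hn p
    exact ⟨j, by rw [conj_pow, hj, hm1]⟩
  have hgP : ∀ p : T, (Inverted z (g p) ∧ g p ≠ z) ∧ Even (orderOf (g p)) := fun p => by
    refine ⟨hgz p ▸ setup_mul_inverted S (by rw [orderOf_conj]; exact (hn p).2.1), ?_⟩
    obtain ⟨j, hj⟩ := hgpow p
    have := (hlt p.1).2
    rw [← hj] at this
    exact even_iff_two_dvd.2 (this ▸ orderOf_pow_dvd j)
  have hinj : Function.Injective g := by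
    rintro ⟨t, n⟩ ⟨t', n'⟩ he
    obtain ⟨j, hj⟩ := hgpow ⟨t, n⟩
    obtain ⟨j', hj'⟩ := hgpow ⟨t', n'⟩
    rw [he] at hj
    have h1 : S.f t.1 = S.f t'.1 := by
      rw [← hj, ← hj']
      exact involution_pow_unique S (hj ▸ (hlt t).2) (hj' ▸ (hlt t').2)
    obtain rfl : t = t' := Subtype.ext (S.f_inj _ (hlt t).1 _ (hlt t').1 h1)
    have h2 : S.f n.1 = S.f n'.1 := mul_left_cancel (mul_left_cancel (mul_right_cancel
      (show m t * (S.f t.1 * S.f n.1) * (m t)⁻¹ = m t * (S.f t.1 * S.f n'.1) * (m t)⁻¹ from he)))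
    obtain rfl : n = n' := Subtype.ext (S.f_inj _ (hn ⟨t, n⟩).1 _ (hn ⟨t, n'⟩).1 h2)
    rfl
  rw [← hT]
  symm
  refine Nat.card_congr (Equiv.ofBijective (fun p => ⟨g p, hgP p⟩) ⟨fun p q h => hinj (congrArg Subtype.val h), ?_⟩)
  rintro ⟨x, ⟨hinv, hxz⟩, hev⟩
  set k := orderOf x / 2 with hk
  obtain ⟨r, hr⟩ := hev
  have hpos := orderOf_pos x
  have hw2 : orderOf (x ^ k) = 2 := by
    rw [hk, orderOf_pow_of_dvd (by omega) ⟨2, by omega⟩]
    have : orderOf x / 2 = r := by omega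
    rw [this, hr, ← two_mul, Nat.mul_div_cancel _ (by omega)]
  have hwz : Commute (x ^ k) z := by
    have h1 : z * x ^ k * z⁻¹ = x ^ k := by
      rw [← conj_pow, hinv, inv_pow]
      exact inv_eq_of_mul_eq_one_right (sq_of_orderOf hw2)
    exact (mul_inv_eq_iff_eq_mul.1 h1).symm
  have hne : x ^ k ≠ z := fun e => by
    have h1 : z * x * z⁻¹ = x := by
      rw [← e, ((Commute.refl x).pow_left k).eq, mul_inv_cancel_right]
    rw [hinv] at h1
    have hx2 : x * x = 1 := by nth_rewrite 1 [← h1]; exact inv_mul_cancel x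
    have ho : orderOf x ∣ 2 := orderOf_dvd_of_pow_eq_one (by rw [pow_two]; exact hx2)
    have : k = 1 := by
      have := Nat.le_of_dvd (by norm_num) ho
      omega
    rw [this, pow_one] at e
    exact hxz e
  obtain ⟨t, ht, hft⟩ := S.f_surj (x ^ k) hwz
  have htI : isInv t = true := (S.isInv_iff ht).2 (by rw [hft]; exact hw2)
  have ht12 : t ≠ 12 := fun e => hne (by rw [← hft, e, S.f_z])
  have htm : t ∈ others.toFinset := List.mem_toFinset.2
    (List.mem_filter.2 ⟨Setup.mem_invList.2 ⟨ht, htI⟩, by rw [beq_false ht12]; rfl⟩)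
  set M := m ⟨t, htm⟩ with hM
  have hb1 : M * z * M⁻¹ = S.f t := hm1 ⟨t, htm⟩
  have hb2 : M * S.f t * M⁻¹ = z := hm2 ⟨t, htm⟩
  have hu : orderOf (z * x) = 2 := by
    refine orderOf_of_sq ?_ fun h => hxz ?_
    · have h : z * x * z⁻¹ = x⁻¹ := hinv
      rw [inv_eq_of_mul_eq_one_right hz] at h
      calc z * x * (z * x) = z * x * z * x := by group
        _ = 1 := by rw [h, inv_mul_cancel]
    · rw [eq_inv_of_mul_eq_one_right h, inv_eq_of_mul_eq_one_right hz]
  have hcw : Commute (z * x) (S.f t) := by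
    rw [hft]; exact hwz.symm.mul_left ((Commute.refl x).pow_right k)
  have hnz : Commute (M⁻¹ * (z * x) * M) z := by
    have h := hcw.map (MulAut.conj M⁻¹)
    simp only [MulAut.conj_apply, inv_inv] at h
    rwa [show M⁻¹ * S.f t * M = z by rw [← hb1]; group] at h
  obtain ⟨n, hn', hfn⟩ := S.f_surj _ hnz
  have hnI : isInv n = true := (S.isInv_iff hn').2 (by
    rw [hfn]
    calc orderOf (M⁻¹ * (z * x) * M) = orderOf (M⁻¹ * (z * x) * M⁻¹⁻¹) := by rw [inv_inv]
      _ = 2 := by rw [orderOf_conj]; exact hu)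
  have hprod : S.f t * S.f n = M⁻¹ * x * M := by
    have e1 : S.f t = M⁻¹ * z * M := by
      calc S.f t = M⁻¹ * (M * S.f t * M⁻¹) * M := by group
        _ = _ := by rw [hb2]
    rw [hfn, e1]
    calc M⁻¹ * z * M * (M⁻¹ * (z * x) * M) = M⁻¹ * (z * z) * x * M := by group
      _ = _ := by rw [hz]; group
  have hhit : hit t n = true := (setup_hit S ht hn').2 ⟨k, by
    rw [hprod]
    calc (M⁻¹ * x * M) ^ k = (M⁻¹ * x * M⁻¹⁻¹) ^ k := by rw [inv_inv]
      _ = M⁻¹ * x ^ k * M := by rw [conj_pow, inv_inv]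
      _ = z := by rw [← hft, ← hb1]; group⟩
  refine ⟨⟨⟨t, htm⟩, ⟨n, List.mem_toFinset.2 (List.mem_filter.2 ⟨Setup.mem_invList.2 ⟨hn', hnI⟩, hhit⟩)⟩⟩,
    Subtype.ext ?_⟩
  show M * (S.f t * S.f n) * M⁻¹ = x
  rw [hprod]; group

end Cfsg.Agent.Lib.U43Graph14
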