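import Cfsg.Agent.Lib.U43Graph14.CountLocal
import Cfsg.Agent.Lib.U43Graph14.FromSetup

/-!
# The involution count: products centralised by no element of the centraliser
-/

set_option autoImplicit false
set_option linter.unusedSectionVars false

namespace Cfsg.Agent.Lib.U43Graph14

open Cfsg.Agent.Lib Cfsg.Agent.Lib.U43Type85

universe u

/-- An inverted element of odd order centralised by no nontrivial element of the centraliser. -/
def Regular {G : Type u} [Group G] (z x : G) : Prop := OddInv z x ∧ ¬ IsLocal z x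

/-- Two elements with centralisers conjugate under the centraliser of `z`. -/
def SameClass {G : Type u} [Group G] (z x w : G) : Prop :=
  ∃ k, Commute k z ∧ Commute (k * w * k⁻¹) x

variable {G : Type u} [Group G] [Finite G] {z : G}

theorem reg_fixed {x h : G} (hx : Regular z x) (hz : Commute h z) (hc : Commute h x) : h = 1 :=
  by_contra fun h1 => hx.2 ⟨h, h1, hz, hc⟩

theorem reg_conj {g x : G} (hg : Commute g z) (hx : Regular z x) : Regular z (g * x * g⁻¹) := by
  refine ⟨(oddInv_conj hg x).2 hx.1, ?_⟩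
  rintro ⟨h, h1, hhz, hhx⟩
  refine h1 ?_
  have h2 : g⁻¹ * h * g⁻¹⁻¹ = 1 := by
    refine reg_fixed hx ((hg.inv_left.mul_left hhz).mul_left (by rw [inv_inv]; exact hg)) ?_
    have h3 := (Commute.conj_iff g⁻¹).2 hhx
    rwa [show g⁻¹ * (g * x * g⁻¹) * g⁻¹⁻¹ = x by group] at h3
  calc h = g * (g⁻¹ * h * g⁻¹⁻¹) * g⁻¹ := by group
    _ = 1 := by rw [h2]; group

variable (S : Setup z)

include S

theorem reg_inverted {x g : G} (hx : Regular z x) (hg : Commute g x) : Inverted z g := by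
  have hz := Setup.z_sq S
  have hzi : z⁻¹ = z := inv_eq_of_mul_eq_one_right hz
  have hzc : ∀ {a : G}, Commute a x → Commute (z * a * z⁻¹) x := by
    intro a ha
    have h : z * x * z⁻¹ = x⁻¹ := hx.1.2.1
    have h2 := (Commute.conj_iff z).2 ha
    rw [h] at h2
    exact Commute.inv_right_iff.1 h2
  let φ : {a : G // Commute a x} → {a : G // Commute a x} := fun a =>
    ⟨a.1⁻¹ * (z * a.1 * z⁻¹), a.2.inv_left.mul_left (hzc a.2)⟩
  have hinj : Function.Injective φ := by
    rintro ⟨a, ha⟩ ⟨b, hb⟩ he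
    have he : a⁻¹ * (z * a * z⁻¹) = b⁻¹ * (z * b * z⁻¹) := congrArg Subtype.val he
    have h1 : z * (b * a⁻¹) * z⁻¹ = b * a⁻¹ := by
      calc z * (b * a⁻¹) * z⁻¹ = b * (b⁻¹ * (z * b * z⁻¹)) * (z * a * z⁻¹)⁻¹ := by group
        _ = b * (a⁻¹ * (z * a * z⁻¹)) * (z * a * z⁻¹)⁻¹ := by rw [he]
        _ = b * a⁻¹ := by group
    exact Subtype.ext (mul_inv_eq_one.1
      (reg_fixed hx (mul_inv_eq_iff_eq_mul.1 h1).symm (hb.mul_left ha.inv_left))).symm
  obtain ⟨⟨a, ha⟩, he⟩ := Finite.injective_iff_surjective.1 hinj ⟨g, hg⟩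
  have he : a⁻¹ * (z * a * z⁻¹) = g := congrArg Subtype.val he
  show z * g * z⁻¹ = g⁻¹
  rw [← he, hzi]
  calc z * (a⁻¹ * (z * a * z)) * z = z * a⁻¹ * z * a * (z * z) := by group
    _ = z * a⁻¹ * z * a := by rw [hz, mul_one]
    _ = (a⁻¹ * (z⁻¹ * a * z⁻¹))⁻¹ := by group
    _ = _ := by rw [hzi]

theorem reg_comm {x a b : G} (hx : Regular z x) (ha : Commute a x) (hb : Commute b x) : Commute a b := by
  have h : z * (a * b) * z⁻¹ = (a * b)⁻¹ := reg_inverted S hx (ha.mul_left hb)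
  have h1 : z * a * z⁻¹ = a⁻¹ := reg_inverted S hx ha
  have h2 : z * b * z⁻¹ = b⁻¹ := reg_inverted S hx hb
  have h3 : a⁻¹ * b⁻¹ = b⁻¹ * a⁻¹ := by
    rw [← mul_inv_rev a b, ← h, ← h1, ← h2]; group
  exact Commute.inv_inv_iff.1 h3

omit S in
theorem mem_cent {x g : G} : g ∈ Subgroup.centralizer ({x} : Set G) ↔ Commute g x :=
  Subgroup.mem_centralizer_singleton_iff

theorem reg_not_two {x : G} (hx : Regular z x) : ¬ 2 ∣ Nat.card (Subgroup.centralizer ({x} : Set G)) := by
  intro h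
  obtain ⟨t, ht⟩ := exists_prime_orderOf_dvd_card' 2 h
  have ht1 : orderOf (t : G) = 2 := by rw [Subgroup.orderOf_coe]; exact ht
  have hi : z * t * z⁻¹ = (t : G)⁻¹ := reg_inverted S hx (mem_cent.1 t.2)
  rw [inv_eq_of_mul_eq_one_right (sq_of_orderOf ht1)] at hi
  rw [reg_fixed hx (mul_inv_eq_iff_eq_mul.1 hi).symm (mem_cent.1 t.2), orderOf_one] at ht1
  norm_num at ht1

theorem reg_order_odd {x g : G} (hx : Regular z x) (hg : Commute g x) : Odd (orderOf g) := by
  have h1 : Odd (Nat.card (Subgroup.centralizer ({x} : Set G))) :=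
    Nat.odd_iff.2 (by have := reg_not_two S hx; omega)
  exact h1.of_dvd_nat (Subgroup.orderOf_dvd_natCard _ (mem_cent.2 hg))

theorem reg_trans {x y w : G} (hy : Regular z y) (h1 : Commute x y) (h2 : Commute y w) : Commute x w :=
  reg_comm S hy h1 h2.symm

theorem sameClass_refl (x : G) : SameClass z x x :=
  ⟨1, Commute.one_left z, by rw [one_mul, inv_one, mul_one]⟩

theorem sameClass_symm {x w : G} (h : SameClass z x w) : SameClass z w x := by
  obtain ⟨k, hk, hc⟩ := h
  refine ⟨k⁻¹, hk.inv_left, ?_⟩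
  have h2 := (Commute.conj_iff k⁻¹).2 hc
  rw [show k⁻¹ * (k * w * k⁻¹) * k⁻¹⁻¹ = w by group] at h2
  exact h2.symm

theorem sameClass_trans {x y w : G} (hy : Regular z y) (h1 : SameClass z x y) (h2 : SameClass z y w) :
    SameClass z x w := by
  obtain ⟨l, hl, hc⟩ := h1
  obtain ⟨k, hk, hd⟩ := h2
  refine ⟨l * k, hl.mul_left hk, ?_⟩
  rw [show l * k * w * (l * k)⁻¹ = l * (k * w * k⁻¹) * l⁻¹ by group]
  exact reg_trans S (reg_conj hl hy) ((Commute.conj_iff l).2 hd) hc

omit S in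
/-- A free action makes the order divide the cardinality. -/
theorem card_dvd_of_free (M α : Type u) [Group M] [MulAction M α]
    (h : ∀ (m : M) (a : α), m • a = a → m = 1) : Nat.card M ∣ Nat.card α := by
  have hs : ∀ a : α, MulAction.stabilizer M a = ⊥ := fun a =>
    (Subgroup.eq_bot_iff_forall _).2 fun m hm => h m a hm
  rw [Nat.card_congr (MulAction.selfEquivOrbitsQuotientProd hs), Nat.card_prod]
  exact dvd_mul_left _ _

/-- The elements of `C(z)` normalising the centraliser of `x`. -/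
abbrev classStab (z x : G) : Subgroup G :=
  Subgroup.centralizer ({z} : Set G) ⊓ Subgroup.normalizer (Subgroup.centralizer ({x} : Set G) : Set G)

omit S in
theorem mem_classStab {x n : G} :
    n ∈ classStab z x ↔ Commute n z ∧ ∀ a, Commute a x ↔ Commute (n * a * n⁻¹) x := by
  simp only [classStab, Subgroup.mem_inf, mem_cent, Subgroup.mem_normalizer_iff, SetLike.mem_coe]

theorem stab_facts {x : G} (hx : Regular z x) :
    Nat.card (classStab z x) ∣ 1152 ∧ 2 ∣ Nat.card (classStab z x) := by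
  refine ⟨setup_card S ▸ Subgroup.card_dvd_of_le inf_le_left, ?_⟩
  have hz : z ∈ classStab z x := by
    refine mem_classStab.2 ⟨Commute.refl z, fun a => ⟨fun ha => ?_, fun ha => ?_⟩⟩
    · have h : z * a * z⁻¹ = a⁻¹ := reg_inverted S hx ha
      rw [h]
      exact ha.inv_left
    · have hzz := Setup.z_sq S
      have hzi : z⁻¹ = z := inv_eq_of_mul_eq_one_right hzz
      have h : z * (z * a * z⁻¹) * z⁻¹ = (z * a * z⁻¹)⁻¹ := reg_inverted S hx ha
      have e : z * (z * a * z⁻¹) * z⁻¹ = a := by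
        rw [hzi]
        calc z * (z * a * z) * z = (z * z) * a * (z * z) := by group
          _ = a := by rw [hzz]; group
      rw [← e, h]
      exact ha.inv_left
  exact S.orderOf_z ▸ Subgroup.orderOf_dvd_natCard _ hz

theorem stab_dvd {x : G} (hx : Regular z x) (hreg : ∀ y, Commute y x → y ≠ 1 → Regular z y) :
    Nat.card (classStab z x) ∣ Nat.card {y : G // Commute y x ∧ y ≠ 1} := by
  letI : MulAction (classStab z x) {y : G // Commute y x ∧ y ≠ 1} :=
    { smul := fun n y => ⟨n.1 * y.1 * n.1⁻¹, ((mem_classStab.1 n.2).2 _).1 y.2.1,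
        fun h => y.2.2 (conj_eq_one_iff.1 h)⟩
      one_smul := fun y => Subtype.ext (by
        show (1 : G) * y.1 * 1⁻¹ = y.1
        group)
      mul_smul := fun m n y => Subtype.ext (by
        show (m.1 * n.1) * y.1 * (m.1 * n.1)⁻¹ = m.1 * (n.1 * y.1 * n.1⁻¹) * m.1⁻¹
        group) }
  refine card_dvd_of_free _ _ fun n y h => Subtype.ext ?_
  have h : n.1 * y.1 * n.1⁻¹ = y.1 := congrArg Subtype.val h
  exact reg_fixed (hreg y.1 y.2.1 y.2.2) (mem_classStab.1 n.2).1 (mul_inv_eq_iff_eq_mul.1 h)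

theorem class_mul {x : G} (hx : Regular z x) (hreg : ∀ y, Commute y x → y ≠ 1 → Regular z y) :
    Nat.card {w : G // Regular z w ∧ SameClass z x w} * Nat.card (classStab z x) =
      1152 * Nat.card {y : G // Commute y x ∧ y ≠ 1} := by
  choose k hkz hkc using fun w : {w : G // Regular z w ∧ SameClass z x w} => w.2.2
  rw [← setup_card S, ← Nat.card_prod, ← Nat.card_prod]
  refine Nat.card_congr (Equiv.ofBijective (fun p =>
    (⟨p.2.1 * k p.1, mem_cent.2 ((mem_classStab.1 p.2.2).1.mul_left (hkz p.1))⟩,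
      ⟨p.2.1 * (k p.1 * p.1.1 * (k p.1)⁻¹) * p.2.1⁻¹,
        ((mem_classStab.1 p.2.2).2 _).1 (hkc p.1),
        fun h => p.1.2.1.1.2.2 (conj_eq_one_iff.1 (conj_eq_one_iff.1 h))⟩)) ⟨?_, ?_⟩)
  · rintro ⟨w, n⟩ ⟨w', n'⟩ he
    have h1 : n.1 * k w = n'.1 * k w' := congrArg (fun q => q.1.1) he
    have h2 : n.1 * (k w * w.1 * (k w)⁻¹) * n.1⁻¹ = n'.1 * (k w' * w'.1 * (k w')⁻¹) * n'.1⁻¹ :=
      congrArg (fun q => q.2.1) he
    have hw : w.1 = w'.1 := by
      calc w.1 = (n.1 * k w)⁻¹ * (n.1 * (k w * w.1 * (k w)⁻¹) * n.1⁻¹) * (n.1 * k w) := by group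
        _ = (n'.1 * k w')⁻¹ * (n'.1 * (k w' * w'.1 * (k w')⁻¹) * n'.1⁻¹) * (n'.1 * k w') := by
          rw [h1, h2]
        _ = w'.1 := by group
    obtain rfl : w = w' := Subtype.ext hw
    obtain rfl : n = n' := Subtype.ext (mul_right_cancel h1)
    rfl
  · rintro ⟨⟨l, hl⟩, ⟨y, hy, hy1⟩⟩
    have hlz := mem_cent.1 hl
    have e : l * (l⁻¹ * y * l) * l⁻¹ = y := by group
    have hwreg : Regular z (l⁻¹ * y * l) := by
      have := reg_conj hlz.inv_left (hreg y hy hy1)
      rwa [inv_inv] at this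
    let w : {w : G // Regular z w ∧ SameClass z x w} :=
      ⟨l⁻¹ * y * l, hwreg, l, hlz, by rw [e]; exact hy⟩
    set u := k w * w.1 * (k w)⁻¹ with hu
    have hux : Commute u x := hkc w
    have hureg : Regular z u := reg_conj (hkz w) hwreg
    have hn : l * (k w)⁻¹ ∈ classStab z x := by
      refine mem_classStab.2 ⟨hlz.mul_left (hkz w).inv_left, fun a => ?_⟩
      have e2 : l * (k w)⁻¹ * u * (l * (k w)⁻¹)⁻¹ = y := by
        rw [hu, show w.1 = l⁻¹ * y * l from rfl]; group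
      constructor
      · intro ha
        have h := (Commute.conj_iff (l * (k w)⁻¹)).2 (reg_trans S hx ha hux.symm)
        rw [e2] at h
        exact reg_trans S (hreg y hy hy1) h hy
      · intro ha
        have h := reg_trans S hx ha hy.symm
        rw [← e2] at h
        exact reg_trans S hureg ((Commute.conj_iff _).1 h) hux
    refine ⟨⟨w, ⟨_, hn⟩⟩, Prod.ext (Subtype.ext (inv_mul_cancel_right l (k w))) (Subtype.ext ?_)⟩
    show l * (k w)⁻¹ * (k w * (l⁻¹ * y * l) * (k w)⁻¹) * (l * (k w)⁻¹)⁻¹ = y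
    group

variable {J : Subgroup G} (hJ : Facts S J)

include hJ

theorem reg_mem {x y : G} (hx : Regular z x) (hy : Commute y x) (hy1 : y ≠ 1) : Regular z y := by
  have ho := reg_order_odd S hx hy
  have hi := reg_inverted S hx hy
  refine ⟨⟨ho, hi, hy1⟩, fun hl => hx.2 ?_⟩
  obtain ⟨k, hk⟩ := hJ.local_cent y hy1 ho hi hl x hy.symm hx.1.1
  exact hJ.three_local x k hk hx.1.2.2 hx.1.2.1

theorem reg_three {x : G} (hx : Regular z x) : ¬ 3 ∣ Nat.card (Subgroup.centralizer ({x} : Set G)) := by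
  haveI : Fact (Nat.Prime 3) := ⟨Nat.prime_three⟩
  intro h
  obtain ⟨t, ht⟩ := exists_prime_orderOf_dvd_card' 3 h
  have ht1 : orderOf (t : G) = 3 := by rw [Subgroup.orderOf_coe]; exact ht
  have hne : (t : G) ≠ 1 := fun e => by rw [e, orderOf_one] at ht1; norm_num at ht1
  exact (reg_mem S hJ hx (mem_cent.1 t.2) hne).2 (hJ.three_local t 1
    (by rw [pow_one, ← ht1, pow_orderOf_eq_one]) hne (reg_inverted S hx (mem_cent.1 t.2)))

theorem sylow_in {x : G} (hx : Regular z x) {p : ℕ} [Fact p.Prime]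
    (hp : p ∣ Nat.card (Subgroup.centralizer ({x} : Set G))) :
    ∃ P : Sylow p G, ∃ y ∈ P, y ≠ 1 ∧ ∀ v ∈ P, Commute v x := by
  obtain ⟨t, ht⟩ := exists_prime_orderOf_dvd_card' p hp
  have ht1 : orderOf (t : G) = p := by rw [Subgroup.orderOf_coe]; exact ht
  have htne : (t : G) ≠ 1 := fun e => by
    rw [e, orderOf_one] at ht1
    exact (Fact.out : p.Prime).ne_one ht1.symm
  obtain ⟨P, hP⟩ := (IsPGroup.of_card (p := p) (G := Subgroup.zpowers (t : G)) (n := 1)
    (by rw [Nat.card_zpowers, ht1, pow_one])).exists_le_sylow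
  have htP : (t : G) ∈ P := hP (Subgroup.mem_zpowers _)
  haveI : Nontrivial (P : Subgroup G) := ⟨⟨t, htP⟩, 1, fun e => htne (congrArg Subtype.val e)⟩
  haveI := IsPGroup.center_nontrivial (p := p) (G := (P : Subgroup G)) P.isPGroup'
  obtain ⟨u, hu⟩ := exists_ne (1 : Subgroup.center (P : Subgroup G))
  have hu1 : ((u : (P : Subgroup G)) : G) ≠ 1 := fun e => hu (Subtype.ext (Subtype.ext e))
  have hc : ∀ v ∈ P, Commute v ((u : (P : Subgroup G)) : G) := fun v hv =>
    congrArg Subtype.val (Subgroup.mem_center_iff.1 u.2 ⟨v, hv⟩)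
  have hux : Commute ((u : (P : Subgroup G)) : G) x :=
    reg_trans S (reg_mem S hJ hx (mem_cent.1 t.2) htne) (hc t htP).symm (mem_cent.1 t.2)
  exact ⟨P, t, htP, htne, fun v hv => reg_trans S (reg_mem S hJ hx hux hu1) (hc v hv) hux⟩

/-- Classes with a common prime coincide. -/
theorem class_of_prime {x x' : G} (hx : Regular z x) (hx' : Regular z x') {p : ℕ} [Fact p.Prime]
    (hp : p ∣ Nat.card (Subgroup.centralizer ({x} : Set G)))
    (hp' : p ∣ Nat.card (Subgroup.centralizer ({x'} : Set G))) : SameClass z x' x := by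
  obtain ⟨P, y, hyP, hy1, hP⟩ := sylow_in S hJ hx hp
  obtain ⟨Q, -, -, -, hQ⟩ := sylow_in S hJ hx' hp'
  obtain ⟨g, hg⟩ := MulAction.exists_smul_eq G P Q
  have hgy : g * y * g⁻¹ ∈ Q := by
    rw [← hg]
    exact Subgroup.smul_mem_pointwise_smul y (MulAut.conj g) _ hyP
  have hyx := hP y hyP
  have hy' := reg_mem S hJ hx hyx hy1
  have hw : Commute (g * y * g⁻¹) x' := hQ _ hgy
  have hzi : z⁻¹ = z := inv_eq_of_mul_eq_one_right (Setup.z_sq S)
  set w := g⁻¹ * z * g with hwdef
  set n := w * z with hn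
  have hwy : w * y * w⁻¹ = y⁻¹ := by
    have h : z * (g * y * g⁻¹) * z⁻¹ = (g * y * g⁻¹)⁻¹ := reg_inverted S hx' hw
    calc w * y * w⁻¹ = g⁻¹ * (z * (g * y * g⁻¹) * z⁻¹) * g := by rw [hwdef]; group
      _ = y⁻¹ := by rw [h]; group
  have hny : Commute n y := by
    refine mul_inv_eq_iff_eq_mul.1 ?_
    have h : z * y * z⁻¹ = y⁻¹ := hy'.1.2.1
    calc n * y * n⁻¹ = w * (z * y * z⁻¹) * w⁻¹ := by rw [hn]; group
      _ = (w * y * w⁻¹)⁻¹ := by rw [h]; group
      _ = y := by rw [hwy, inv_inv]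
  obtain ⟨j, hj⟩ := reg_order_odd S hy' hny
  set a := n ^ (j + 1) with ha
  have hay : Commute a y := hny.pow_left _
  have haa : a * a = n := by
    rw [ha, ← pow_add, show j + 1 + (j + 1) = (2 * j + 1) + 1 by ring, pow_succ, ← hj,
      pow_orderOf_eq_one, one_mul]
  have hai : z * a * z⁻¹ = a⁻¹ := reg_inverted S hy' hay
  have hza : a * z * a⁻¹ = w := by
    calc a * z * a⁻¹ = a * (z * a⁻¹ * z⁻¹) * z := by group
      _ = a * a * z := by
        rw [show z * a⁻¹ * z⁻¹ = (z * a * z⁻¹)⁻¹ by group, hai, inv_inv]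
      _ = w := by rw [haa, hn, mul_assoc, Setup.z_sq S, mul_one]
  have hk : Commute (g * a) z := by
    refine mul_inv_eq_iff_eq_mul.1 ?_
    calc g * a * z * (g * a)⁻¹ = g * (a * z * a⁻¹) * g⁻¹ := by group
      _ = z := by rw [hza, hwdef]; group
  refine ⟨g * a, hk, reg_trans S (reg_conj hk hy') ((Commute.conj_iff _).2 hyx.symm) ?_⟩
  rwa [show g * a * y * (g * a)⁻¹ = g * (a * y * a⁻¹) * g⁻¹ by group,
    show a * y * a⁻¹ = y by rw [hay.eq, mul_inv_cancel_right]]

/-- The data of one class. -/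
theorem class_data {x : G} (hx : Regular z x) :
    (5 ≤ Nat.card (Subgroup.centralizer ({x} : Set G)) ∧
      ¬ 2 ∣ Nat.card (Subgroup.centralizer ({x} : Set G)) ∧
      ¬ 3 ∣ Nat.card (Subgroup.centralizer ({x} : Set G))) ∧
    (Nat.card (classStab z x) ∣ 1152 ∧ 2 ∣ Nat.card (classStab z x) ∧
      Nat.card (classStab z x) ∣ Nat.card (Subgroup.centralizer ({x} : Set G)) - 1) ∧
    Nat.card {w : G // Regular z w ∧ SameClass z x w} =
      1152 * ((Nat.card (Subgroup.centralizer ({x} : Set G)) - 1) / Nat.card (classStab z x)) := by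
  have h2 := reg_not_two S hx
  have h3 := reg_three S hJ hx
  have hpos := Nat.card_pos (α := Subgroup.centralizer ({x} : Set G))
  have hne : Nat.card (Subgroup.centralizer ({x} : Set G)) ≠ 1 := fun h =>
    hx.1.2.2 (Subgroup.mem_bot.1 (Subgroup.card_eq_one.1 h ▸ mem_cent.2 (Commute.refl x)))
  have hcard : Nat.card {y : G // Commute y x ∧ y ≠ 1} =
      Nat.card (Subgroup.centralizer ({x} : Set G)) - 1 := by
    have h := card_ne_one (fun y : G => Commute y x) (Commute.one_left x)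
    have h' : Nat.card (Subgroup.centralizer ({x} : Set G)) = Nat.card {y : G // Commute y x} :=
      Nat.card_congr (Equiv.subtypeEquivRight fun y => mem_cent)
    omega
  have hreg : ∀ y, Commute y x → y ≠ 1 → Regular z y := fun y => reg_mem S hJ hx
  obtain ⟨he, he2⟩ := stab_facts S hx
  have hd := stab_dvd S hx hreg
  rw [hcard] at hd
  have hm := class_mul S hx hreg
  rw [hcard] at hm
  refine ⟨⟨by omega, h2, h3⟩, ⟨he, he2, hd⟩, ?_⟩
  obtain ⟨q, hq⟩ := hd
  have he0 : 0 < Nat.card (classStab z x) := Nat.card_pos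
  rw [hq, Nat.mul_div_cancel_left q he0]
  rw [hq, mul_left_comm, mul_comm] at hm
  exact Nat.eq_of_mul_eq_mul_left he0 hm

/-- The classes of regular elements. -/
theorem setup_regular :
    ∃ (ι : Type u) (s : Finset ι) (A e : ι → ℕ),
      (∀ j ∈ s, 5 ≤ A j ∧ ¬ 2 ∣ A j ∧ ¬ 3 ∣ A j) ∧
      (∀ j ∈ s, e j ∣ 1152 ∧ 2 ∣ e j ∧ e j ∣ A j - 1) ∧
      (∀ a ∈ s, ∀ b ∈ s, a ≠ b → (A a).Coprime (A b)) ∧
      Nat.card {x : G // Regular z x} = 1152 * ∑ j ∈ s, (A j - 1) / e j ∧
      ∀ j ∈ s, A j ∣ Nat.card G := by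
  classical
  let st : Setoid {x : G // Regular z x} :=
    { r := fun a b => SameClass z a.1 b.1
      iseqv := ⟨fun a => sameClass_refl S a.1, fun h => sameClass_symm S h,
        fun {a b c} h h' => sameClass_trans S b.2 h h'⟩ }
  haveI := Fintype.ofFinite (Quotient st)
  refine ⟨Quotient st, Finset.univ, fun q => Nat.card (Subgroup.centralizer ({q.out.1} : Set G)),
    fun q => Nat.card (classStab z q.out.1), fun q _ => (class_data S hJ q.out.2).1,
    fun q _ => (class_data S hJ q.out.2).2.1, ?_, ?_, fun q _ => Subgroup.card_subgroup_dvd_card _⟩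
  · intro a _ b _ hab
    refine Nat.coprime_of_dvd fun p hp h1 h2 => hab ?_
    haveI := Fact.mk hp
    have h := class_of_prime S hJ a.out.2 b.out.2 h1 h2
    calc a = Quotient.mk st a.out := (Quotient.out_eq a).symm
      _ = Quotient.mk st b.out := Quotient.sound (sameClass_symm S h)
      _ = b := Quotient.out_eq b
  · rw [← Nat.card_congr (Equiv.sigmaFiberEquiv (Quotient.mk st)), Nat.card_sigma, Finset.mul_sum]
    refine Finset.sum_congr rfl fun q _ => ?_
    rw [← (class_data S hJ q.out.2).2.2]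
    refine Nat.card_congr
      { toFun := fun w => ⟨w.1.1, w.1.2, Quotient.exact ((Quotient.out_eq q).trans w.2.symm)⟩
        invFun := fun w => ⟨⟨w.1, w.2.1⟩, ?_⟩
        left_inv := fun w => rfl
        right_inv := fun w => rfl }
    exact ((Quotient.out_eq q).symm.trans (Quotient.sound w.2.2)).symm

end Cfsg.Agent.Lib.U43Graph14
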