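import Cfsg.Agent.Lib.U43Graph14.CountEnd
import Cfsg.Agent.Lib.U43Graph14.CountEven
import Cfsg.Agent.Lib.U43Graph14.CountRegular

/-!
# The order of a group of U4(3) type
-/

set_option autoImplicit false
set_option linter.unusedSectionVars false

namespace Cfsg.Agent.Lib.U43Graph14

open Cfsg.Agent.Lib Cfsg.Agent.Lib.U43Type85

universe u

theorem card_split {α : Type u} [Finite α] (P Q : α → Prop) :
    Nat.card {x // P x} = Nat.card {x // P x ∧ Q x} + Nat.card {x // P x ∧ ¬ Q x} := by
  classical
  haveI := Fintype.ofFinite α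
  have h1 : Nat.card {x // P x} = (Finset.univ.filter P).card := Nat.subtype_card _ (by intro x; simp)
  have h2 : Nat.card {x // P x ∧ Q x} = ((Finset.univ.filter P).filter Q).card :=
    Nat.subtype_card _ (by intro x; simp)
  have h3 : Nat.card {x // P x ∧ ¬ Q x} = ((Finset.univ.filter P).filter fun x => ¬ Q x).card :=
    Nat.subtype_card _ (by intro x; simp)
  rw [h1, h2, h3, Finset.card_filter_add_card_filter_not]

theorem prod_dvd_of_coprime {ι : Type u} (s : Finset ι) (A : ι → ℕ) (n : ℕ)
    (hcop : ∀ a ∈ s, ∀ b ∈ s, a ≠ b → (A a).Coprime (A b)) (hd : ∀ j ∈ s, A j ∣ n) :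
    ∏ j ∈ s, A j ∣ n := by
  classical
  induction s using Finset.induction_on with
  | empty => simp
  | insert a t ha ih =>
    rw [Finset.prod_insert ha]
    refine (Nat.Coprime.prod_right fun b hb => ?_).mul_dvd_of_dvd_of_dvd
      (hd a (Finset.mem_insert_self a t)) ?_
    · exact hcop a (Finset.mem_insert_self a t) b (Finset.mem_insert_of_mem hb) (fun e => ha (e ▸ hb))
    · exact ih (fun x hx y hy => hcop x (Finset.mem_insert_of_mem hx) y (Finset.mem_insert_of_mem hy))
        fun j hj => hd j (Finset.mem_insert_of_mem hj)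

variable {G : Type u} [Group G] [Finite G] {z : G} (S : Setup z) {J : Subgroup G} (hJ : Facts S J)

include S hJ

/-- The order of a group of U4(3) type. -/
theorem card_eq_of_facts : Nat.card G = 3265920 := by
  obtain ⟨ι, s, A, e, hA, he, hcop, hsum, hdvd⟩ := setup_regular S hJ
  obtain ⟨hmul, hcard⟩ := setup_card_involutions S
  set i := Nat.card {u : G // orderOf u = 2}
  have hodd : Nat.card {x : G // (Inverted z x ∧ x ≠ z) ∧ ¬ Even (orderOf x)} =
      1 + 512 + Nat.card {x : G // Regular z x} := by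
    have h1 : Nat.card {x : G // (Inverted z x ∧ x ≠ z) ∧ ¬ Even (orderOf x)} =
        Nat.card {x : G // Odd (orderOf x) ∧ Inverted z x} := by
      refine Nat.card_congr (Equiv.subtypeEquivRight fun x => ⟨fun h => ⟨Nat.not_even_iff_odd.1 h.2, h.1.1⟩,
        fun h => ⟨⟨h.2, fun e => ?_⟩, Nat.not_even_iff_odd.2 h.1⟩⟩)
      have h2 := h.1
      rw [e, S.orderOf_z] at h2
      exact absurd h2 (by decide)
    have h2 := card_ne_one (fun x : G => Odd (orderOf x) ∧ Inverted z x)
      ⟨by rw [orderOf_one]; exact odd_one, by simp [Inverted]⟩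
    have h3 : Nat.card {x : G // (Odd (orderOf x) ∧ Inverted z x) ∧ x ≠ 1} =
        Nat.card {x : G // OddInv z x} :=
      Nat.card_congr (Equiv.subtypeEquivRight fun x => by unfold OddInv; tauto)
    have h4 := card_split (fun x : G => OddInv z x) (IsLocal z)
    rw [setup_card_local S hJ] at h4
    have h5 : Nat.card {x : G // OddInv z x ∧ ¬ IsLocal z x} = Nat.card {x : G // Regular z x} := rfl
    omega
  have hi : i = 1683 + 1152 * ∑ j ∈ s, (A j - 1) / e j := by
    have h := card_split (fun x : G => Inverted z x ∧ x ≠ z) (fun x => Even (orderOf x))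
    rw [setup_card_even S, hodd, hsum] at h
    omega
  have h81 : 81 ∣ i := by
    have h := hJ.dvd_card
    rw [← hmul] at h
    omega
  have hcop81 : ∀ j ∈ s, Nat.Coprime 81 (A j) := fun j hj => by
    show Nat.Coprime (3 ^ 4) (A j)
    exact Nat.Coprime.pow_left 4 ((Nat.prime_three.coprime_iff_not_dvd).2 (hA j hj).2.2)
  have hdi : ∀ j ∈ s, A j ∣ i := fun j hj => by
    refine Nat.Coprime.dvd_of_dvd_mul_right ?_ (hmul.symm ▸ hdvd j hj)
    have h2 : Nat.Coprime 2 (A j) := (Nat.prime_two.coprime_iff_not_dvd).2 (hA j hj).2.1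
    have h3 : Nat.Coprime 3 (A j) := (Nat.prime_three.coprime_iff_not_dvd).2 (hA j hj).2.2
    have h := (h2.pow_left 7).mul_left (h3.pow_left 2)
    exact h.symm
  have hall : 81 * ∏ j ∈ s, A j ∣ i :=
    (Nat.Coprime.prod_right hcop81).mul_dvd_of_dvd_of_dvd h81 (prod_dvd_of_coprime s A i hcop hdi)
  have := count_end s A e i hA he hcop hi hall
  rw [← hmul, this]

end Cfsg.Agent.Lib.U43Graph14
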