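import Cfsg.Agent.Lib.U43Type85.Basic

/-!
# Checks on codes for the involution count
-/

set_option autoImplicit false
set_option maxRecDepth 20000

namespace Cfsg.Agent.Lib.U43Graph14.CountCodes

open Cfsg.Agent.Lib.U43Type85

/-- Some of the first powers is `z`. -/
def hitZ (x : ℕ) : ℕ → ℕ → Bool
  | 0, _ => false
  | k + 1, y => Nat.beq y 12 || hitZ x k (mul y x)

/-- The involution `n` gives an element with `z` in the group of `f t * f n`. -/
def hit (t n : ℕ) : Bool := hitZ (mul t n) 24 0

/-- The power `24`. -/
def pow24 (x : ℕ) : ℕ :=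
  let a := mul x x
  let b := mul a a
  let c := mul b b
  mul (mul c c) c

theorem exp_check : ((List.range 1152).all fun x => Nat.beq (pow24 x) 0) = true := by decide +kernel

/-- The involutions other than `z`. -/
def others : List ℕ := invList.filter fun t => !Nat.beq t 12

theorem even_count : ((others.map fun t => (invList.filter fun n => hit t n).length).sum) = 1170 := by
  decide +kernel

/-- Generators of the eight subgroups of order three conjugate to `⟨a⟩`. -/
def reps : List ℕ := [24, 216, 48, 204, 1, 9, 2, 20]

theorem reps_nodup : reps.Nodup ∧ others.Nodup ∧ invList.Nodup := by decide +kernel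

theorem reps_conj : (reps.all fun h => Nat.blt h 1152 && isThree h &&
    ((List.range 1152).any fun k => Nat.beq (cj k 24) h || Nat.beq (cj k 24) (inv h))) = true := by
  decide +kernel

theorem conj_reps : ((List.range 1152).all fun k =>
    reps.any fun h => Nat.beq (cj k 24) h || Nat.beq (cj k 24) (inv h)) = true := by decide +kernel

theorem three_classes : ((List.range 1152).all fun n => !(isThree n) ||
    ([24, inv 24, 25, inv 25, 30, inv 30].any fun x =>
      (List.range 1152).any fun k => Nat.beq (cj k x) n)) = true := by decide +kernel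

theorem pair_conj : (reps.all fun h => reps.all fun h' => Nat.beq h h' || !(cm2 h h') ||
    ((List.range 1152).any fun k => (Nat.beq (cj k 24) h || Nat.beq (cj k 24) (inv h)) &&
      (Nat.beq (cj k 1) h' || Nat.beq (cj k 1) (inv h')))) = true := by decide +kernel

theorem no_triple : ∀ h ∈ reps, ∀ h' ∈ reps, ∀ h'' ∈ reps, h ≠ h' → h ≠ h'' → h' ≠ h'' →
    ¬ (cm2 h h' = true ∧ cm2 h h'' = true ∧ cm2 h' h'' = true) := by decide +kernel

theorem pair_count : ((reps.toFinset ×ˢ reps.toFinset).filter fun p =>
    p.1 ≠ p.2 ∧ cm2 p.1 p.2 = true).card = 32 := by decide +kernel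

end Cfsg.Agent.Lib.U43Graph14.CountCodes
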