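import Mathlib

/-!
# The arithmetic end of the involution count
-/

set_option autoImplicit false
set_option maxRecDepth 20000

namespace Cfsg.Agent.Lib.U43Graph14

/-- The possible values of `e`. -/
def evens : List ℕ := [2, 4, 6, 8, 12, 16, 18, 24, 32, 36, 48, 64, 72, 96, 128, 144, 192, 288, 384, 576, 1152]

theorem mem_evens {e : ℕ} (h : e ∣ 1152) (h2 : 2 ∣ e) : e ∈ evens := by
  have : ∀ e : Fin 1153, e.val ∣ 1152 → 2 ∣ e.val → e.val ∈ evens := by decide +kernel
  exact this ⟨e, Nat.lt_succ_of_le (Nat.le_of_dvd (by norm_num) h)⟩ h h2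

theorem one_check : ∀ e ∈ evens, ∀ m : Fin 21, 0 < m.val → 1152 < 81 * e * m.val → 81 * m.val ≤ 1683 →
    (81 * e * m.val - 1152) ∣ (1683 - 81 * m.val) →
      1683 + 1152 * ((1683 - 81 * m.val) / (81 * e * m.val - 1152)) = 2835 ∨
      2 ∣ e * ((1683 - 81 * m.val) / (81 * e * m.val - 1152)) + 1 ∨
      3 ∣ e * ((1683 - 81 * m.val) / (81 * e * m.val - 1152)) + 1 ∨
      e * ((1683 - 81 * m.val) / (81 * e * m.val - 1152)) + 1 < 5 := by decide +kernel

/-- One class. -/
theorem count_one {A e m : ℕ} (hA5 : 5 ≤ A) (hA2 : ¬ 2 ∣ A) (hA3 : ¬ 3 ∣ A) (he : e ∣ 1152) (he2 : 2 ∣ e)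
    (hdiv : e ∣ A - 1) (h : 1683 + 1152 * ((A - 1) / e) = 81 * A * m) :
    1683 + 1152 * ((A - 1) / e) = 2835 := by
  obtain ⟨k, hk⟩ := hdiv
  have he0 : 0 < e := Nat.pos_of_dvd_of_pos he (by norm_num)
  rw [hk, Nat.mul_div_cancel_left k he0] at h ⊢
  have hA : A = e * k + 1 := by omega
  subst hA
  have hm0 : 0 < m := by
    rcases Nat.eq_zero_or_pos m with rfl | hm
    · simp at h
    · exact hm
  have hex : 1683 + 1152 * k = 81 * e * m * k + 81 * m := by rw [h]; ring
  have hbig : 1152 < 81 * e * m := by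
    by_contra hle
    have h1 := Nat.mul_le_mul_right k (not_lt.1 hle)
    have h2 : 81 * m * 2 ≤ 81 * e * m := by
      have := Nat.mul_le_mul_left (81 * m) (Nat.le_of_dvd he0 he2)
      nlinarith
    omega
  have hle : 81 * m ≤ 1683 := by
    have := Nat.mul_le_mul_right k hbig.le
    omega
  have hkeq : (81 * e * m - 1152) * k = 1683 - 81 * m := by
    rw [Nat.sub_mul]; omega
  have hk' : (1683 - 81 * m) / (81 * e * m - 1152) = k := by
    rw [← hkeq, Nat.mul_div_cancel_left _ (by omega)]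
  have h1 := one_check e (mem_evens he he2) ⟨m, by omega⟩ hm0 hbig hle ⟨k, hkeq.symm⟩
  simp only [hk'] at h1
  rcases h1 with h1 | h1 | h1 | h1
  · exact h1
  · exact absurd h1 hA2
  · exact absurd h1 hA3
  · omega

/-- The conclusion of the check for two classes. -/
def twoOK (A K f m : ℕ) : Bool :=
  let B := f * ((K - 81 * A * m) / (81 * A * m * f - 1152)) + 1
  decide (B ≤ A) || decide (B % 2 = 0) || decide (B % 3 = 0)

/-- The hypothesis of the check for two classes. -/
def twoHyp (A K f m : ℕ) : Bool :=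
  decide (0 < m) && decide (1152 < 81 * A * m * f) && decide (81 * A * m ≤ K) &&
    decide ((K - 81 * A * m) % (81 * A * m * f - 1152) = 0)

/-- The check for two classes. -/
def twoAll : Bool :=
  [5, 7, 11, 13].all fun A => evens.all fun e => evens.all fun f => (List.range 22).all fun m =>
    !(decide ((A - 1) % e = 0)) || !(twoHyp A (1683 + 1152 * ((A - 1) / e)) f m) ||
      twoOK A (1683 + 1152 * ((A - 1) / e)) f m

theorem twoAll_eq : twoAll = true := by decide +kernel

/-- Two classes do not occur. -/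
theorem count_two {A B e f m : ℕ} (hAB : A < B) (hA5 : 5 ≤ A) (hA2 : ¬ 2 ∣ A) (hA3 : ¬ 3 ∣ A)
    (hB2 : ¬ 2 ∣ B) (hB3 : ¬ 3 ∣ B) (he : e ∣ 1152) (he2 : 2 ∣ e) (hf : f ∣ 1152) (hf2 : 2 ∣ f)
    (hde : e ∣ A - 1) (hdf : f ∣ B - 1)
    (h : 1683 + 1152 * ((A - 1) / e + (B - 1) / f) = 81 * (A * B) * m) : False := by
  have he0 : 0 < e := Nat.pos_of_dvd_of_pos he (by norm_num)
  have hf0 : 0 < f := Nat.pos_of_dvd_of_pos hf (by norm_num)
  have hm0 : 0 < m := by
    rcases Nat.eq_zero_or_pos m with rfl | hm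
    · simp at h
    · exact hm
  have hk2 : 2 * ((A - 1) / e) ≤ A - 1 :=
    (Nat.mul_le_mul_right _ (Nat.le_of_dvd he0 he2)).trans (Nat.mul_div_le _ _)
  have hl2 : 2 * ((B - 1) / f) ≤ B - 1 :=
    (Nat.mul_le_mul_right _ (Nat.le_of_dvd hf0 hf2)).trans (Nat.mul_div_le _ _)
  have hA14 : A < 15 := by
    by_contra hA
    have h1 : 81 * (A * B) ≤ 81 * (A * B) * m := Nat.le_mul_of_pos_right _ hm0
    have h2 : 15 * B ≤ A * B := Nat.mul_le_mul_right B (by omega)
    omega
  obtain ⟨l, hl⟩ := hdf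
  rw [hl, Nat.mul_div_cancel_left l hf0] at h
  have hB : B = f * l + 1 := by omega
  subst hB
  set K := 1683 + 1152 * ((A - 1) / e) with hK
  have hex : K + 1152 * l = 81 * A * m * f * l + 81 * A * m := by
    rw [hK, show 81 * A * m * f * l + 81 * A * m = 81 * (A * (f * l + 1)) * m by ring, ← h]; ring
  have hKlow : (A - 1) / e * 1152 + 1683 = K := by rw [hK]; ring
  have hbig : 1152 < 81 * A * m * f := by
    by_contra hle
    have h1 := Nat.mul_le_mul_right l (not_lt.1 hle)
    have h2 : 81 * A * m * 2 ≤ 81 * A * m * f := Nat.mul_le_mul_left _ (Nat.le_of_dvd hf0 hf2)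
    omega
  have hle : 81 * A * m ≤ K := by
    have := Nat.mul_le_mul_right l hbig.le
    omega
  have hm22 : m < 22 := by
    have h1 : 81 * 5 * m ≤ 81 * A * m := Nat.mul_le_mul_right m (by omega)
    omega
  have hleq : (81 * A * m * f - 1152) * l = K - 81 * A * m := by
    rw [Nat.sub_mul]; omega
  have hl' : (K - 81 * A * m) / (81 * A * m * f - 1152) = l := by
    rw [← hleq, Nat.mul_div_cancel_left _ (by omega)]
  have hA4 : A ∈ [5, 7, 11, 13] := by
    simp only [List.mem_cons, List.not_mem_nil, or_false]; omega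
  have h1 := twoAll_eq
  simp only [twoAll, List.all_eq_true] at h1
  have h1 := h1 A hA4 e (mem_evens he he2) f (mem_evens hf hf2) m (List.mem_range.2 hm22)
  simp only [Bool.or_eq_true, Bool.not_eq_true', decide_eq_false_iff_not, twoHyp, twoOK, Bool.and_eq_false_iff,
    decide_eq_true_eq, ← hK, hl'] at h1
  have hmod : (A - 1) % e = 0 := Nat.mod_eq_zero_of_dvd hde
  have hmod' : (K - 81 * A * m) % (81 * A * m * f - 1152) = 0 := Nat.mod_eq_zero_of_dvd ⟨l, hleq.symm⟩
  omega

variable {ι : Type*}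

/-- Three pairwise coprime classes make the product too large. -/
theorem count_three_le (s : Finset ι) (A : ι → ℕ) (hA : ∀ j ∈ s, 5 ≤ A j ∧ ¬ 2 ∣ A j ∧ ¬ 3 ∣ A j)
    (hcop : ∀ i ∈ s, ∀ j ∈ s, i ≠ j → (A i).Coprime (A j)) (hs : 3 ≤ s.card) :
    1683 + 576 * ∑ j ∈ s, A j < 81 * ∏ j ∈ s, A j ∧ 9 ≤ ∏ j ∈ s, A j := by
  classical
  induction s using Finset.strongInduction with
  | _ s ih =>
    rcases Nat.lt_or_ge 3 s.card with h4 | h3
    · obtain ⟨x, hx⟩ : s.Nonempty := Finset.card_pos.1 (by omega)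
      obtain ⟨h1, h2⟩ := ih (s.erase x) (Finset.erase_ssubset hx)
        (fun j hj => hA j (Finset.mem_of_mem_erase hj))
        (fun i hi j hj => hcop i (Finset.mem_of_mem_erase hi) j (Finset.mem_of_mem_erase hj))
        (by rw [Finset.card_erase_of_mem hx]; omega)
      rw [← Finset.add_sum_erase s A hx, ← Finset.mul_prod_erase s A hx]
      obtain ⟨h5, -, -⟩ := hA x hx
      refine ⟨?_, le_trans h2 (Nat.le_mul_of_pos_left _ (by omega))⟩
      nlinarith [Nat.mul_le_mul h5 h2]
    · obtain ⟨x, y, w, hxy, hxw, hyw, rfl⟩ := Finset.card_eq_three.1 (by omega : s.card = 3)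
      rw [Finset.sum_insert (by simp [hxy, hxw]), Finset.sum_insert (by simp [hyw]), Finset.sum_singleton,
        Finset.prod_insert (by simp [hxy, hxw]), Finset.prod_insert (by simp [hyw]), Finset.prod_singleton]
      have hne : ∀ {i j}, i ∈ ({x, y, w} : Finset ι) → j ∈ ({x, y, w} : Finset ι) → i ≠ j → A i ≠ A j := by
        intro i j hi hj hij he
        have h := hcop i hi j hj hij
        rw [he, Nat.coprime_self] at h
        have := (hA j hj).1
        omega
      have hx' := hA x (by simp)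
      have hy' := hA y (by simp)
      have hw' := hA w (by simp)
      have h1 := hne (i := x) (j := y) (by simp) (by simp) hxy
      have h2 := hne (i := x) (j := w) (by simp) (by simp) hxw
      have h3' := hne (i := y) (j := w) (by simp) (by simp) hyw
      have key : ∀ a b c : ℕ, 5 ≤ a → 7 ≤ b → 11 ≤ c →
          1683 + 576 * (a + (b + c)) < 81 * (a * (b * c)) ∧ 9 ≤ a * (b * c) := by
        intro a b c ha hb hc
        have hab : 35 ≤ a * b := Nat.mul_le_mul ha hb
        have hac : 55 ≤ a * c := Nat.mul_le_mul ha hc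
        have hbc : 77 ≤ b * c := Nat.mul_le_mul hb hc
        constructor <;> nlinarith [Nat.mul_le_mul_right c hab, Nat.mul_le_mul_right b hac,
          Nat.mul_le_mul_left a hbc]
      have h7 : ∀ t : ℕ, 5 ≤ t → ¬ 2 ∣ t → ¬ 3 ∣ t → t = 5 ∨ t = 7 ∨ 11 ≤ t := by
        intro t h5 h2 h3; omega
      rcases h7 _ hx'.1 hx'.2.1 hx'.2.2 with a | a | a <;> rcases h7 _ hy'.1 hy'.2.1 hy'.2.2 with b | b | b <;>
        rcases h7 _ hw'.1 hw'.2.1 hw'.2.2 with c | c | c
      all_goals first
        | omega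
        | exact key _ _ _ (by omega) (by omega) (by omega)
        | (have := key (A x) (A w) (A y) (by omega) (by omega) (by omega); constructor <;> nlinarith)
        | (have := key (A y) (A x) (A w) (by omega) (by omega) (by omega); constructor <;> nlinarith)
        | (have := key (A y) (A w) (A x) (by omega) (by omega) (by omega); constructor <;> nlinarith)
        | (have := key (A w) (A x) (A y) (by omega) (by omega) (by omega); constructor <;> nlinarith)
        | (have := key (A w) (A y) (A x) (by omega) (by omega) (by omega); constructor <;> nlinarith)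

/-- The number of involutions is 2835. -/
theorem count_end (s : Finset ι) (A e : ι → ℕ) (i : ℕ)
    (hA : ∀ j ∈ s, 5 ≤ A j ∧ ¬ 2 ∣ A j ∧ ¬ 3 ∣ A j)
    (he : ∀ j ∈ s, e j ∣ 1152 ∧ 2 ∣ e j ∧ e j ∣ A j - 1)
    (hcop : ∀ a ∈ s, ∀ b ∈ s, a ≠ b → (A a).Coprime (A b))
    (hi : i = 1683 + 1152 * ∑ j ∈ s, (A j - 1) / e j)
    (hdvd : 81 * ∏ j ∈ s, A j ∣ i) : i = 2835 := by
  classical
  obtain ⟨m, hm⟩ := hdvd
  rcases Nat.lt_or_ge s.card 3 with hs | hs
  · interval_cases hc : s.card
    · rw [Finset.card_eq_zero.1 hc] at hi hm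
      simp only [Finset.sum_empty, Finset.prod_empty] at hi hm
      omega
    · obtain ⟨x, rfl⟩ := Finset.card_eq_one.1 hc
      rw [Finset.sum_singleton] at hi
      rw [Finset.prod_singleton] at hm
      obtain ⟨h5, h2, h3⟩ := hA x (Finset.mem_singleton_self x)
      obtain ⟨hd1152, he2, hd⟩ := he x (Finset.mem_singleton_self x)
      rw [hi]
      exact count_one h5 h2 h3 hd1152 he2 hd (hi.symm.trans hm)
    · obtain ⟨x, y, hxy, rfl⟩ := Finset.card_eq_two.1 hc
      rw [Finset.sum_pair hxy] at hi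
      rw [Finset.prod_pair hxy] at hm
      obtain ⟨hx5, hx2, hx3⟩ := hA x (by simp)
      obtain ⟨hy5, hy2, hy3⟩ := hA y (by simp)
      obtain ⟨hex, hex2, hdx⟩ := he x (by simp)
      obtain ⟨hey, hey2, hdy⟩ := he y (by simp)
      exfalso
      rcases Nat.lt_trichotomy (A x) (A y) with hlt | heq | hlt
      · exact count_two hlt hx5 hx2 hx3 hy2 hy3 hex hex2 hey hey2 hdx hdy (hi.symm.trans hm)
      · have := hcop x (by simp) y (by simp) hxy
        rw [heq, Nat.coprime_self] at this
        omega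
      · exact count_two hlt hy5 hy2 hy3 hx2 hx3 hey hey2 hex hex2 hdy hdx (m := m) (by
          rw [add_comm ((A y - 1) / e y), mul_comm (A y)]; exact hi.symm.trans hm)
  · exfalso
    obtain ⟨hlt, h9⟩ := count_three_le s A hA hcop hs
    have hsum : 2 * ∑ j ∈ s, (A j - 1) / e j ≤ ∑ j ∈ s, A j := by
      rw [Finset.mul_sum]
      refine Finset.sum_le_sum fun j hj => ?_
      have h0 : 0 < e j := Nat.pos_of_dvd_of_pos (he j hj).1 (by norm_num)
      exact (Nat.mul_le_mul_right _ (Nat.le_of_dvd h0 (he j hj).2.1)).trans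
        ((Nat.mul_div_le _ _).trans (Nat.sub_le _ _))
    have hm0 : 0 < m := by
      rcases Nat.eq_zero_or_pos m with rfl | h0
      · simp at hm; omega
      · exact h0
    have := Nat.le_mul_of_pos_right (81 * ∏ j ∈ s, A j) hm0
    omega

end Cfsg.Agent.Lib.U43Graph14
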