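import Cfsg.Agent.Lib.U43Graph14.CentA
import Cfsg.Agent.Lib.U43Graph14.CountCodes
import Cfsg.Agent.Lib.U43Type85.Iface

/-!
# The involution count: local products of odd order
-/

set_option autoImplicit false
set_option linter.unusedSectionVars false

namespace Cfsg.Agent.Lib.U43Graph14

open Cfsg.Agent.Lib Cfsg.Agent.Lib.U43Type85 CountCodes

universe u

/-- The elements counted in the odd case. -/
def OddInv {G : Type u} [Group G] (z x : G) : Prop := Odd (orderOf x) ∧ Inverted z x ∧ x ≠ 1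

theorem oddInv_conj {G : Type u} [Group G] [Finite G] {z g : G} (hg : Commute g z) (x : G) :
    OddInv z (g * x * g⁻¹) ↔ OddInv z x := by
  have hzg : z * g = g * z := hg.eq.symm
  have e : z * (g * x * g⁻¹) * z⁻¹ = g * (z * x * z⁻¹) * g⁻¹ := by
    calc z * (g * x * g⁻¹) * z⁻¹ = (z * g) * x * (z * g)⁻¹ := by group
      _ = (g * z) * x * (g * z)⁻¹ := by rw [hzg]
      _ = g * (z * x * z⁻¹) * g⁻¹ := by group
  rw [OddInv, OddInv, Inverted, Inverted, orderOf_conj, e]
  constructor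
  · rintro ⟨h1, h2, h3⟩
    refine ⟨h1, ?_, fun h => h3 (by rw [h, mul_one, mul_inv_cancel])⟩
    calc z * x * z⁻¹ = g⁻¹ * (g * (z * x * z⁻¹) * g⁻¹) * g := by group
      _ = g⁻¹ * (g * x * g⁻¹)⁻¹ * g := by rw [h2]
      _ = x⁻¹ := by group
  · rintro ⟨h1, h2, h3⟩
    refine ⟨h1, by rw [h2]; group, fun h => h3 ?_⟩
    calc x = g⁻¹ * (g * x * g⁻¹) * g := by group
      _ = 1 := by rw [h]; group

theorem card_oddInv_conj {G : Type u} [Group G] [Finite G] {z g : G} (hg : Commute g z) (Q Q' : G → Prop)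
    (h : ∀ x, Q' (g * x * g⁻¹) ↔ Q x) :
    Nat.card {x // OddInv z x ∧ Q' x} = Nat.card {x // OddInv z x ∧ Q x} :=
  (Nat.card_congr ((MulAut.conj g).toEquiv.subtypeEquiv fun x =>
    ((oddInv_conj hg x).and (h x)).symm)).symm

theorem card_ne_one {G : Type u} [Group G] [Finite G] (Q : G → Prop) (h : Q 1) :
    Nat.card {x // Q x ∧ x ≠ 1} + 1 = Nat.card {x // Q x} := by
  classical
  haveI := Fintype.ofFinite G
  have h1 : Nat.card {x // Q x} = (Finset.univ.filter Q).card :=
    Nat.subtype_card _ (by intro x; simp)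
  have h2 : Nat.card {x // Q x ∧ x ≠ 1} = ((Finset.univ.filter Q).erase 1).card :=
    Nat.subtype_card _ (by intro x; simp [and_comm])
  rw [h1, h2, Finset.card_erase_add_one (by simp [h])]

variable {G : Type u} [Group G] [Finite G] {z : G} (S : Setup z)

include S

theorem commute_rep {k n h : ℕ} (hk : k < 1152) (hn : n < 1152) (hh : h < 1152)
    (e : cj k n = h ∨ cj k n = inv h) (y : G) :
    Commute (S.f k * y * (S.f k)⁻¹) (S.f h) ↔ Commute y (S.f n) := by
  rcases e with e | e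
  · rw [← e, S.f_cj hk hn, Commute.conj_iff]
  · rw [← Commute.inv_right_iff, ← S.f_inv hh, ← e, S.f_cj hk hn, Commute.conj_iff]

theorem reps_spec {h : ℕ} (hh : h ∈ reps) : h < 1152 ∧ orderOf (S.f h) = 3 ∧ Commute (S.f h) z ∧
    ∃ k < 1152, cj k 24 = h ∨ cj k 24 = inv h := by
  have h1 := List.all_eq_true.1 reps_conj h hh
  simp only [Bool.and_eq_true, Nat.blt_eq] at h1
  obtain ⟨⟨hlt, h3⟩, h4⟩ := h1
  obtain ⟨k, hk, e⟩ := any_range h4
  refine ⟨hlt, (S.isThree_iff hlt).1 h3, S.f_comm h, k, hk, ?_⟩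
  rcases Bool.or_eq_true _ _ ▸ e with e | e
  · exact Or.inl (Nat.eq_of_beq_eq_true e)
  · exact Or.inr (Nat.eq_of_beq_eq_true e)

variable {J : Subgroup G} (hJ : Facts S J)

include hJ

theorem local_rep {x : G} (hx : OddInv z x) :
    IsLocal z x ↔ ∃ h ∈ reps, Commute x (S.f h) := by
  constructor
  · intro hl
    obtain ⟨w, hw, hwz, hwx⟩ := hJ.local_three x hx.2.2 hx.1 hx.2.1 hl
    obtain ⟨n, hn, rfl⟩ := S.f_surj w hwz
    have h3 := List.all_eq_true.1 three_classes n (List.mem_range.2 hn)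
    rw [(S.isThree_iff hn).2 hw, Bool.not_true, Bool.false_or] at h3
    obtain ⟨x0, hx0, h4⟩ := List.any_eq_true.1 h3
    obtain ⟨k, hk, e⟩ := any_range h4
    have e := Nat.eq_of_beq_eq_true e
    set y := (S.f k)⁻¹ * x * S.f k with hy
    have hxy : S.f k * y * (S.f k)⁻¹ = x := by rw [hy]; group
    have hyP : OddInv z y := (oddInv_conj (S.f_comm k) y).1 (by rw [hxy]; exact hx)
    have hinv24 : inv 24 < 1152 := Setup.inv_lt (by norm_num)
    have hinv25 : inv 25 < 1152 := Setup.inv_lt (by norm_num)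
    have hinv30 : inv 30 < 1152 := Setup.inv_lt (by norm_num)
    have hx0lt : x0 < 1152 := by
      simp only [List.mem_cons, List.not_mem_nil, or_false] at hx0
      omega
    have hy0 : Commute y (S.f x0) := by
      rw [← commute_rep S hk hx0lt hn (Or.inl e) y, hxy]
      exact hwx.symm
    have hy24 : Commute y (S.f 24) := by
      have key : ∀ m, m = 25 ∨ m = 30 → Commute y (S.f m) → Commute y (S.f 24) := fun m hm hc =>
        hJ.comm_J y (hJ.inv_c m hm y hyP.1 hyP.2.1 hc) _ hJ.a_mem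
      have hi : ∀ m < 1152, Commute y (S.f (inv m)) → Commute y (S.f m) := fun m hm hc => by
        rw [S.f_inv hm] at hc
        exact Commute.inv_right_iff.1 hc
      simp only [List.mem_cons, List.not_mem_nil, or_false] at hx0
      rcases hx0 with rfl | rfl | rfl | rfl | rfl | rfl
      · exact hy0
      · exact hi 24 (by norm_num) hy0
      · exact key 25 (Or.inl rfl) hy0
      · exact key 25 (Or.inl rfl) (hi 25 (by norm_num) hy0)
      · exact key 30 (Or.inr rfl) hy0
      · exact key 30 (Or.inr rfl) (hi 30 (by norm_num) hy0)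
    obtain ⟨h, hh, e'⟩ := List.any_eq_true.1 (List.all_eq_true.1 conj_reps k (List.mem_range.2 hk))
    refine ⟨h, hh, ?_⟩
    rw [← hxy, commute_rep S hk (show 24 < 1152 by norm_num) (reps_spec S hh).1 ?_ y]
    · exact hy24
    · rcases Bool.or_eq_true _ _ ▸ e' with e' | e'
      · exact Or.inl (Nat.eq_of_beq_eq_true e')
      · exact Or.inr (Nat.eq_of_beq_eq_true e')
  · rintro ⟨h, hh, hc⟩
    obtain ⟨-, h3, hz, -⟩ := reps_spec S hh
    exact ⟨S.f h, fun e => by rw [e, orderOf_one] at h3; norm_num at h3, hz, hc.symm⟩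

theorem card_one_rep {h : ℕ} (hh : h ∈ reps) :
    Nat.card {x // OddInv z x ∧ Commute x (S.f h)} = 80 := by
  obtain ⟨hlt, -, -, k, hk, e⟩ := reps_spec S hh
  rw [card_oddInv_conj (S.f_comm k) (fun y => Commute y (S.f 24)) _
    (commute_rep S hk (by norm_num) hlt e)]
  have h1 := card_ne_one (fun x : G => Odd (orderOf x) ∧ Inverted z x ∧ Commute x (S.f 24))
    ⟨by rw [orderOf_one]; exact odd_one, by simp [Inverted], Commute.one_left _⟩
  rw [hJ.inv_a] at h1
  have h2 : Nat.card {x // OddInv z x ∧ Commute x (S.f 24)} =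
      Nat.card {x // (Odd (orderOf x) ∧ Inverted z x ∧ Commute x (S.f 24)) ∧ x ≠ 1} :=
    Nat.card_congr (Equiv.subtypeEquivRight fun x => by unfold OddInv; tauto)
  omega

theorem card_two_reps {h h' : ℕ} (hh : h ∈ reps) (hh' : h' ∈ reps) (hne : h ≠ h') :
    Nat.card {x // OddInv z x ∧ (Commute x (S.f h) ∧ Commute x (S.f h'))} =
      if cm2 h h' = true then 8 else 0 := by
  obtain ⟨hlt, h3, hz, -⟩ := reps_spec S hh
  obtain ⟨hlt', h3', hz', -⟩ := reps_spec S hh'
  split
  · rename_i hc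
    have h4 := List.all_eq_true.1 (List.all_eq_true.1 pair_conj h hh) h' hh'
    rw [hc, beq_false hne, Bool.not_true, Bool.false_or, Bool.false_or] at h4
    obtain ⟨k, hk, e⟩ := any_range h4
    simp only [Bool.and_eq_true, Bool.or_eq_true] at e
    have e1 : cj k 24 = h ∨ cj k 24 = inv h := e.1.imp Nat.eq_of_beq_eq_true Nat.eq_of_beq_eq_true
    have e2 : cj k 1 = h' ∨ cj k 1 = inv h' := e.2.imp Nat.eq_of_beq_eq_true Nat.eq_of_beq_eq_true
    rw [card_oddInv_conj (S.f_comm k) (fun y => Commute y (S.f 24) ∧ Commute y (S.f 1)) _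
      fun y => (commute_rep S hk (by norm_num) hlt e1 y).and
        (commute_rep S hk (by norm_num) hlt' e2 y)]
    have h1 := card_ne_one (fun x : G => x ∈ J ∧ Inverted z x) ⟨J.one_mem, by simp [Inverted]⟩
    rw [hJ.inv_J] at h1
    have h2 : Nat.card {x // OddInv z x ∧ (Commute x (S.f 24) ∧ Commute x (S.f 1))} =
        Nat.card {x // (x ∈ J ∧ Inverted z x) ∧ x ≠ 1} := by
      refine Nat.card_congr (Equiv.subtypeEquivRight fun x => ⟨?_, ?_⟩)
      · rintro ⟨⟨ho, hi, hx⟩, ha, hb⟩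
        exact ⟨⟨hJ.comm_E x ho hi ha hb, hi⟩, hx⟩
      · rintro ⟨⟨hxJ, hi⟩, hx⟩
        exact ⟨⟨Odd.of_dvd_nat (by decide) (orderOf_dvd_of_pow_eq_one (hJ.exp_J x hxJ)), hi, hx⟩,
          hJ.comm_J x hxJ _ hJ.a_mem, hJ.comm_J x hxJ _ hJ.b_mem⟩
    omega
  · rename_i hc
    rw [Nat.card_eq_zero]
    refine Or.inl ⟨fun ⟨x, ⟨ho, hi, hx⟩, ha, hb⟩ => hc ((S.cm2_iff hlt hlt').2 ?_)⟩
    exact hJ.abelian x hx ho hi _ _ h3 h3' hz hz' ha.symm hb.symm

/-- The local inverted elements of odd order. -/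
theorem setup_card_local :
    Nat.card {x : G // OddInv z x ∧ IsLocal z x} = 512 := by
  classical
  haveI := Fintype.ofFinite G
  set s : Finset G := Finset.univ.filter fun x => OddInv z x ∧ IsLocal z x with hs
  set R : Finset ℕ := reps.toFinset with hR
  set N : G → Finset ℕ := fun x => R.filter fun h => Commute x (S.f h) with hN
  have hmemR : ∀ {h}, h ∈ R ↔ h ∈ reps := fun {h} => List.mem_toFinset
  have hbounds : ∀ x ∈ s, 1 ≤ (N x).card ∧ (N x).card ≤ 2 := by
    intro x hx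
    obtain ⟨hP, hl⟩ := (Finset.mem_filter.1 hx).2
    obtain ⟨h, hh, hc⟩ := (local_rep S hJ hP).1 hl
    refine ⟨Finset.card_pos.2 ⟨h, Finset.mem_filter.2 ⟨hmemR.2 hh, hc⟩⟩, ?_⟩
    by_contra hgt
    obtain ⟨a, b, c, ha, hb, hc, hab, hac, hbc⟩ := Finset.two_lt_card_iff.1 (not_le.1 hgt)
    simp only [hN, Finset.mem_filter, hmemR] at ha hb hc
    have key : ∀ {p q}, p ∈ reps → q ∈ reps → Commute x (S.f p) → Commute x (S.f q) → cm2 p q = true := by
      intro p q hp hq hxp hxq
      obtain ⟨hplt, hp3, hpz, -⟩ := reps_spec S hp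
      obtain ⟨hqlt, hq3, hqz, -⟩ := reps_spec S hq
      exact (S.cm2_iff hplt hqlt).2
        (hJ.abelian x hP.2.2 hP.1 hP.2.1 _ _ hp3 hq3 hpz hqz hxp.symm hxq.symm)
    exact no_triple a ha.1 b hb.1 c hc.1 hab hac hbc
      ⟨key ha.1 hb.1 ha.2 hb.2, key ha.1 hc.1 ha.2 hc.2, key hb.1 hc.1 hb.2 hc.2⟩
  have hsum1 : ∑ x ∈ s, (N x).card = 640 := by
    have h1 : ∑ x ∈ s, (N x).card = ∑ h ∈ R, (s.filter fun x => Commute x (S.f h)).card := by
      simp only [hN, Finset.card_filter]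
      exact Finset.sum_comm
    have h2 : ∀ h ∈ R, (s.filter fun x => Commute x (S.f h)).card = 80 := by
      intro h hh
      rw [← card_one_rep S hJ (hmemR.1 hh)]
      refine (Nat.subtype_card _ fun x => ?_).symm
      simp only [hs, Finset.mem_filter, Finset.mem_univ, true_and]
      exact ⟨fun h' => ⟨h'.1.1, h'.2⟩,
        fun h' => ⟨⟨h'.1, (local_rep S hJ h'.1).2 ⟨h, hmemR.1 hh, h'.2⟩⟩, h'.2⟩⟩
    rw [h1, Finset.sum_const_nat h2, List.toFinset_card_of_nodup reps_nodup.1]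
    rfl
  have hsum2 : ∑ x ∈ s, (N x).offDiag.card = 256 := by
    have h1 : ∀ x, (N x).offDiag =
        R.offDiag.filter fun p => Commute x (S.f p.1) ∧ Commute x (S.f p.2) := by
      intro x; ext p
      simp only [hN, Finset.mem_offDiag, Finset.mem_filter]; tauto
    have h2 : ∀ p ∈ R.offDiag, (s.filter fun x => Commute x (S.f p.1) ∧ Commute x (S.f p.2)).card =
        if cm2 p.1 p.2 = true then 8 else 0 := by
      intro p hp
      obtain ⟨hp1, hp2, hne⟩ := Finset.mem_offDiag.1 hp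
      rw [← card_two_reps S hJ (hmemR.1 hp1) (hmemR.1 hp2) hne]
      refine (Nat.subtype_card _ fun x => ?_).symm
      simp only [hs, Finset.mem_filter, Finset.mem_univ, true_and]
      exact ⟨fun h' => ⟨h'.1.1, h'.2⟩,
        fun h' => ⟨⟨h'.1, (local_rep S hJ h'.1).2 ⟨p.1, hmemR.1 hp1, h'.2.1⟩⟩, h'.2⟩⟩
    have h3 : R.offDiag.filter (fun p => cm2 p.1 p.2 = true) =
        (R ×ˢ R).filter fun p => p.1 ≠ p.2 ∧ cm2 p.1 p.2 = true := by
      ext p
      simp only [Finset.mem_offDiag, Finset.mem_filter, Finset.mem_product]; tauto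
    calc ∑ x ∈ s, (N x).offDiag.card
        = ∑ x ∈ s, ∑ p ∈ R.offDiag, if Commute x (S.f p.1) ∧ Commute x (S.f p.2) then 1 else 0 := by
          simp only [h1, Finset.card_filter]
      _ = ∑ p ∈ R.offDiag, (s.filter fun x => Commute x (S.f p.1) ∧ Commute x (S.f p.2)).card := by
          simp only [Finset.card_filter]
          exact Finset.sum_comm
      _ = ∑ p ∈ R.offDiag, if cm2 p.1 p.2 = true then 8 else 0 := Finset.sum_congr rfl h2
      _ = 256 := by
          rw [← Finset.sum_filter, h3, Finset.sum_const, hR, pair_count]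
          rfl
  have hrel : ∑ x ∈ s, (N x).offDiag.card + 2 * s.card = 2 * ∑ x ∈ s, (N x).card := by
    rw [Finset.card_eq_sum_ones s, Finset.mul_sum, Finset.mul_sum, ← Finset.sum_add_distrib]
    refine Finset.sum_congr rfl fun x hx => ?_
    obtain ⟨h1, h2⟩ := hbounds x hx
    rw [Finset.offDiag_card]
    interval_cases (N x).card <;> norm_num
  rw [Nat.subtype_card s (by simp [hs])]
  omega

end Cfsg.Agent.Lib.U43Graph14
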