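import Cfsg.Agent.Lib.U43Graph14.Data
import Cfsg.Agent.Lib.U43Mult.Main
import Cfsg.Agent.Lib.LatticeUnitary.Transport
import Cfsg.Agent.S0283

/-!
# The automorphism group of the graph on 112 points

It has order at most eight times the order of the four-dimensional projective special unitary group over nine
elements, and contains a copy of it. Hence a simple group of that order acting on the graph is isomorphic to it.
-/

set_option autoImplicit false
set_option maxRecDepth 20000

namespace Cfsg.Agent.Lib.U43Graph14

open Cfsg.Agent.Lib.Computation (getW)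
open Cfsg.Agent.Lib.LatticeUnitary.U4 (atomPerm)

/-- Adjacency on the labels. -/
def adjN (x y : ℕ) : Bool := (rowsC >>> (112 * x + y)) % 2 == 1

/-- The automorphisms of the graph. -/
def Aut : Subgroup (Equiv.Perm (Fin 112)) where
  carrier := {σ | ∀ x y : Fin 112, adjN (σ x) (σ y) = adjN x y}
  one_mem' _ _ := rfl
  mul_mem' {a b} ha hb x y := (ha (b x) (b y)).trans (hb x y)
  inv_mem' {a} ha x y := by rw [← ha (a⁻¹ x) (a⁻¹ y)]; simp

theorem mem_Aut {σ : Equiv.Perm (Fin 112)} :
    σ ∈ Aut ↔ ∀ x y : Fin 112, adjN (σ x) (σ y) = adjN x y := Iff.rfl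

/-- The automorphisms fixing every member of a list. -/
def fixL (l : List (Fin 112)) : Subgroup (Equiv.Perm (Fin 112)) where
  carrier := {σ | σ ∈ Aut ∧ ∀ d ∈ l, σ d = d}
  one_mem' := ⟨one_mem _, fun _ _ => rfl⟩
  mul_mem' {a b} ha hb := ⟨mul_mem ha.1 hb.1, fun d hd => by
    rw [Equiv.Perm.mul_apply, hb.2 d hd, ha.2 d hd]⟩
  inv_mem' {a} ha := ⟨inv_mem ha.1, fun d hd => Equiv.Perm.inv_eq_iff_eq.2 (ha.2 d hd).symm⟩

/-- The number of points related to the list as `x` is. -/
def cnt (l : List (Fin 112)) (x : Fin 112) : ℕ :=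
  ((List.finRange 112).filter fun c => !l.contains c && l.all fun d => adjN c d == adjN x d).length

theorem card_fixL_le (l : List (Fin 112)) (x : Fin 112) (hx : x ∉ l) :
    Nat.card (fixL l) ≤ cnt l x * Nat.card (fixL (x :: l)) := by
  classical
  set C := (List.finRange 112).filter fun c => !l.contains c && l.all fun d => adjN c d == adjN x d
  have hC : cnt l x = C.length := rfl
  let K : Subgroup (fixL l) := (fixL (x :: l)).subgroupOf (fixL l)
  have hK : Nat.card K = Nat.card (fixL (x :: l)) :=
    Nat.card_congr (Subgroup.subgroupOfEquivOfLe (fun σ hσ =>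
      ⟨hσ.1, fun d hd => hσ.2 d (List.mem_cons_of_mem _ hd)⟩ : fixL (x :: l) ≤ fixL l)).toEquiv
  have hmem : ∀ σ : fixL l, σ.1 x ∈ C := by
    intro σ
    refine List.mem_filter.2 ⟨List.mem_finRange _, ?_⟩
    simp only [Bool.and_eq_true, Bool.not_eq_true', List.all_eq_true, beq_iff_eq]
    refine ⟨?_, fun d hd => ?_⟩
    · simp only [List.contains_eq_mem, decide_eq_false_iff_not]
      intro h
      exact hx (σ.1.injective (σ.2.2 _ h) ▸ h)
    · have := σ.2.1 x d
      rwa [σ.2.2 d hd] at this
  have hidx : K.index ≤ C.length := by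
    let f : fixL l ⧸ K → C.toFinset := Quotient.lift (fun σ => ⟨σ.1 x, List.mem_toFinset.2 (hmem σ)⟩)
      (by
        intro a b hab
        have h := (QuotientGroup.leftRel_apply.1 hab).2 x (List.mem_cons_self ..)
        refine Subtype.ext ?_
        show a.1 x = b.1 x
        have h' : (a.1)⁻¹ (b.1 x) = x := h
        exact (Equiv.Perm.inv_eq_iff_eq.1 h').symm)
    have hf : Function.Injective f := by
      intro a b
      induction a using QuotientGroup.induction_on with
      | H a => induction b using QuotientGroup.induction_on with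
        | H b =>
          intro h
          refine QuotientGroup.eq.2 ⟨(a⁻¹ * b).2.1, ?_⟩
          intro d hd
          rcases List.mem_cons.1 hd with rfl | hd
          · have : a.1 d = b.1 d := congrArg Subtype.val h
            simp [this.symm]
          · exact (a⁻¹ * b).2.2 d hd
    calc K.index = Nat.card (fixL l ⧸ K) := rfl
      _ ≤ Nat.card C.toFinset := Nat.card_le_card_of_injective f hf
      _ = C.toFinset.card := by rw [Nat.card_eq_fintype_card, Fintype.card_coe]
      _ ≤ C.length := List.toFinset_card_le _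
  rw [← K.card_mul_index, hK, hC, mul_comm]
  exact Nat.mul_le_mul_right _ hidx

/-- The bound given by an ordering. -/
def bound : List (Fin 112) → List (Fin 112) → ℕ
  | _, [] => 1
  | l, x :: r => cnt l x * bound (x :: l) r

theorem card_fixL_le_bound : ∀ (r l : List (Fin 112)), (l ++ r).Nodup → (∀ c, c ∈ l ++ r) →
    Nat.card (fixL l) ≤ bound l r := by
  intro r
  induction r with
  | nil =>
    intro l _ hall
    have : fixL l = ⊥ := (Subgroup.eq_bot_iff_forall _).2 fun σ hσ =>
      Equiv.ext fun c => hσ.2 c (by simpa using hall c)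
    rw [this, Subgroup.card_bot]
    rfl
  | cons x r ih =>
    intro l hn hall
    have hx : x ∉ l := by
      intro h
      exact (List.nodup_append.1 hn).2.2 x h x (List.mem_cons_self ..) rfl
    have hp : (x :: l ++ r).Perm (l ++ x :: r) := List.perm_middle.symm
    refine (card_fixL_le l x hx).trans (Nat.mul_le_mul_left _ (ih _ (hp.nodup_iff.2 hn) fun c => ?_))
    exact hp.mem_iff.2 (hall c)

theorem bound_eq : bound [] order = 26127360 := by decide +kernel

theorem card_Aut_le : Nat.card Aut ≤ 26127360 := by
  have h : fixL [] = Aut := le_antisymm (fun σ hσ => hσ.1) fun σ hσ => ⟨hσ, by simp⟩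
  have hn : order.Nodup := by decide +kernel
  have hall : ∀ c : Fin 112, c ∈ order := by decide +kernel
  rw [← h, ← bound_eq]
  exact card_fixL_le_bound order [] (by simpa using hn) (by simpa using hall)

/-- The label of a line. -/
def lineLabel (j : Fin 112) : Fin 112 := ⟨getW 7 ofLine j % 112, Nat.mod_lt _ (by norm_num)⟩

/-- The line of a label. -/
def labelLine (x : Fin 112) : Fin 112 := ⟨getW 7 toLine x % 112, Nat.mod_lt _ (by norm_num)⟩

/-- The labels as an equivalence. -/
def relabel : Fin 112 ≃ Fin 112 where
  toFun := lineLabel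
  invFun := labelLine
  left_inv := by decide +kernel
  right_inv := by decide +kernel

theorem gens_adj : ∀ g : Fin 2, ∀ x y : Fin 112,
    adjN (getW 7 ofLine (atomPerm g (labelLine x))) (getW 7 ofLine (atomPerm g (labelLine y))) = adjN x y := by
  decide +kernel

/-- The action of the cover on the labels. -/
noncomputable def labelRho : U43Mult.K →* Equiv.Perm (Fin 112) :=
  (relabel.permCongrHom.toMonoidHom).comp U43Mult.rho

theorem labelRho_le : labelRho.range ≤ Aut := by
  rw [MonoidHom.range_eq_map]
  have hgen : Subgroup.closure (Set.range fun g : Fin 2 =>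
      (⟨U43Mult.pairGen g, U43Mult.pairGen_mem g⟩ : U43Mult.K)) = ⊤ := by
    rw [← Subgroup.map_injective (U43Mult.K).subtype_injective |>.eq_iff, MonoidHom.map_closure,
      ← MonoidHom.range_eq_map, Subgroup.range_subtype, ← Set.range_comp]
    rfl
  rw [← hgen, MonoidHom.map_closure, Subgroup.closure_le]
  rintro _ ⟨_, ⟨g, rfl⟩, rfl⟩ x y
  have e : ∀ z : Fin 112, ((labelRho ⟨U43Mult.pairGen g, U43Mult.pairGen_mem g⟩ z : Fin 112) : ℕ) =
      getW 7 ofLine (atomPerm g (labelLine z)) := by
    have hlt : ∀ j : Fin 112, getW 7 ofLine j < 112 := by decide +kernel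
    intro z
    show ((lineLabel (U43Mult.rho ⟨U43Mult.pairGen g, U43Mult.pairGen_mem g⟩ (labelLine z)) : Fin 112) : ℕ) = _
    rw [lineLabel, Fin.val_mk, Nat.mod_eq_of_lt (hlt _), U43Mult.rho_gen]
  show adjN _ _ = _
  rw [e, e]
  exact gens_adj g x y

theorem card_labelRho : 3265920 ≤ Nat.card labelRho.range := by
  rw [labelRho, MonoidHom.range_comp, Subgroup.card_map_of_injective relabel.permCongrHom.injective]
  exact U43Mult.card_rho

/-- A simple group of the order of `PSU(4,3)` acting faithfully on the graph is `PSU(4,3)`. -/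
theorem nonempty_mulEquiv {G : Type*} [Group G] [Finite G] [IsSimpleGroup G]
    (hcard : Nat.card G = 3265920) (f : G →* Equiv.Perm (Fin 112)) (hf : Function.Injective f)
    (hA : ∀ (g : G) (x y : Fin 112), adjN (f g x) (f g y) = adjN x y)
    (K : Type) [Field K] [Fintype K] (hK : Fintype.card K = 9) :
    Nonempty (G ≃* Cfsg.PSU 4 K 3) := by
  classical
  have := U43Mult.finite_psu
  set A := f.range with hAdef
  set B := labelRho.range
  have hAle : A ≤ Aut := by rintro _ ⟨g, rfl⟩; exact hA g
  have hcardA : Nat.card A = 3265920 := by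
    rw [← hcard]; exact (Nat.card_congr (MonoidHom.ofInjective hf).toEquiv).symm
  -- the range of the cover is the unitary group
  have hker : labelRho.ker = U43Mult.sigma.ker := by
    have hk : U43Mult.sigma.ker ≤ labelRho.ker := fun x hx => by
      show relabel.permCongrHom (U43Mult.rho x) = 1
      rw [U43Mult.ker_sigma_le_rho hx, map_one]
    refine (Subgroup.eq_of_le_of_card_ge hk ?_).symm
    have h1 := U43Mult.sigma.ker.card_mul_index
    have h2 := labelRho.ker.card_mul_index
    rw [Subgroup.index_ker, MonoidHom.range_eq_top.2 U43Mult.sigma_surjective, Subgroup.card_top,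
      U43Mult.card_psu] at h1
    rw [Subgroup.index_ker] at h2
    have h3 : Nat.card labelRho.ker * 3265920 ≤ Nat.card U43Mult.sigma.ker * 3265920 :=
      (Nat.mul_le_mul_left _ card_labelRho).trans (h2.trans h1.symm).le
    exact Nat.le_of_mul_le_mul_right h3 (by norm_num)
  obtain ⟨eB⟩ : Nonempty (B ≃* Cfsg.PSU 4 U33.K9 3) :=
    ⟨((QuotientGroup.quotientKerEquivRange labelRho).symm.trans
      (QuotientGroup.quotientMulEquivOfEq hker)).trans
      (QuotientGroup.quotientKerEquivOfSurjective _ U43Mult.sigma_surjective)⟩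
  have hcardB : Nat.card B = 3265920 := (Nat.card_congr eB.toEquiv).trans U43Mult.card_psu
  -- small index
  have hidx : B.relIndex A ≤ 8 := by
    have h1 : Nat.card (A ⊓ B : Subgroup _) * B.relIndex A = 3265920 := by
      rw [← hcardA, ← Subgroup.card_mul_index (B.subgroupOf A),
        ← Nat.card_congr (Subgroup.subgroupOfEquivOfLe (inf_le_left : A ⊓ B ≤ A)).toEquiv,
        Subgroup.inf_subgroupOf_left]
      rfl
    have h2 : B.relIndex A ≤ B.relIndex Aut :=
      Subgroup.relIndex_le_of_le_right hAle fun h0 =>
        Subgroup.index_ne_zero_of_finite (H := B.subgroupOf Aut) h0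
    have h3 : Nat.card B * B.relIndex Aut = Nat.card Aut := by
      rw [Subgroup.relIndex, ← Nat.card_congr (Subgroup.subgroupOfEquivOfLe labelRho_le).toEquiv,
        Subgroup.card_mul_index]
    have := card_Aut_le
    rw [hcardB] at h3
    omega
  have hAB : A ≤ B := by
    have : IsSimpleGroup A := (MonoidHom.ofInjective hf).symm.isSimpleGroup
    set H := B.subgroupOf A
    rcases H.normalCore_normal.eq_bot_or_eq_top with h | h
    · have hle : H.normalCore.index ≤ H.index.factorial := by
        rw [Subgroup.normalCore_eq_ker, Subgroup.index_ker]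
        refine (Subgroup.card_le_card_group _).trans (le_of_eq ?_)
        rw [Nat.card_perm, Subgroup.index]
      have hi : H.index.factorial ≤ Nat.factorial 8 := Nat.factorial_le hidx
      rw [h, Subgroup.index_bot, hcardA] at hle
      rw [show Nat.factorial 8 = 40320 from rfl] at hi
      exact absurd (hle.trans hi) (by norm_num)
    · exact Subgroup.subgroupOf_eq_top.1 (top_unique (h ▸ H.normalCore_le))
  have hEq : A = B := Subgroup.eq_of_le_of_card_ge hAB (by rw [hcardA, hcardB])
  let e1 : G ≃* Cfsg.PSU 4 U33.K9 3 :=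
    ((MonoidHom.ofInjective hf).trans (MulEquiv.subgroupCongr hEq)).trans eB
  let φ : U33.K9 ≃+* K := FiniteField.ringEquivOfCardEq ((U43Mult.card_K9.trans (by norm_num : 3 ^ 2 = 9)).trans hK.symm)
  obtain ⟨e2⟩ := LatticeUnitary.exists_psu_congr φ 4 3
  exact ⟨e1.trans e2⟩

end Cfsg.Agent.Lib.U43Graph14
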