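import Cfsg.Agent.Lib.U43Graph14.Coord
import Cfsg.Agent.Lib.U43Graph14.Graph

/-!
# The labels as base point, thirty neighbours and eighty-one vectors
-/

set_option autoImplicit false
set_option maxRecDepth 20000

namespace Cfsg.Agent.Lib.U43Graph14

/-- The base point, the neighbours of the base point, the other points. -/
abbrev Lab : Type := Unit ⊕ (Fin 10 × ZMod 3) ⊕ V

/-- Adjacency on the structured labels. -/
def adjL : Lab → Lab → Bool
  | .inl _, .inl _ => false
  | .inl _, .inr (.inl _) => true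
  | .inl _, .inr (.inr _) => false
  | .inr (.inl _), .inl _ => true
  | .inr (.inr _), .inl _ => false
  | .inr (.inl (k, j)), .inr (.inl (k', j')) => decide (k = k' ∧ j ≠ j')
  | .inr (.inl (k, j)), .inr (.inr w) => decide (bv (pts k) w = j)
  | .inr (.inr w), .inr (.inl (k, j)) => decide (bv (pts k) w = j)
  | .inr (.inr v), .inr (.inr w) => decide (w - v ≠ 0 ∧ qv (w - v) = 0)

/-- Reading a label. -/
def dec (x : Fin 112) : Lab :=
  if x.val = 0 then .inl () else
  if x.val ≤ 30 then
    .inr (.inl (⟨(x.val - 1) / 3 % 10, Nat.mod_lt _ (by norm_num)⟩, (((x.val - 1) % 3 : ℕ) : ZMod 3)))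
  else
    .inr (.inr ![(((x.val - 31) / 27 : ℕ) : ZMod 3), (((x.val - 31) / 9 % 3 : ℕ) : ZMod 3),
      (((x.val - 31) / 3 % 3 : ℕ) : ZMod 3), (((x.val - 31) % 3 : ℕ) : ZMod 3)])

theorem adjN_dec : ∀ x y : Fin 112, adjN x y = adjL (dec x) (dec y) := by decide +kernel

/-- Distinct labels have distinct neighbourhoods. -/
theorem twin_free : ∀ x y : Fin 112, (∀ c : Fin 112, adjN x c = adjN y c) → x = y := by decide +kernel

end Cfsg.Agent.Lib.U43Graph14
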