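import Cfsg.Agent.Lib.U43Graph14.Lines
import Cfsg.Agent.Lib.U43Graph14.Labels

/-!
# A simple group with the local data is the unitary group
-/

set_option autoImplicit false
set_option linter.unusedSectionVars false

namespace Cfsg.Agent.Lib.U43Graph14

variable {G : Type*} [Group G] [Finite G] {R : Subgroup G} {e : ↥R ≃* Multiplicative V}

/-- The point of a structured label. -/
def pointOf (e : ↥R ≃* Multiplicative V) (p0 : Pt R) (N : Fin 10 → Pt R) : Lab → Pt R
  | .inl _ => base R
  | .inr (.inl (k, j)) => co e (j • dual k) • N k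
  | .inr (.inr v) => co e v • p0

namespace Geo

variable (h : Geo R e)
include h

theorem exists_points : ∃ Φ : Fin 112 ≃ Pt R, ∀ x y, Adj (Φ x) (Φ y) ↔ adjN x y = true := by
  classical
  obtain ⟨p0, hne, hna, hreg⟩ := h.exists_regular
  obtain ⟨M, φ, hφ, hML, hMadj, hMfix⟩ := h.exists_lines hne hna hreg
  let ψ : Fin 10 → Fin 10 := Function.invFun φ
  have hψ : ∀ k, φ (ψ k) = k := Function.rightInverse_invFun (Finite.injective_iff_surjective.1 hφ)
  let P := pointOf e p0 (fun k => M (ψ k))
  have hline : ∀ k j, Line e (ψ k) (P (.inr (.inl (k, j)))) := fun k j => (hML _).smul_co _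
  have hnf : ∀ k j w, Adj (P (.inr (.inl (k, j)))) (co e w • p0) ↔ bv (pts k) w = j := by
    intro k j w
    have e1 := h.farOf_smul hne hna hreg (M (ψ k)) (j • dual k) w
    refine e1.trans ((hMadj (ψ k) _).trans ?_)
    rw [hψ, bv_sub_right, bv_smul_right, bv_dual, mul_one, sub_eq_zero]
  have hP : ∀ a b, Adj (P a) (P b) ↔ adjL a b = true := by
    intro a b
    rcases a with a | ⟨k, j⟩ | v <;> rcases b with b | ⟨k', j'⟩ | w
    · simp only [adjL, Bool.false_eq_true, iff_false]
      exact h.not_adj_self _
    · simp only [adjL, iff_true]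
      exact h.adj_base_iff.2 ⟨_, hline k' j'⟩
    · simp only [adjL, Bool.false_eq_true, iff_false]
      exact (h.far_co hne hna hreg w).2
    · simp only [adjL, iff_true]
      exact (h.adj_base_iff.2 ⟨_, hline k j⟩).symm
    · simp only [adjL, decide_eq_true_eq]
      constructor
      · intro ha
        have h1 := h.line_unique (h.line_of_adj (hline k j) (h.adj_base_iff.2 ⟨_, hline k' j'⟩) ha)
          (hline k' j')
        obtain rfl : k = k' := by rw [← hψ k, ← hψ k', h1]
        exact ⟨rfl, fun e' => h.not_adj_self _ (e' ▸ ha)⟩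
      · rintro ⟨rfl, hj⟩
        refine h.adj_of_line (hline k j) (hline k j') fun e' => hj ?_
        have e2 : co e ((j - j') • dual k) • M (ψ k) = M (ψ k) := by
          rw [sub_smul, sub_eq_neg_add, co_add_smul, co_neg, inv_smul_eq_iff]
          exact e'
        have e3 := (hMfix (ψ k) _).1 e2
        rw [hψ, bv_smul_right, bv_dual, mul_one, sub_eq_zero] at e3
        exact e3
    · simp only [adjL, decide_eq_true_eq]
      exact hnf k j w
    · simp only [adjL, Bool.false_eq_true, iff_false]
      exact fun ha => (h.far_co hne hna hreg v).2 ha.symm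
    · simp only [adjL, decide_eq_true_eq]
      exact ⟨fun ha => (hnf k' j' v).1 ha.symm, fun e' => ((hnf k' j' v).2 e').symm⟩
    · simp only [adjL, decide_eq_true_eq]
      show Adj (co e v • p0) (co e w • p0) ↔ _
      conv_lhs => rw [show w = v + (w - v) by abel, co_add_smul, adj_smul]
      exact h.adj_p0_iff hne hna hreg
  have hQ : ∀ x y, Adj (P (dec x)) (P (dec y)) ↔ adjN x y = true := fun x y => by
    rw [hP, adjN_dec]
  have hinj : Function.Injective fun x => P (dec x) := fun x y hxy => twin_free x y fun c => by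
    rw [Bool.eq_iff_iff, ← hQ, ← hQ, show P (dec x) = P (dec y) from hxy]
  have : Fintype (Pt R) := Fintype.ofFinite _
  have hbij : Function.Bijective fun x => P (dec x) :=
    (Fintype.bijective_iff_injective_and_card _).2
      ⟨hinj, by rw [Fintype.card_fin, ← Nat.card_eq_fintype_card, h.card_Pt]⟩
  exact ⟨Equiv.ofBijective _ hbij, hQ⟩

/-- A simple group with the local data is the unitary group. -/
theorem nonempty_psu [IsSimpleGroup G] (K : Type) [Field K] [Fintype K] (hK : Fintype.card K = 9) :
    Nonempty (G ≃* Cfsg.PSU 4 K 3) := by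
  obtain ⟨Φ, hΦ⟩ := h.exists_points
  let f : G →* Equiv.Perm (Fin 112) :=
    Φ.symm.permCongrHom.toMonoidHom.comp (MulAction.toPermHom G (Pt R))
  have hfx : ∀ g x, Φ (f g x) = g • Φ x := fun g x => by simp [f]
  refine nonempty_mulEquiv h.card_G f ?_ (fun g x y => ?_) K hK
  · rw [← MonoidHom.ker_eq_bot_iff]
    refine (IsSimpleGroup.eq_bot_or_eq_top_of_normal f.ker inferInstance).resolve_right fun htop => ?_
    have hN : Subgroup.normalizer (R : Set G) = ⊤ := top_unique fun g _ => by
      refine smul_base_eq.1 ?_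
      have := hfx g (Φ.symm (base R))
      rw [MonoidHom.mem_ker.1 (htop ▸ Subgroup.mem_top g), Equiv.Perm.one_apply, Equiv.apply_symm_apply] at this
      exact this.symm
    have := h.index_N
    rw [hN, Subgroup.index_top] at this
    norm_num at this
  · rw [Bool.eq_iff_iff, ← hΦ, ← hΦ, hfx, hfx, adj_smul]

end Geo

end Cfsg.Agent.Lib.U43Graph14
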