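import Cfsg.Agent.Lib.U43Graph14.Orbits

/-!
# The two elements with centraliser of order 972 are not conjugate

If they were, the normaliser would have one orbit on both; then the elements conjugate to `a` or `a⁻¹` form a
union of blocks on which the number of sums is constant, and no such union fits the orbit equation.
-/

set_option autoImplicit false
set_option maxRecDepth 20000

namespace Cfsg.Agent.Lib.U43Graph14

open Blocks

theorem invariant_union : ∀ b : Fin 8 → Bool, b 0 = false → b 1 = false → b 2 = true →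
    (∀ i, b i = true → num (union b) (rep i) = num (union b) (rep 2)) →
      (union b).card = 12 ∨ (union b).card = 20 ∨ (union b).card = 52 ∨
        ((union b).card = 24 ∧ b 3 = true) ∨
        ((union b).card = 56 ∧ b 3 = true ∧ b 4 = true ∧ b 5 = true) := by
  decide +kernel

theorem orbit_union : ∀ b : Fin 8 → Bool, b 0 = true → b 1 = true → b 2 = false →
    4 ∣ (union b).card ∧ 8 ≤ (union b).card ∧ (b 3 = false → 8 ∣ (union b).card) ∧
      (b 3 = false → b 4 = false → b 5 = false → (union b).card ≤ 24) := by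
  decide +kernel

theorem rot_flip_neg : ∀ v : V, rot (-v) = -rot v ∧ flip (-v) = -flip v := by decide +kernel

theorem num_le {A : Finset V} {u p : V} (T : V → V) (hinj : Function.Injective T)
    (hT : ∀ v ∈ A, T v ∈ A) (hadd : ∀ q, T (u + q) = p + T q) : num A u ≤ num A p := by
  refine Finset.card_le_card_of_injOn T (fun q hq => ?_) hinj.injOn
  obtain ⟨hq1, hq2⟩ := Finset.mem_filter.1 hq
  exact Finset.mem_filter.2 ⟨hT q hq1, hadd q ▸ hT _ hq2⟩

variable {G : Type*} [Group G] [Finite G] {R : Subgroup G} {e : ↥R ≃* Multiplicative V}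

omit [Finite G] in
theorem cent_neg (v : V) : Subgroup.centralizer ({co e (-v)} : Set G) =
    Subgroup.centralizer ({co e v} : Set G) := by
  ext x
  rw [Subgroup.mem_centralizer_singleton_iff, Subgroup.mem_centralizer_singleton_iff, co_neg]
  exact ⟨fun hx => (Commute.inv_right_iff.1 (show Commute x (co e v)⁻¹ from hx)).eq,
    fun hx => (show Commute x (co e v) from hx).inv_right.eq⟩

omit [Finite G] in
theorem num_orb {A : Finset V} (hA : ∀ {u v}, u ∈ A → v ∈ orb e u → v ∈ A)
    {u p : V} (hp : p ∈ orb e u) : num A u ≤ num A p := by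
  obtain ⟨g, hg, hgp⟩ := mem_orb.1 hp
  have hT : ∀ v, ∃ w, g * co e v * g⁻¹ = co e w := fun v =>
    exists_co ((Subgroup.mem_normalizer_iff.1 hg _).1 (co_mem v))
  choose T hT using hT
  refine num_le T (fun q q' h => co_injective (e := e) (mul_left_cancel (mul_right_cancel
      (show g * co e q * g⁻¹ = g * co e q' * g⁻¹ by rw [hT, hT, h]))))
    (fun v hv => hA hv (mem_orb.2 ⟨g, hg, hT v⟩)) fun q => co_injective (e := e) ?_
  rw [← hT, co_add, co_add, ← hT, ← hgp]; group

theorem not_conj_of_local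
    (hrot : ∃ t : G, ∀ v, t * co e v * t⁻¹ = co e (rot v))
    (hflip : ∃ s : G, ∀ v, s * co e v * s⁻¹ = co e (flip v))
    (huniq : ∀ g : G, g * co e (rep 0) * g⁻¹ ∈ R → g ∈ Subgroup.normalizer (R : Set G))
    (hinv : IsConj (co e (rep 0)) (co e (rep 0))⁻¹)
    (hcc : Nat.card (Subgroup.centralizer ({co e (rep 0)} : Set G)) = 972)
    (hca : Nat.card (Subgroup.centralizer ({co e (rep 2)} : Set G)) = 5832)
    (hfour : ¬ 4 ∣ Nat.card ↥(Subgroup.centralizer ({co e (rep 2)} : Set G) ⊓
      Subgroup.normalizer (R : Set G))) :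
    ¬ IsConj (co e (rep 0)) (co e (rep 1)) := by
  classical
  intro hconj
  obtain ⟨g, hg⟩ := isConj_iff.1 hconj
  have hd : rep 1 ∈ orb e (rep 0) := mem_orb.2 ⟨g, huniq g (by rw [hg]; exact co_mem _), hg⟩
  obtain ⟨t, ht⟩ := hrot
  obtain ⟨s, hs⟩ := hflip
  have hrot' : ∀ v, rot v ∈ orb e v := fun v => mem_orb.2
    ⟨t, mem_normalizer_of_map (fun w => ⟨rot (rot w), rot_rot_rot w⟩) ht, ht v⟩
  have hflip' : ∀ v, flip v ∈ orb e v := fun v => mem_orb.2
    ⟨s, mem_normalizer_of_map (fun w => ⟨flip w, flip_flip w⟩) hs, hs v⟩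
  -- the orbit of `c`
  set O := orb e (rep 0) with hO
  have hneg0 : -rep 0 ∈ O := by
    obtain ⟨k, hk⟩ := isConj_iff.1 hinv
    exact mem_orb.2 ⟨k, huniq k (by rw [hk]; exact inv_mem (co_mem _)), by rw [hk, co_neg]⟩
  have hOU := eq_union O (zero_notMem_orb (rep_ne_zero 0)) (fun v hv => orb_trans hv (hrot' v))
    (fun v hv => orb_trans hv (hflip' v)) (fun v hv => orb_trans hneg0 (orb_neg hv))
  have hle : Subgroup.centralizer ({co e (rep 0)} : Set G) ≤ Subgroup.normalizer (R : Set G) :=
    fun k hk => huniq k (by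
      rw [Subgroup.mem_centralizer_singleton_iff.1 hk, mul_inv_cancel_right]
      exact co_mem _)
  have hmO : O.card * 972 = Nat.card (Subgroup.normalizer (R : Set G)) := by
    rw [hO, ← card_orb_mul (e := e) (rep 0), inf_eq_left.2 hle, hcc]
  set bO := fun i => decide (rep i ∈ O) with hbO
  have hO2 : rep 2 ∉ O := fun h => by
    rw [← card_cent_of_isConj (isConj_of_mem_orb h), hcc] at hca
    norm_num at hca
  obtain ⟨h4, h8, h3, h345⟩ := orbit_union bO (decide_eq_true (self_mem_orb _)) (decide_eq_true hd)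
    (decide_eq_false hO2)
  rw [← hOU] at h4 h8 h3 h345
  -- the elements conjugate to `a` or its inverse
  set Oa := orb e (rep 2) with hOa
  set A := Oa ∪ Oa.image fun v => -v with hA
  have hmA : ∀ {v}, v ∈ A ↔ v ∈ Oa ∨ -v ∈ Oa := fun {v} => by
    rw [hA, Finset.mem_union, Finset.mem_image]
    exact or_congr_right ⟨fun ⟨w, hw, e'⟩ => e' ▸ (neg_neg w).symm ▸ hw, fun h => ⟨-v, h, neg_neg v⟩⟩
  have hAorb : ∀ {u v}, u ∈ A → v ∈ orb e u → v ∈ A := fun hu hv =>
    hmA.2 ((hmA.1 hu).imp (fun h => orb_trans h hv) fun h => orb_trans h (orb_neg hv))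
  have hAneg : ∀ v ∈ A, -v ∈ A := fun v hv => hmA.2 ((hmA.1 hv).symm.imp id fun h => by rwa [neg_neg])
  have hA0 : (0 : V) ∉ A := fun h => by
    have h' := hmA.1 h
    rw [neg_zero, or_self] at h'
    exact zero_notMem_orb (rep_ne_zero 2) h'
  have hcentA : ∀ v ∈ A, Nat.card (Subgroup.centralizer ({co e v} : Set G)) = 5832 := by
    intro v hv
    rcases hmA.1 hv with h | h
    · rw [← card_cent_of_isConj (isConj_of_mem_orb h), hca]
    · rw [← cent_neg, ← card_cent_of_isConj (isConj_of_mem_orb h), hca]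
  have hdisj : ∀ v ∈ A, v ∉ O := fun v hv hv' => by
    have h := hcentA v hv
    rw [← card_cent_of_isConj (isConj_of_mem_orb hv'), hcc] at h
    norm_num at h
  have hAU := eq_union A hA0 (fun v hv => hAorb hv (hrot' v)) (fun v hv => hAorb hv (hflip' v)) hAneg
  set bA := fun i => decide (rep i ∈ A) with hbA
  have h2A : rep 2 ∈ A := hmA.2 (Or.inl (self_mem_orb _))
  have hnum : ∀ i, bA i = true → num (union bA) (rep i) = num (union bA) (rep 2) := by
    intro i hi
    rw [← hAU]
    have hneg : ∀ p, num A p ≤ num A (-p) := fun p =>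
      num_le (fun v => -v) neg_injective hAneg fun q => neg_add p q
    rcases hmA.1 (of_decide_eq_true hi) with h | h
    · exact le_antisymm (num_orb hAorb (orb_symm h)) (num_orb hAorb h)
    · have e1 : num A (rep i) = num A (-rep i) :=
        le_antisymm (hneg _) ((hneg _).trans_eq (by rw [neg_neg]))
      rw [e1]
      exact le_antisymm (num_orb hAorb (orb_symm h)) (num_orb hAorb h)
  have hb : ∀ i, bA i = true → bO i = false := fun i hi =>
    decide_eq_false (hdisj _ (of_decide_eq_true hi))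
  have hO0 : bA 0 = false := decide_eq_false fun h => hdisj _ h (self_mem_orb _)
  have hO1 : bA 1 = false := decide_eq_false fun h => hdisj _ h hd
  have hshape := invariant_union bA hO0 hO1 (decide_eq_true h2A) hnum
  rw [← hAU] at hshape
  -- the orbit equation
  set D := Nat.card ↥(Subgroup.centralizer ({co e (rep 2)} : Set G) ⊓ Subgroup.normalizer (R : Set G))
  have hD : D ∣ 5832 := hca ▸ Subgroup.card_dvd_of_le inf_le_left
  have hkD : Oa.card * D = O.card * 972 := (card_orb_mul (e := e) (rep 2)).trans hmO.symm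
  have hsize : A.card = Oa.card ∨ A.card = 2 * Oa.card := by
    by_cases hn : -rep 2 ∈ Oa
    · refine Or.inl (congrArg Finset.card ?_)
      refine Finset.union_eq_left.2 fun v hv => ?_
      obtain ⟨w, hw, rfl⟩ := Finset.mem_image.1 hv
      exact orb_trans hn (orb_neg hw)
    · refine Or.inr ?_
      rw [hA, Finset.card_union_of_disjoint, Finset.card_image_of_injective _ neg_injective, two_mul]
      refine Finset.disjoint_left.2 fun v hv hv' => hn ?_
      obtain ⟨w, hw, rfl⟩ := Finset.mem_image.1 hv'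
      exact orb_trans hv (orb_symm (orb_neg hw))
  obtain ⟨f, hf, hfD⟩ : ∃ f, (f = 1 ∨ f = 2) ∧ A.card * D = f * (O.card * 972) := by
    rcases hsize with h | h
    · exact ⟨1, Or.inl rfl, by rw [h, hkD, one_mul]⟩
    · exact ⟨2, Or.inr rfl, by rw [h, mul_assoc, hkD]⟩
  obtain ⟨t4, ht4⟩ := h4
  rcases hshape with h | h | h | ⟨h, hb3⟩ | ⟨h, hb3, hb4, hb5⟩
  all_goals rw [h] at hfD
  · rcases hf with rfl | rfl <;> omega
  · rcases hf with rfl | rfl <;> omega
  · rcases hf with rfl | rfl <;> omega
  · obtain ⟨t8, ht8⟩ := h3 (hb 3 hb3)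
    rcases hf with rfl | rfl <;> omega
  · have h24 := h345 (hb 3 hb3) (hb 4 hb4) (hb 5 hb5)
    rcases hf with rfl | rfl <;> omega

end Cfsg.Agent.Lib.U43Graph14
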