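import Cfsg.Prelude.Def_Local
import Cfsg.Agent.Lib.Components.GenFitting
import Cfsg.Agent.Lib.PSolvable.Basic
import Cfsg.Agent.Lib.PGroups.SLTwoThree

/-!
# First consequences of the hypotheses of unitary type on the centraliser of an involution
-/

set_option autoImplicit false
set_option maxRecDepth 20000

namespace Cfsg.Agent.Lib.U43Graph14

open Cfsg.Agent.Lib

/-- The elements of `SL(2,3)` of order dividing four. -/
def quatSL : Subgroup (Matrix.SpecialLinearGroup (Fin 2) (ZMod 3)) where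
  carrier := {x | x ^ 4 = 1}
  one_mem' := one_pow 4
  mul_mem' {a b} ha hb := (by decide +kernel :
    ∀ a b : Matrix.SpecialLinearGroup (Fin 2) (ZMod 3), a ^ 4 = 1 → b ^ 4 = 1 → (a * b) ^ 4 = 1) a b ha hb
  inv_mem' {a} ha := show a⁻¹ ^ 4 = 1 by rw [inv_pow, show a ^ 4 = 1 from ha, inv_one]

theorem mem_quatSL {x : Matrix.SpecialLinearGroup (Fin 2) (ZMod 3)} : x ∈ quatSL ↔ x ^ 4 = 1 := Iff.rfl

theorem quatSL_normal : quatSL.Normal :=
  ⟨fun a ha g => show (g * a * g⁻¹) ^ 4 = 1 by rw [conj_pow, show a ^ 4 = 1 from ha]; group⟩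

theorem quatSL_isPGroup : IsPGroup 2 quatSL := fun a => ⟨2, Subtype.ext a.2⟩

attribute [local irreducible] quatSL

theorem cent_quatSL : ∀ x : Matrix.SpecialLinearGroup (Fin 2) (ZMod 3),
    (∀ a : Matrix.SpecialLinearGroup (Fin 2) (ZMod 3), a ^ 4 = 1 → x * a = a * x) →
      ∀ g : Matrix.SpecialLinearGroup (Fin 2) (ZMod 3), x * g = g * x := by decide +kernel

theorem sl_comm_eq : ∀ x : Matrix.SpecialLinearGroup (Fin 2) (ZMod 3),
    (∀ g : Matrix.SpecialLinearGroup (Fin 2) (ZMod 3), x * g = g * x) → x ^ 2 = 1 := by decide +kernel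

theorem sl_involution_unique : ∀ x y : Matrix.SpecialLinearGroup (Fin 2) (ZMod 3),
    x ^ 2 = 1 → x ≠ 1 → y ^ 2 = 1 → y ≠ 1 → x = y := by decide +kernel

/-- A homomorphism from `SL(2,3)` to a group of exponent two is trivial. -/
theorem sl_no_two {A : Type*} [Group A] (hA : ∀ a : A, a ^ 2 = 1) {M : Type*} [Group M]
    (e : M ≃* Matrix.SpecialLinearGroup (Fin 2) (ZMod 3)) (f : M →* A) (x : M) : f x = 1 := by
  have h : ∀ g : Matrix.SpecialLinearGroup (Fin 2) (ZMod 3), ∃ a b : Matrix.SpecialLinearGroup (Fin 2) (ZMod 3),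
      g = a * a * (b * b) := by decide +kernel
  obtain ⟨a, b, hab⟩ := h (e x)
  have : x = e.symm a * e.symm a * (e.symm b * e.symm b) := e.injective (by simp [hab])
  rw [this, map_mul, map_mul, map_mul, ← pow_two, ← pow_two, hA, hA, one_mul]

/-- The join of two commuting subgroups consists of products. -/
theorem exists_mul_of_commute {A : Type*} [Group A] {H H' : Subgroup A} (hc : ∀ p ∈ H, ∀ q ∈ H', p * q = q * p)
    {x : A} (hx : x ∈ H ⊔ H') : ∃ r ∈ H, ∃ s ∈ H', r * s = x := by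
  have hle : H ≤ Subgroup.centralizer (H' : Set A) := fun p hp =>
    Subgroup.mem_centralizer_iff.2 fun q hq => (hc p hp q hq).symm
  rw [← SetLike.mem_coe, Subgroup.coe_mul_of_left_le_normalizer_right _ _
    (hle.trans (Subgroup.centralizer_le_normalizer _))] at hx
  exact hx

variable {G : Type*} [Group G] [Finite G] {z : G}
  {H₁ H₂ Q : Subgroup (Subgroup.centralizer ({z} : Set G))}

/-- The two factors commute. -/
theorem factors_commute (hz : orderOf z = 2) (hn₁ : (H₁.subgroupOf (H₁ ⊔ H₂)).Normal)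
    (hn₂ : (H₂.subgroupOf (H₁ ⊔ H₂)).Normal) (e₂ : H₂ ≃* Matrix.SpecialLinearGroup (Fin 2) (ZMod 3))
    (hmeet : (H₁ ⊓ H₂).map (Subgroup.subtype (Subgroup.centralizer ({z} : Set G))) = Subgroup.zpowers z)
    {a b : Subgroup.centralizer ({z} : Set G)} (ha : a ∈ H₁) (hb : b ∈ H₂) : a * b = b * a := by
  set D := H₁ ⊓ H₂
  have hD2 : ∀ x : D, x ^ 2 = 1 := by
    intro x
    have hx : ((x : Subgroup.centralizer ({z} : Set G)) : G) ∈ Subgroup.zpowers z := hmeet ▸ ⟨_, x.2, rfl⟩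
    have h1 := Subgroup.orderOf_dvd_natCard (Subgroup.zpowers z) hx
    rw [Nat.card_zpowers, hz] at h1
    exact Subtype.ext (Subtype.ext (orderOf_dvd_iff_pow_eq_one.1 h1))
  have hDz : ∀ {d : Subgroup.centralizer ({z} : Set G)}, d ∈ D → ∀ y, y * d = d * y := by
    intro d hd y
    obtain ⟨n, hn⟩ : (d : G) ∈ Subgroup.zpowers z := hmeet ▸ ⟨_, hd, rfl⟩
    refine Subtype.ext ?_
    show (y : G) * d = d * y
    rw [← hn]
    exact (show Commute (y : G) z from Subgroup.mem_centralizer_singleton_iff.1 y.2).zpow_right n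
  have haK : a ∈ H₁ ⊔ H₂ := Subgroup.mem_sup_left ha
  have hmem : ∀ x : H₂, a * x * a⁻¹ * (x : Subgroup.centralizer ({z} : Set G))⁻¹ ∈ D := by
    intro x
    have hxK : (x : Subgroup.centralizer ({z} : Set G)) ∈ H₁ ⊔ H₂ := Subgroup.mem_sup_right x.2
    refine ⟨?_, ?_⟩
    · have h1 : (x : Subgroup.centralizer ({z} : Set G)) * a⁻¹ * (x : Subgroup.centralizer ({z} : Set G))⁻¹ ∈ H₁ :=
        hn₁.conj_mem ⟨a⁻¹, inv_mem haK⟩ (H₁.inv_mem ha) ⟨x, hxK⟩
      have := H₁.mul_mem ha h1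
      simpa [mul_assoc] using this
    · exact H₂.mul_mem (hn₂.conj_mem ⟨x, hxK⟩ x.2 ⟨a, haK⟩) (H₂.inv_mem x.2)
  let f : H₂ →* D :=
    { toFun := fun x => ⟨_, hmem x⟩
      map_one' := Subtype.ext (by simp)
      map_mul' := fun x y => Subtype.ext (by
        show a * ((x : Subgroup.centralizer ({z} : Set G)) * y) * a⁻¹ * ((x : Subgroup.centralizer ({z} : Set G)) * y)⁻¹ = _
        have h1 := hDz (hmem y) (x : Subgroup.centralizer ({z} : Set G))⁻¹
        calc a * ((x : Subgroup.centralizer ({z} : Set G)) * y) * a⁻¹ * ((x : Subgroup.centralizer ({z} : Set G)) * y)⁻¹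
            = a * x * a⁻¹ * (a * y * a⁻¹ * (y : Subgroup.centralizer ({z} : Set G))⁻¹ *
                (x : Subgroup.centralizer ({z} : Set G))⁻¹) := by group
          _ = a * x * a⁻¹ * ((x : Subgroup.centralizer ({z} : Set G))⁻¹ *
                (a * y * a⁻¹ * (y : Subgroup.centralizer ({z} : Set G))⁻¹)) := by rw [← h1]
          _ = a * x * a⁻¹ * (x : Subgroup.centralizer ({z} : Set G))⁻¹ *
                (a * y * a⁻¹ * (y : Subgroup.centralizer ({z} : Set G))⁻¹) := by simp only [mul_assoc]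
          _ = _ := rfl) }
  have h1 : a * b * a⁻¹ * b⁻¹ = 1 := congrArg Subtype.val (sl_no_two hD2 e₂ f ⟨b, hb⟩)
  calc a * b = a * b * a⁻¹ * b⁻¹ * (b * a) := by group
    _ = b * a := by rw [h1, one_mul]

theorem isPGroup_Q (hQ : Q = (Cfsg.pCore 2 ↥(H₁ ⊔ H₂)).map (Subgroup.subtype (H₁ ⊔ H₂))) : IsPGroup 2 Q := by
  rw [hQ]
  exact PSolvable.isPGroup_pCore.map _

/-- The centraliser of `Q` in the centraliser of `z` lies in `Q`. -/
theorem centralizer_Q_le (hF : Cfsg.generalizedFittingSubgroup (Subgroup.centralizer ({z} : Set G)) = Q) :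
    Subgroup.centralizer (Q : Set (Subgroup.centralizer ({z} : Set G))) ≤ Q := by
  rw [← hF]
  exact Components.GenFitting.centralizer_le

/-- The centraliser of `z` has no nontrivial odd normal subgroup. -/
theorem odd_normal_eq_bot (hQ : Q = (Cfsg.pCore 2 ↥(H₁ ⊔ H₂)).map (Subgroup.subtype (H₁ ⊔ H₂))) [Q.Normal]
    (hF : Cfsg.generalizedFittingSubgroup (Subgroup.centralizer ({z} : Set G)) = Q)
    (N : Subgroup (Subgroup.centralizer ({z} : Set G))) (hN : N.Normal) (hodd : Odd (Nat.card N)) : N = ⊥ := by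
  have hQp := isPGroup_Q hQ
  obtain ⟨k, hk⟩ := hQp.exists_card_eq
  have hdisj : N ⊓ Q = ⊥ := by
    refine Subgroup.inf_eq_bot_of_coprime ?_
    rw [hk]
    exact Nat.Coprime.pow_right _ (Nat.coprime_two_right.2 hodd)
  have hle : N ≤ Q := (fun x hx => centralizer_Q_le hF (Subgroup.mem_centralizer_iff.2 fun q hq =>
    (Subgroup.commute_of_normal_of_disjoint N Q hN inferInstance (disjoint_iff.2 hdisj) x q hx hq).eq.symm))
  rwa [inf_eq_left.2 hle] at hdisj

/-- The only central involution of `Q` is `z`. -/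
theorem eq_z_of_central (hz : orderOf z = 2) (hn₁ : (H₁.subgroupOf (H₁ ⊔ H₂)).Normal)
    (hn₂ : (H₂.subgroupOf (H₁ ⊔ H₂)).Normal) (e₁ : H₁ ≃* Matrix.SpecialLinearGroup (Fin 2) (ZMod 3))
    (e₂ : H₂ ≃* Matrix.SpecialLinearGroup (Fin 2) (ZMod 3))
    (hmeet : (H₁ ⊓ H₂).map (Subgroup.subtype (Subgroup.centralizer ({z} : Set G))) = Subgroup.zpowers z)
    (hQ : Q = (Cfsg.pCore 2 ↥(H₁ ⊔ H₂)).map (Subgroup.subtype (H₁ ⊔ H₂)))
    {x : Subgroup.centralizer ({z} : Set G)} (hxQ : x ∈ Q) (hx : orderOf x = 2)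
    (hxc : ∀ q ∈ Q, x * q = q * x) : (x : G) = z := by
  classical
  set K := H₁ ⊔ H₂
  have hxK : x ∈ K := by
    rw [hQ] at hxQ
    obtain ⟨y, -, rfl⟩ := hxQ
    exact y.2
  have hcomm : ∀ {a b : Subgroup.centralizer ({z} : Set G)}, a ∈ H₁ → b ∈ H₂ → a * b = b * a :=
    fun ha hb => factors_commute hz hn₁ hn₂ e₂ hmeet ha hb
  obtain ⟨a, ha, b, hb, hab⟩ := exists_mul_of_commute (fun p hp q hq => hcomm hp hq) hxK
  -- the quaternion subgroups of the factors lie in `Q`
  have hquat : ∀ {H H' : Subgroup (Subgroup.centralizer ({z} : Set G))}, H ≤ K →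
      (H.subgroupOf K).Normal → H ⊔ H' = K → (∀ p ∈ H, ∀ q ∈ H', p * q = q * p) →
      ∀ (e : H ≃* Matrix.SpecialLinearGroup (Fin 2) (ZMod 3)) (y : H), (e y) ^ 4 = 1 →
        (y : Subgroup.centralizer ({z} : Set G)) ∈ Q := by
    intro H H' hHK hHn hsup hHc e y hy
    set P := quatSL.comap e.toMonoidHom
    have hP : IsPGroup 2 P := fun p => ⟨2, Subtype.ext (e.injective (by
      rw [Subgroup.coe_pow, map_pow, Subgroup.coe_one, map_one]
      exact mem_quatSL.1 (Subgroup.mem_comap.1 p.2)))⟩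
    set P' := (P.map H.subtype).subgroupOf K
    have hP'n : P'.Normal := by
      refine ⟨fun p hp k => ?_⟩
      rw [Subgroup.mem_subgroupOf] at hp ⊢
      obtain ⟨q, hq, hqp⟩ := hp
      obtain ⟨r, hr, s, hs, hrs⟩ := exists_mul_of_commute hHc (hsup.symm ▸ k.2 : (k : Subgroup.centralizer ({z} : Set G)) ∈ H ⊔ H')
      have : (quatSL.comap e.toMonoidHom).Normal := quatSL_normal.comap _
      refine ⟨⟨r, hr⟩ * q * ⟨r, hr⟩⁻¹, this.conj_mem q hq ⟨r, hr⟩, ?_⟩
      show r * (q : Subgroup.centralizer ({z} : Set G)) * r⁻¹ = _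
      rw [Subgroup.coe_mul, Subgroup.coe_mul, Subgroup.coe_inv, ← hrs, ← hqp]
      show r * (q : Subgroup.centralizer ({z} : Set G)) * r⁻¹ = r * s * q * (r * s)⁻¹
      calc r * (q : Subgroup.centralizer ({z} : Set G)) * r⁻¹
          = r * ((q : Subgroup.centralizer ({z} : Set G)) * s) * s⁻¹ * r⁻¹ := by group
        _ = r * (s * q) * s⁻¹ * r⁻¹ := by rw [hHc _ q.2 s hs]
        _ = _ := by group
    have hP'p : IsPGroup 2 P' := by
      have hle : P.map H.subtype ≤ K := (Subgroup.map_subtype_le _).trans hHK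
      exact (hP.map _).of_equiv (Subgroup.subgroupOfEquivOfLe hle).symm
    have hyP : y ∈ P := Subgroup.mem_comap.2 (mem_quatSL.2 hy)
    have hyP' : (⟨y, hHK y.2⟩ : K) ∈ P' := Subgroup.mem_subgroupOf.2 ⟨y, hyP, rfl⟩
    rw [hQ]
    exact ⟨⟨y, hHK y.2⟩, PSolvable.le_pCore hP'n hP'p hyP', rfl⟩
  have key : ∀ {H H' : Subgroup (Subgroup.centralizer ({z} : Set G))}, H ≤ K →
      (H.subgroupOf K).Normal → H ⊔ H' = K → (∀ p ∈ H, ∀ q ∈ H', p * q = q * p) →
      (H ⊓ H').map (Subgroup.subtype (Subgroup.centralizer ({z} : Set G))) = Subgroup.zpowers z →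
      ∀ (e : H ≃* Matrix.SpecialLinearGroup (Fin 2) (ZMod 3)) {r s : Subgroup.centralizer ({z} : Set G)},
        r ∈ H → s ∈ H' → r * s = x → (r : G) ∈ Subgroup.zpowers z := by
    intro H H' hHK hHn hsup hHc hm e r s hr hs hrs
    have hcq : ∀ g, e ⟨r, hr⟩ * g = g * e ⟨r, hr⟩ := cent_quatSL _ fun p hp => by
      set y := e.symm p
      have hy : (y : Subgroup.centralizer ({z} : Set G)) ∈ Q :=
        hquat hHK hHn hsup hHc e y (by simp [y, hp])
      have h1 := hxc _ hy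
      rw [← hrs] at h1
      have h2 : r * (y : Subgroup.centralizer ({z} : Set G)) = y * r := by
        calc r * (y : Subgroup.centralizer ({z} : Set G)) = r * ((y : Subgroup.centralizer ({z} : Set G)) * s) * s⁻¹ := by group
          _ = r * (s * y) * s⁻¹ := by rw [hHc _ y.2 s hs]
          _ = (r * s * y) * s⁻¹ := by group
          _ = ((y : Subgroup.centralizer ({z} : Set G)) * (r * s)) * s⁻¹ := by rw [h1]
          _ = _ := by group
      have : (⟨r, hr⟩ : H) * y = y * ⟨r, hr⟩ := Subtype.ext h2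
      simpa [y] using congrArg e this
    have hr2 : (⟨r, hr⟩ : H) ^ 2 = 1 := e.injective (by rw [map_pow, map_one]; exact sl_comm_eq _ hcq)
    obtain ⟨zH, hzH, hzz⟩ : ∃ w : H, (w : Subgroup.centralizer ({z} : Set G)) ∈ H ⊓ H' ∧
        ((w : Subgroup.centralizer ({z} : Set G)) : G) = z := by
      obtain ⟨w, hw, hwz⟩ := (hm ▸ Subgroup.mem_zpowers z : z ∈ (H ⊓ H').map _)
      exact ⟨⟨w, hw.1⟩, hw, hwz⟩
    by_cases hr1 : (⟨r, hr⟩ : H) = 1
    · rw [show r = 1 from congrArg Subtype.val hr1]; exact one_mem _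
    · have hz1 : zH ≠ 1 := fun h => by
        rw [h] at hzz
        rw [← hzz] at hz
        simp at hz
      have hzp : zH ^ 2 = 1 := by
        refine Subtype.ext (Subtype.ext ?_)
        show ((zH : Subgroup.centralizer ({z} : Set G)) : G) ^ 2 = 1
        rw [hzz, ← hz]
        exact pow_orderOf_eq_one z
      have := sl_involution_unique (e ⟨r, hr⟩) (e zH) (by rw [← map_pow, hr2, map_one])
        (fun h => hr1 (e.injective (h.trans (map_one e).symm))) (by rw [← map_pow, hzp, map_one])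
        (fun h => hz1 (e.injective (h.trans (map_one e).symm)))
      rw [show r = (zH : Subgroup.centralizer ({z} : Set G)) from congrArg Subtype.val (e.injective this), hzz]
      exact Subgroup.mem_zpowers z
  have ha' := key (H := H₁) (H' := H₂) le_sup_left hn₁ rfl (fun p hp q hq => hcomm hp hq) hmeet e₁ ha hb hab
  have hb' := key (H := H₂) (H' := H₁) le_sup_right hn₂ (sup_comm _ _) (fun p hp q hq => (hcomm hq hp).symm)
    (by rw [inf_comm]; exact hmeet) e₂ hb ha (by rw [← hab]; exact (hcomm ha hb).symm)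
  have hxz : (x : G) ∈ Subgroup.zpowers z := by
    rw [← hab, Subgroup.coe_mul]; exact mul_mem ha' hb'
  have hx2 : orderOf (x : G) = 2 := (Subgroup.orderOf_coe x).trans hx
  obtain ⟨n, hn⟩ := hxz
  rcases Int.even_or_odd n with ⟨m, hm⟩ | ⟨m, hm⟩
  · exfalso
    subst hm
    have : z ^ (m + m) = 1 := by
      rw [← two_mul, zpow_mul, show z ^ (2 : ℤ) = 1 by rw [zpow_ofNat, ← hz, pow_orderOf_eq_one], one_zpow]
    rw [← hn, show (fun k : ℤ => z ^ k) (m + m) = z ^ (m + m) from rfl, this, orderOf_one] at hx2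
    norm_num at hx2
  · subst hm
    rw [← hn]
    show z ^ (2 * m + 1) = z
    rw [zpow_add, zpow_mul, show z ^ (2 : ℤ) = 1 by rw [zpow_ofNat, ← hz, pow_orderOf_eq_one], one_zpow,
      one_mul, zpow_one]

end Cfsg.Agent.Lib.U43Graph14
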