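import Cfsg.Agent.Lib.U43Graph14.Simple
import Cfsg.Agent.Lib.U43Graph14.Hyp
import Cfsg.Agent.Lib.SmallGroups.Sylow

/-!
# A group of unitary type is simple, given its order and one class of involutions
-/

set_option autoImplicit false

namespace Cfsg.Agent.Lib.U43Graph14

variable {G : Type*} [Group G] [Finite G]

theorem isSimpleGroup_of_type (z : G) (hz : orderOf z = 2)
    (H₁ H₂ : Subgroup (Subgroup.centralizer ({z} : Set G)))
    (hn₁ : (H₁.subgroupOf (H₁ ⊔ H₂)).Normal) (hn₂ : (H₂.subgroupOf (H₁ ⊔ H₂)).Normal)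
    (e₁ : H₁ ≃* Matrix.SpecialLinearGroup (Fin 2) (ZMod 3))
    (e₂ : H₂ ≃* Matrix.SpecialLinearGroup (Fin 2) (ZMod 3))
    (hmeet : (H₁ ⊓ H₂).map (Subgroup.subtype (Subgroup.centralizer ({z} : Set G))) = Subgroup.zpowers z)
    (Q : Subgroup (Subgroup.centralizer ({z} : Set G))) [Q.Normal]
    (hQ : Q = (Cfsg.pCore 2 ↥(H₁ ⊔ H₂)).map (Subgroup.subtype (H₁ ⊔ H₂)))
    (hF : Cfsg.generalizedFittingSubgroup (Subgroup.centralizer ({z} : Set G)) = Q)
    (hnwc : ∃ g : G, (∃ hq : g * z * g⁻¹ ∈ Subgroup.centralizer ({z} : Set G),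
      (⟨g * z * g⁻¹, hq⟩ : Subgroup.centralizer ({z} : Set G)) ∈ Q) ∧ g * z * g⁻¹ ≠ z)
    (hH : Nat.card ↥(Subgroup.centralizer ({z} : Set G)) = 2 ^ 7 * 3 ^ 2)
    (hG : Nat.card G = 2 ^ 7 * 3 ^ 6 * 5 * 7)
    (hone : ∀ x y : G, orderOf x = 2 → orderOf y = 2 → IsConj x y)
    (hgen : Subgroup.closure {x : Subgroup.centralizer ({z} : Set G) | orderOf x = 2} = ⊤) :
    IsSimpleGroup G := by
  classical
  have : Fact (Nat.Prime 2) := ⟨Nat.prime_two⟩
  obtain ⟨g, ⟨hq, -⟩, hgz⟩ := hnwc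
  refine isSimpleGroup_of_involutions z hz (fun x hx => hone z x hz hx)
    (fun N hN hodd => odd_normal_eq_bot hQ hF N hN hodd) hgen ?_ ?_
  · refine ⟨g * z * g⁻¹, ?_, hgz, Subgroup.mem_centralizer_singleton_iff.1 hq⟩
    rw [← MulAut.conj_apply, MulEquiv.orderOf_eq, hz]
  obtain ⟨P₀⟩ : Nonempty (Sylow 2 (Subgroup.centralizer ({z} : Set G))) := inferInstance
  have hP₀ : Nat.card (P₀ : Subgroup (Subgroup.centralizer ({z} : Set G))) = 2 ^ 7 :=
    SmallGroups.Sylow.card_sylow_eq P₀ (a := 7) (m := 9) (by rw [hH]; norm_num) (by norm_num)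
  set P := (P₀ : Subgroup (Subgroup.centralizer ({z} : Set G))).map (Subgroup.subtype _) with hPdef
  have hP : Nat.card P = 2 ^ (Nat.card G).factorization 2 := by
    rw [hPdef, Subgroup.card_map_of_injective (Subgroup.subtype_injective _), hP₀]
    have hne : Nat.card G ≠ 0 := Nat.card_pos.ne'
    have hlo : 7 ≤ (Nat.card G).factorization 2 :=
      (Nat.prime_two.pow_dvd_iff_le_factorization hne).1 (by rw [hG]; norm_num)
    have hhi : ¬ 8 ≤ (Nat.card G).factorization 2 := fun h8 => by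
      have := (Nat.prime_two.pow_dvd_iff_le_factorization hne).2 h8
      rw [hG] at this
      norm_num at this
    rw [show (Nat.card G).factorization 2 = 7 by omega]
  have hQP : Q ≤ (P₀ : Subgroup (Subgroup.centralizer ({z} : Set G))) := by
    have hsup : IsPGroup 2 ↥((P₀ : Subgroup (Subgroup.centralizer ({z} : Set G))) ⊔ Q) := P₀.2.to_sup_of_normal_right (isPGroup_Q hQ)
    exact le_sup_right.trans (P₀.is_maximal' hsup le_sup_left).le
  have hzC : z ∈ (Subgroup.centralizer ({z} : Set G)) := Subgroup.mem_centralizer_singleton_iff.2 rfl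
  have hzP : (⟨z, hzC⟩ : (Subgroup.centralizer ({z} : Set G))) ∈ (P₀ : Subgroup (Subgroup.centralizer ({z} : Set G))) := by
    have hn : (Subgroup.zpowers (⟨z, hzC⟩ : (Subgroup.centralizer ({z} : Set G)))).Normal := ⟨fun a ha b => by
      obtain ⟨n, rfl⟩ := ha
      refine ⟨n, Subtype.ext ?_⟩
      show z ^ n = (b : G) * z ^ n * (b : G)⁻¹
      have hc : Commute (b : G) (z ^ n) :=
        (show Commute (b : G) z from Subgroup.mem_centralizer_singleton_iff.1 b.2).zpow_right n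
      rw [hc.eq, mul_inv_cancel_right]⟩
    have hp : IsPGroup 2 (Subgroup.zpowers (⟨z, hzC⟩ : (Subgroup.centralizer ({z} : Set G)))) :=
      IsPGroup.of_card (n := 1) (by rw [Nat.card_zpowers, Subgroup.orderOf_mk, hz, pow_one])
    exact le_sup_right.trans (P₀.is_maximal' (P₀.2.to_sup_of_normal_right hp) le_sup_left).le
      (Subgroup.mem_zpowers _)
  refine ⟨Sylow.ofCard P hP, ?_, ?_, fun x hx hx2 hxc => ?_⟩
  · rintro _ ⟨y, -, rfl⟩; exact y.2
  · exact ⟨_, hzP, rfl⟩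
  · obtain ⟨y, hy, rfl⟩ := hx
    have hyc : ∀ q ∈ Q, y * q = q * y := fun q hq' =>
      Subtype.ext (hxc _ ⟨q, hQP hq', rfl⟩)
    have hyQ : y ∈ Q := centralizer_Q_le hF (Subgroup.mem_centralizer_iff.2 fun q hq' => (hyc q hq').symm)
    exact eq_z_of_central hz hn₁ hn₂ e₁ e₂ hmeet hQ hyQ
      (by rw [← Subgroup.orderOf_coe]; exact hx2) hyc

end Cfsg.Agent.Lib.U43Graph14
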