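import Cfsg.Agent.Lib.U43Graph14.FromSetup
import Cfsg.Agent.Lib.U43Graph14.SimpleType
import Cfsg.Agent.Lib.U43Graph14.NotConj

/-!
# Recognition from the coded centraliser and the local data
-/

set_option autoImplicit false
set_option linter.unusedSectionVars false

namespace Cfsg.Agent.Lib.U43Graph14

open Cfsg.Agent.Lib Cfsg.Agent.Lib.U43Type85

universe u

variable {G : Type u} [Group G] [Finite G] {z : G}

theorem setup_h27 (S : Setup z) (v : G) (hv : orderOf v = 2) :
    ¬ 27 ∣ Nat.card (Subgroup.centralizer ({v} : Set G)) := by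
  rw [← card_cent_of_isConj (Setup.one_class S S.orderOf_z hv), setup_card S]
  norm_num

/-- The order and the local data at `R` give the unitary group. -/
theorem nonempty_psu_of_setup [IsSimpleGroup G] (S : Setup z) {R : Subgroup G}
    (hG : Nat.card G = 3265920) (hR : Nat.card R = 81) (hexp : ∀ x ∈ R, x ^ 3 = 1)
    (hcomm : ∀ x ∈ R, ∀ y ∈ R, x * y = y * x) (hcent : Subgroup.centralizer (R : Set G) ≤ R)
    (hc : S.f 25 ∈ R) (hd : S.f 30 ∈ R) (hzR : ∀ x ∈ R, z * x * z⁻¹ ∈ R)
    (hcardc : Nat.card (Subgroup.centralizer ({S.f 25} : Set G)) = 972)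
    (hcardd : Nat.card (Subgroup.centralizer ({S.f 30} : Set G)) = 972)
    (hnormc : Subgroup.centralizer ({S.f 25} : Set G) ≤ Subgroup.normalizer (R : Set G))
    (hnormd : Subgroup.centralizer ({S.f 30} : Set G) ≤ Subgroup.normalizer (R : Set G))
    (hcarda : Nat.card (Subgroup.centralizer ({S.f 25 * S.f 30} : Set G)) = 5832)
    (K : Type) [Field K] [Fintype K] (hK : Fintype.card K = 9) :
    Nonempty (G ≃* Cfsg.PSU 4 K 3) := by
  classical
  obtain ⟨zc, zd, hw, hw', hzw, hzw', wc, wd, wd', wc', -, -, hcd, hcd1, hcd2, hc1, hd1⟩ := setup_actions S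
  have hz : z * z = 1 := Setup.z_sq S
  have h27 := setup_h27 S
  set c := S.f 25
  set d := S.f 30
  -- the part of `R` fixed by `z`
  have hz9 : Nat.card ↥(R ⊓ Subgroup.centralizer ({z} : Set G)) = 9 := by
    set F := R ⊓ Subgroup.centralizer ({z} : Set G)
    have hcF : c ∈ F := ⟨hc, Subgroup.mem_centralizer_singleton_iff.2 (S.f_comm 25).eq⟩
    have hdF : d ∈ F := ⟨hd, Subgroup.mem_centralizer_singleton_iff.2 (S.f_comm 30).eq⟩
    have hd81 : Nat.card F ∣ 3 ^ 4 := by
      rw [show (3 : ℕ) ^ 4 = Nat.card R by rw [hR]; norm_num]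
      exact Subgroup.card_dvd_of_le inf_le_left
    have h27' : ¬ 27 ∣ Nat.card F := fun hh =>
      h27 z S.orderOf_z (hh.trans (Subgroup.card_dvd_of_le inf_le_right))
    have hoc : orderOf c = 3 := orderOf_eq_prime (hexp c hc) hc1
    have h1 : Subgroup.zpowers c ≤ F := Subgroup.zpowers_le.2 hcF
    have hlt : 3 < Nat.card F := by
      have hle := Subgroup.card_le_of_le h1
      rw [Nat.card_zpowers, hoc] at hle
      refine lt_of_le_of_ne hle fun e => ?_
      have heq := Subgroup.eq_of_le_of_card_ge h1 (by rw [← e, Nat.card_zpowers, hoc])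
      have hm : d ∈ Subgroup.zpowers c := heq.symm ▸ hdF
      rw [← mem_powers_iff_mem_zpowers, mem_powers_iff_mem_range_orderOf, hoc] at hm
      simp only [Finset.mem_image, Finset.mem_range] at hm
      obtain ⟨k, hk, hk'⟩ := hm
      interval_cases k
      · exact hd1 (by simpa using hk'.symm)
      · refine hcd2 ?_
        rw [← hk']
        simp only [pow_one]
        rw [← pow_three]; exact hexp c hc
      · refine hcd1 ?_
        rw [← hk', ← pow_succ']; exact hexp c hc
    obtain ⟨k, hk, hk'⟩ := (Nat.dvd_prime_pow Nat.prime_three).1 hd81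
    rw [hk'] at hlt h27' ⊢
    interval_cases k <;> revert hlt h27' <;> norm_num
  have hinvc : IsConj c c⁻¹ := isConj_iff.2 ⟨_, wc'⟩
  have hinvd : IsConj d d⁻¹ := isConj_iff.2 ⟨_, wd⟩
  have hza : z * (c * d) = c * d * z :=
    (((S.f_comm 25).mul_left (S.f_comm 30)).eq).symm
  have hfour := not_four_dvd hR hexp hcomm (R.mul_mem hc hd) hcd1 S.orderOf_z hza hzR (setup_uniq S)
    (setup_small S) (setup_nine S) (hz9 ▸ dvd_rfl) h27
  have hnc : ¬ IsConj c d := by
    have hv2 : ∀ {v x : G}, v * v = 1 → x ∈ R → x ≠ 1 → v * x * v⁻¹ = x⁻¹ → orderOf v = 2 := by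
      intro v x hv hx hx1 hvx
      refine orderOf_eq_prime (by rw [pow_two]; exact hv) fun e => hx1 ?_
      have h3 := hexp x hx
      rw [e, one_mul, inv_one, mul_one] at hvx
      rw [pow_succ, pow_two] at h3
      nth_rewrite 1 [hvx] at h3
      simpa using h3
    have hzw2 : orderOf (z * S.f 576) = 2 := hv2
      (by rw [show z * S.f 576 * (z * S.f 576) = z * (S.f 576 * z) * S.f 576 by group, ← hzw, ← mul_assoc,
        hz, one_mul, hw]) hd hd1
      (by calc z * S.f 576 * d * (z * S.f 576)⁻¹ = z * (S.f 576 * d * (S.f 576)⁻¹) * z⁻¹ := by group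
            _ = (z * d * z⁻¹)⁻¹ := by rw [wd]; group
            _ = d⁻¹ := by rw [zd])
    obtain ⟨e, hec, hed, ⟨t, ht⟩, hflip⟩ := exists_coords hR hexp hcomm hcent hcardc hnormc hc hc1 hd hd1
      hz hw hzw zc wc zd wd hz9 (h27 z S.orderOf_z) (h27 _ (hv2 hw hd hd1 wd)) (h27 _ hzw2)
    have hea : co e (Blocks.rep 2) = c * d := by
      rw [show Blocks.rep 2 = Blocks.rep 0 + Blocks.rep 1 by decide, co_add, hec, hed]
    rw [← hec, ← hed]
    exact not_conj_of_local ⟨t, ht⟩ hflip
      (fun g hg => uniq_of_cent (by rw [hec]; exact hcardc) (by rw [hec]; exact hnormc) ht g hg)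
      (by rw [hec]; exact hinvc) (by rw [hec]; exact hcardc) (by rw [hea]; exact hcarda)
      (by rw [hea]; exact hfour)
  exact nonempty_psu_of_centralisers hG hR hexp hcomm hcent hc hc1 hd hd1 hcardc hcardd hnormc hnormd hcarda
    hz hw hw' hzw hzw' zc wc zd wd wd' wc' hz9 h27 hnc hinvc hinvd hfour K hK

end Cfsg.Agent.Lib.U43Graph14
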