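import Cfsg.Agent.Lib.U43Graph14.Count
import Cfsg.Agent.Lib.U43Graph14.Recognition

/-!
# U4(3) type: the unitary group from the local facts
-/

set_option autoImplicit false
set_option linter.unusedSectionVars false

namespace Cfsg.Agent.Lib.U43Graph14

open Cfsg.Agent.Lib Cfsg.Agent.Lib.U43Type85

universe u

theorem ab_code : mul 24 1 = 25 ∧ mul 24 (inv 1) = 30 ∧ mul 25 30 = inv 24 ∧ inv 1 < 1152 := by
  decide +kernel

variable {G : Type u} [Group G] [Finite G] {z : G}

/-- The local facts give the unitary group. -/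
theorem nonempty_psu_of_facts [IsSimpleGroup G] (S : Setup z) {J : Subgroup G} (hJ : Facts S J)
    (K : Type) [Field K] [Fintype K] (hK : Fintype.card K = 9) : Nonempty (G ≃* Cfsg.PSU 4 K 3) := by
  obtain ⟨h25, h30, hcd, hlt⟩ := ab_code
  have hc : S.f 25 ∈ J := by
    rw [← h25, S.f_mul 24 (by norm_num) 1 (by norm_num)]
    exact mul_mem hJ.a_mem hJ.b_mem
  have hd : S.f 30 ∈ J := by
    rw [← h30, S.f_mul 24 (by norm_num) _ hlt, S.f_inv (by norm_num)]
    exact mul_mem hJ.a_mem (inv_mem hJ.b_mem)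
  have hzc : z ∈ Subgroup.normalizer (J : Set G) :=
    hJ.norm_c 25 (Or.inl rfl) (Subgroup.mem_centralizer_singleton_iff.2 (S.f_comm 25).eq.symm)
  have ha : S.f 25 * S.f 30 = (S.f 24)⁻¹ := by
    rw [← S.f_mul 25 (by norm_num) 30 (by norm_num), hcd, S.f_inv (by norm_num)]
  have hcent : Subgroup.centralizer ({(S.f 24)⁻¹} : Set G) = Subgroup.centralizer ({S.f 24} : Set G) := by
    ext x
    rw [Subgroup.mem_centralizer_singleton_iff, Subgroup.mem_centralizer_singleton_iff]
    exact ⟨fun h => (Commute.inv_right_iff.1 (show Commute x (S.f 24)⁻¹ from h)).eq,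
      fun h => (show Commute x (S.f 24) from h).inv_right.eq⟩
  exact nonempty_psu_of_setup S (card_eq_of_facts S hJ) hJ.card_J hJ.exp_J
    (fun x hx y hy => (hJ.comm_J x hx y hy).eq) hJ.cent_J hc hd
    (fun x hx => (Subgroup.mem_normalizer_iff.1 hzc x).1 hx)
    (hJ.card_c 25 (Or.inl rfl)) (hJ.card_c 30 (Or.inr rfl))
    (hJ.norm_c 25 (Or.inl rfl)) (hJ.norm_c 30 (Or.inr rfl))
    (by rw [ha, hcent]; exact hJ.card_a) K hK

end Cfsg.Agent.Lib.U43Graph14
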