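import Cfsg.Agent.Lib.U43Graph14.Points

/-!
# The neighbours of the base point and the other points

`R` is regular on the 81 points which are not adjacent to the base point; each of the ten lines through the base
point has exactly one point adjacent to a given one of them.
-/

set_option autoImplicit false
set_option maxRecDepth 20000
set_option linter.unusedSectionVars false

namespace Cfsg.Agent.Lib.U43Graph14

open Subgroup

variable {G : Type*} [Group G] {R : Subgroup G} {e : ↥R ≃* Multiplicative V}

theorem smul_base_co (v : V) : co e v • base R = base R :=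
  smul_base_eq.2 (Subgroup.le_normalizer (co_mem v))

theorem co_add_smul (u v : V) (p : Pt R) : co e (u + v) • p = co e u • (co e v • p) := by
  rw [co_add, mul_smul]

/-- The members of a line other than the base point. -/
def Line (e : ↥R ≃* Multiplicative V) (i : Fin 10) (p : Pt R) : Prop :=
  p ≠ base R ∧ co e (pts i) ∈ grp p

theorem Line.smul_co {i : Fin 10} {p : Pt R} (hp : Line e i p) (v : V) : Line e i (co e v • p) := by
  refine ⟨fun h' => hp.1 ?_, ?_⟩
  · exact smul_left_cancel (co e v) (h'.trans (smul_base_co v).symm)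
  · rw [mem_grp_smul, mul_assoc, co_comm, ← mul_assoc, inv_mul_cancel, one_mul]
    exact hp.2

/-- The vectors moving `p0` to a neighbour of `m`. -/
def farOf (e : ↥R ≃* Multiplicative V) (p0 m : Pt R) : Set V := {v | Adj m (co e v • p0)}

/-- The vectors fixing a point. -/
def stabV (e : ↥R ≃* Multiplicative V) (p : Pt R) : AddSubgroup V where
  carrier := {v | co e v • p = p}
  zero_mem' := by simp [co_zero]
  add_mem' {a b} ha hb := by
    show co e (a + b) • p = p
    rw [co_add_smul, show co e b • p = p from hb, show co e a • p = p from ha]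
  neg_mem' {a} ha := by
    show co e (-a) • p = p
    rw [co_neg, inv_smul_eq_iff]
    exact (show co e a • p = p from ha).symm

namespace Geo

variable [Finite G] (h : Geo R e)
include h

theorem line_unique {i j : Fin 10} {p : Pt R} (hi : Line e i p) (hj : Line e j p) : i = j := by
  by_contra hij
  refine hi.1 (h.eq_base_of_mem (v := pts i + pts j) ?_ ?_)
  · rw [qv_add, (qv_pts i).1, (qv_pts j).1, zero_add, zero_add]; exact bv_ne_zero i j hij
  · rw [co_add]; exact mul_mem hi.2 hj.2

theorem adj_base_iff {p : Pt R} : Adj (base R) p ↔ ∃ i, Line e i p := by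
  constructor
  · intro ha
    have hne : base R ≠ p := fun e' => h.not_adj_self _ (e' ▸ ha)
    obtain ⟨x, hx, hx1⟩ := (h.adj_iff hne).1 ha
    obtain ⟨v, rfl⟩ := exists_co (e := e) (grp_base (R := R) ▸ (Subgroup.mem_inf.1 hx).1)
    obtain ⟨hv0, hqv⟩ := h.sing_co.1 (h.sing_of_mem_inf hne hx hx1)
    obtain ⟨i, hi⟩ := sing_cases v hqv hv0
    refine ⟨i, hne.symm, ?_⟩
    rcases hi with rfl | rfl
    · exact (Subgroup.mem_inf.1 hx).2
    · simpa [co_neg] using (Subgroup.mem_inf.1 hx).2
  · rintro ⟨i, hne, hp⟩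
    exact (h.adj_iff hne.symm).2 ⟨_, ⟨by rw [grp_base]; exact co_mem _, hp⟩,
      fun h1 => (qv_pts i).2 (co_eq_one h1)⟩

theorem card_line (i : Fin 10) : Nat.card {p : Pt R // Line e i p} = 3 := by
  classical
  have : Fintype (Pt R) := Fintype.ofFinite _
  have h4 := h.card_contain (x := co e (pts i)) (h.sing_co.2 ⟨(qv_pts i).2, (qv_pts i).1⟩)
  rw [Nat.card_eq_fintype_card, Fintype.card_subtype] at h4 ⊢
  have : (Finset.univ.filter fun p : Pt R => Line e i p) =
      (Finset.univ.filter fun p : Pt R => co e (pts i) ∈ grp p).erase (base R) := by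
    ext p
    rw [Finset.mem_filter, Finset.mem_erase, Finset.mem_filter]
    simp only [Finset.mem_univ, true_and]
    exact Iff.rfl
  rw [this, Finset.card_erase_of_mem (Finset.mem_filter.2 ⟨Finset.mem_univ _, by
    rw [grp_base]; exact co_mem _⟩), h4]

theorem card_adj (m : Pt R) : Nat.card {p : Pt R // Adj m p} = 30 := by
  classical
  obtain ⟨g, rfl⟩ := exists_smul_base m
  rw [← Nat.card_congr ((MulAction.toPerm (g : G) : Equiv.Perm (Pt R)).subtypeEquiv
    (p := fun p => Adj (base R) p) fun p => adj_smul.symm)]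
  let f : (Σ i : Fin 10, {p : Pt R // Line e i p}) → {p : Pt R // Adj (base R) p} :=
    fun a => ⟨a.2.1, h.adj_base_iff.2 ⟨a.1, a.2.2⟩⟩
  have hf : Function.Bijective f := by
    constructor
    · rintro ⟨i, p, hp⟩ ⟨j, q, hq⟩ hpq
      obtain rfl : p = q := congrArg Subtype.val hpq
      obtain rfl := h.line_unique hp hq
      rfl
    · rintro ⟨p, hp⟩
      obtain ⟨i, hi⟩ := h.adj_base_iff.1 hp
      exact ⟨⟨i, p, hi⟩, rfl⟩
  rw [← Nat.card_congr (Equiv.ofBijective f hf)]
  have : Fintype (Pt R) := Fintype.ofFinite _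
  rw [Nat.card_sigma, Finset.sum_congr rfl fun i _ => h.card_line i]
  simp

theorem adj_of_line {i : Fin 10} {p q : Pt R} (hp : Line e i p) (hq : Line e i q) (hne : p ≠ q) : Adj p q :=
  (h.adj_iff hne).2 ⟨_, ⟨hp.2, hq.2⟩, fun h1 => (qv_pts i).2 (co_eq_one h1)⟩

theorem line_of_adj {i : Fin 10} {p q : Pt R} (hp : Line e i p) (hq : Adj (base R) q) (hpq : Adj p q) :
    Line e i q := by
  have hb := h.triangle_base (h.adj_base_iff.2 ⟨i, hp⟩) hq hpq
  refine ⟨fun e' => h.not_adj_self _ (e' ▸ hq), ?_⟩
  have : co e (pts i) ∈ R ⊓ grp p := ⟨co_mem _, hp.2⟩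
  rw [hb] at this
  exact this.2

/-- A point moved by no element of order five which fixes the base point, and not adjacent to it. -/
theorem exists_regular : ∃ p0 : Pt R, p0 ≠ base R ∧ ¬ Adj (base R) p0 ∧ stabV e p0 = ⊥ := by
  classical
  have : Fintype (Pt R) := Fintype.ofFinite _
  have h5 : Fact (Nat.Prime 5) := ⟨by norm_num⟩
  obtain ⟨u, hu⟩ := exists_prime_orderOf_dvd_card' (G := Subgroup.normalizer (R : Set G)) 5
    (by rw [h.card_N]; norm_num)
  have huG : orderOf (u : G) = 5 := by rw [← hu]; exact Subgroup.orderOf_coe u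
  have hu5 : (u : G) ^ 5 = 1 := by rw [← huG]; exact pow_orderOf_eq_one _
  have hcent : ∀ {x : G}, Nat.card (Subgroup.centralizer ({x} : Set G)) ∈ ({972, 5832} : Set ℕ) →
      ∀ {w : G}, orderOf w = 5 → ¬ w * x = x * w := by
    intro x hx w hw hc
    have hd : 5 ∣ Nat.card (Subgroup.centralizer ({x} : Set G)) :=
      hw ▸ Subgroup.orderOf_dvd_natCard (Subgroup.centralizer ({x} : Set G))
        (Subgroup.mem_centralizer_singleton_iff.2 hc)
    simp only [Set.mem_insert_iff, Set.mem_singleton_iff] at hx
    rcases hx with hx | hx <;> rw [hx] at hd <;> norm_num at hd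
  -- a second fixed point
  let σ : Equiv.Perm (Pt R) := MulAction.toPerm (u : G)
  have hσ : σ ^ 5 = 1 := by
    ext p
    have : ∀ n : ℕ, (σ ^ n) p = (u : G) ^ n • p := by
      intro n
      induction n with
      | zero => simp
      | succ n ih =>
        rw [pow_succ', Equiv.Perm.mul_apply, ih, pow_succ', mul_smul]
        rfl
    rw [this, hu5, one_smul]; rfl
  have hmod := Equiv.Perm.card_compl_support_modEq (p := 5) (n := 1) (σ := σ) (by simpa using hσ)
  rw [← Nat.card_eq_fintype_card, h.card_Pt, Nat.ModEq] at hmod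
  obtain ⟨p0, hp0, hne⟩ : ∃ p0, p0 ∈ σ.supportᶜ ∧ p0 ≠ base R :=
    Finset.exists_mem_ne (by omega) _
  have hfix : (u : G) • p0 = p0 := by
    rw [Finset.mem_compl, Equiv.Perm.mem_support, not_not] at hp0
    exact hp0
  have hnadj : ¬ Adj (base R) p0 := by
    intro ha
    obtain ⟨i, hi⟩ := h.adj_base_iff.1 ha
    have hfb : (u : G) • base R = base R := smul_base_eq.2 u.2
    obtain ⟨w, hw⟩ := exists_co (e := e) ((Subgroup.mem_normalizer_iff.1 u.2 _).1 (co_mem (pts i)))
    have hw1 : co e w ∈ grp p0 := by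
      rw [← hfix, mem_grp_smul, ← hw]
      simpa [mul_assoc] using hi.2
    have hws := h.sing_co.1 (hw ▸ (h.sing_co.2 ⟨(qv_pts i).2, (qv_pts i).1⟩).conj (u : G))
    obtain ⟨j, hj⟩ := sing_cases w hws.2 hws.1
    have hjp : Line e j p0 := by
      refine ⟨hne, ?_⟩
      rcases hj with rfl | rfl
      · exact hw1
      · simpa [co_neg] using hw1
    obtain rfl := h.line_unique hjp hi
    have hsq : orderOf ((u : G) ^ 2) = 5 := by rw [orderOf_pow, huG]; norm_num
    refine hcent (x := co e (pts j)) (Or.inr (h.card_cent_co_sing (qv_pts j).1 (qv_pts j).2)) hsq ?_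
    rcases hj with rfl | rfl
    · calc (u : G) ^ 2 * co e (pts j) = u * ((u : G) * co e (pts j) * (u : G)⁻¹) * (u : G)⁻¹ * (u : G) ^ 2 := by
            simp [pow_two, mul_assoc]
        _ = co e (pts j) * (u : G) ^ 2 := by rw [hw, hw]
    · rw [co_neg] at hw
      calc (u : G) ^ 2 * co e (pts j) = u * ((u : G) * co e (pts j) * (u : G)⁻¹) * (u : G)⁻¹ * (u : G) ^ 2 := by
            simp [pow_two, mul_assoc]
        _ = (u * co e (pts j) * (u : G)⁻¹)⁻¹ * (u : G) ^ 2 := by
            conv_lhs => rw [hw]
            simp [mul_assoc]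
        _ = co e (pts j) * (u : G) ^ 2 := by rw [hw, inv_inv]
  refine ⟨p0, hne, hnadj, ?_⟩
  -- the action of `u` on the stabiliser
  set X := stabV e p0
  have hT : ∀ v : X, ∃ w : X, (u : G) * co e v.1 * (u : G)⁻¹ = co e w.1 := by
    intro v
    obtain ⟨w, hw⟩ := exists_co (e := e) ((Subgroup.mem_normalizer_iff.1 u.2 _).1 (co_mem v.1))
    refine ⟨⟨w, ?_⟩, hw⟩
    show co e w • p0 = p0
    rw [← hw, mul_smul, mul_smul, inv_smul_eq_iff.2 hfix.symm, v.2, hfix]
  choose T hT using hT
  have hTn : ∀ (n : ℕ) (v : X), (u : G) ^ n * co e v.1 * ((u : G) ^ n)⁻¹ = co e ((T^[n]) v).1 := by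
    intro n
    induction n with
    | zero => intro v; simp
    | succ n ih =>
      intro v
      rw [Function.iterate_succ_apply', ← hT, ← ih]
      simp [pow_succ', mul_assoc]
  have hT5 : ∀ v, T^[5] v = v := fun v => Subtype.ext (co_injective (e := e) (by rw [← hTn, hu5]; group))
  let τ : Equiv.Perm X :=
    ⟨T, T^[4], fun v => by rw [← Function.iterate_succ_apply]; exact hT5 v,
      fun v => by rw [← Function.iterate_succ_apply' T 4]; exact hT5 v⟩
  have hτ : τ ^ 5 = 1 := Equiv.ext fun v => by
    rw [show (τ ^ 5) v = T^[5] v from rfl, hT5]; rfl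
  have : Fintype X := Fintype.ofFinite _
  have hmod' := Equiv.Perm.card_compl_support_modEq (p := 5) (n := 1) (σ := τ) (by simpa using hτ)
  have hone : τ.supportᶜ.card = 1 := by
    rw [Finset.card_eq_one]
    refine ⟨0, Finset.ext fun v => ?_⟩
    simp only [Finset.mem_compl, Equiv.Perm.mem_support, ne_eq, not_not, Finset.mem_singleton]
    show T v = v ↔ v = 0
    constructor
    · intro hv
      by_contra hv0
      have hv1 : v.1 ≠ 0 := fun e' => hv0 (Subtype.ext e')
      refine hcent (x := co e v.1) ?_ huG ?_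
      · by_cases hq : qv v.1 = 0
        · exact Or.inr (h.card_cent_co_sing hq hv1)
        · exact Or.inl (h.card_cent_co hq)
      · have := hT v
        rw [hv] at this
        exact mul_inv_eq_iff_eq_mul.1 this
    · rintro rfl
      refine Subtype.ext (co_injective (e := e) ?_)
      rw [← hT]; simp [co_zero]
  rw [hone, ← Nat.card_eq_fintype_card, Nat.ModEq] at hmod'
  have hdvd : Nat.card X ∣ 81 := by simpa using X.card_addSubgroup_dvd_card
  have hle : Nat.card X ≤ 81 := Nat.le_of_dvd (by norm_num) hdvd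
  by_contra hbot
  have hX : X = ⊤ := by
    refine AddSubgroup.eq_top_of_le_card _ ?_
    have : Nat.card X ≠ 1 := fun h1 => hbot (AddSubgroup.card_eq_one.1 h1)
    simp only [Nat.card_eq_fintype_card (α := V)]
    rw [show Fintype.card V = 81 by simp]
    interval_cases Nat.card X <;> omega
  -- then `R` would be too large in the stabiliser
  obtain ⟨g, hg⟩ := exists_smul_base p0
  set M := MulAction.stabilizer G p0
  have hRM : R ≤ M := fun x hx => by
    obtain ⟨v, rfl⟩ := exists_co (e := e) hx
    exact (show v ∈ X from hX ▸ AddSubgroup.mem_top v)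
  set Q := grp p0
  have hM : ∀ {x : G}, x ∈ M ↔ g⁻¹ * x * g ∈ Subgroup.normalizer (R : Set G) := by
    intro x
    rw [MulAction.mem_stabilizer_iff, ← hg, ← smul_base_eq, mul_smul, mul_smul, inv_smul_eq_iff]
  have hMQ : ∀ {x : G}, x ∈ M → ∀ y, y ∈ Q ↔ x * y * x⁻¹ ∈ Q := by
    intro x hx y
    have hx' : x⁻¹ • p0 = p0 := inv_smul_eq_iff.2 hx.symm
    conv_lhs => rw [show Q = grp p0 from rfl, ← hx', mem_grp_smul, inv_inv]
  have hcardM : Nat.card M = 29160 := by
    rw [← h.card_N]
    refine Nat.card_congr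
      { toFun := fun x => ⟨g⁻¹ * x * g, hM.1 x.2⟩
        invFun := fun x => ⟨g * x * g⁻¹, hM.2 (by simpa [mul_assoc] using x.2)⟩
        left_inv := fun x => Subtype.ext (by group)
        right_inv := fun x => Subtype.ext (by group) }
  have hQM : Q ≤ M := by
    intro x hx
    rw [show Q = grp p0 from rfl, ← hg, mem_grp_smul, grp_base] at hx
    exact hM.2 (Subgroup.le_normalizer hx)
  have : (Q.subgroupOf M).Normal := ⟨fun y hy x => by
    rw [Subgroup.mem_subgroupOf] at hy ⊢
    simpa using (hMQ x.2 _).1 hy⟩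
  let f : R →* ↥M ⧸ Q.subgroupOf M := (QuotientGroup.mk' _).comp (Subgroup.inclusion hRM)
  have hf : Function.Injective f := by
    rw [← MonoidHom.ker_eq_bot_iff, eq_bot_iff]
    intro x hx
    have hxQ : (x : G) ∈ Q := by
      have h1 := (QuotientGroup.eq_one_iff (N := Q.subgroupOf M) (Subgroup.inclusion hRM x)).1 hx
      exact h1
    by_contra hx1
    have hxinf : (x : G) ∈ grp (base R) ⊓ grp p0 := ⟨by rw [grp_base]; exact x.2, hxQ⟩
    exact hnadj ((h.adj_iff hne.symm).2 ⟨_, hxinf, fun e' => hx1 (Subgroup.mem_bot.2 (Subtype.ext e'))⟩)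
  have hdiv := Subgroup.card_dvd_of_injective f hf
  have hq : Nat.card (↥M ⧸ Q.subgroupOf M) = 360 := by
    have h1 := Subgroup.card_eq_card_quotient_mul_card_subgroup (Q.subgroupOf M)
    rw [Nat.card_congr (Subgroup.subgroupOfEquivOfLe hQM).toEquiv, show Nat.card Q = 81 from card_grp e p0,
      hcardM] at h1
    omega
  rw [card_R e, hq] at hdiv
  norm_num at hdiv

variable {p0 : Pt R} (hne : p0 ≠ base R) (hna : ¬ Adj (base R) p0) (hreg : stabV e p0 = ⊥)
include hne hna hreg

theorem far_co (v : V) : co e v • p0 ≠ base R ∧ ¬ Adj (base R) (co e v • p0) := by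
  refine ⟨fun e' => hne (smul_left_cancel (co e v) (e'.trans (smul_base_co v).symm)), ?_⟩
  rw [← smul_base_co (e := e) v, adj_smul]
  exact hna

theorem far_injective : Function.Injective fun v => co e v • p0 := by
  intro u v huv
  have : v + -u ∈ stabV e p0 := by
    show co e (v + -u) • p0 = p0
    rw [add_comm, co_add_smul, co_neg, inv_smul_eq_iff]
    exact huv.symm
  rw [hreg, AddSubgroup.mem_bot, ← sub_eq_add_neg, sub_eq_zero] at this
  exact this.symm

theorem exists_far {p : Pt R} (hp : p ≠ base R) (hpa : ¬ Adj (base R) p) : ∃ v, p = co e v • p0 := by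
  classical
  have : Fintype (Pt R) := Fintype.ofFinite _
  set A := (Finset.univ.filter fun p : Pt R => ¬ Adj (base R) p).erase (base R)
  have hA : A.card = 81 := by
    have h30 := h.card_adj (base R)
    rw [Nat.card_eq_fintype_card, Fintype.card_subtype] at h30
    have := Finset.card_filter_add_card_filter_not (s := (Finset.univ : Finset (Pt R)))
      (fun p => Adj (base R) p)
    rw [h30, Finset.card_univ, ← Nat.card_eq_fintype_card, h.card_Pt] at this
    have hm : base R ∈ Finset.univ.filter (fun p : Pt R => ¬ Adj (base R) p) :=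
      Finset.mem_filter.2 ⟨Finset.mem_univ _, h.not_adj_self _⟩
    simp only [A]
    rw [Finset.card_erase_of_mem hm]
    omega
  have hsub : (Finset.univ.image fun v : V => co e v • p0) ⊆ A := by
    intro q hq
    obtain ⟨v, -, rfl⟩ := Finset.mem_image.1 hq
    exact Finset.mem_erase.2 ⟨(h.far_co hne hna hreg v).1,
      Finset.mem_filter.2 ⟨Finset.mem_univ _, (h.far_co hne hna hreg v).2⟩⟩
  have heq := Finset.eq_of_subset_of_card_le hsub (by
    rw [hA, Finset.card_image_of_injective _ (h.far_injective hne hna hreg)]; simp)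
  have hpA : p ∈ A := Finset.mem_erase.2 ⟨hp, Finset.mem_filter.2 ⟨Finset.mem_univ _, hpa⟩⟩
  rw [← heq] at hpA
  obtain ⟨v, -, hv⟩ := Finset.mem_image.1 hpA
  exact ⟨v, hv.symm⟩

/-- The neighbours split into the base point, its neighbours and the others. -/
theorem card_split (m : Pt R) :
    Nat.card {p : Pt R // Adj m p ∧ p = base R} + Nat.card {p : Pt R // Adj m p ∧ Adj (base R) p} +
      (farOf e p0 m).ncard = 30 := by
  classical
  have : Fintype (Pt R) := Fintype.ofFinite _
  have hfar : (farOf e p0 m).ncard = (Finset.univ.filter fun p : Pt R =>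
      Adj m p ∧ p ≠ base R ∧ ¬ Adj (base R) p).card := by
    rw [← Set.ncard_coe_finset, ← Set.ncard_image_of_injective _ (h.far_injective hne hna hreg)]
    congr 1
    ext p
    simp only [Set.mem_image, Finset.coe_filter, Finset.mem_univ, true_and, Set.mem_setOf_eq, farOf]
    constructor
    · rintro ⟨v, hv, rfl⟩; exact ⟨hv, h.far_co hne hna hreg v⟩
    · rintro ⟨ha, hb, hc⟩
      obtain ⟨v, rfl⟩ := h.exists_far hne hna hreg hb hc
      exact ⟨v, ha, rfl⟩
  have h30 := h.card_adj m
  rw [hfar, Nat.card_eq_fintype_card, Nat.card_eq_fintype_card, Fintype.card_subtype, Fintype.card_subtype,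
    ← Finset.card_union_of_disjoint, ← Finset.card_union_of_disjoint, ← h30, Nat.card_eq_fintype_card,
    Fintype.card_subtype]
  · congr 1
    ext p
    simp only [Finset.mem_union, Finset.mem_filter, Finset.mem_univ, true_and]
    tauto
  · rw [Finset.disjoint_left]
    intro p hp hp'
    simp only [Finset.mem_union, Finset.mem_filter, Finset.mem_univ, true_and] at hp hp'
    rcases hp with hp | hp
    · exact hp'.2.1 hp.2
    · exact hp'.2.2 hp.2
  · rw [Finset.disjoint_left]
    intro p hp hp'
    simp only [Finset.mem_filter, Finset.mem_univ, true_and] at hp hp'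
    exact h.not_adj_self _ (hp.2 ▸ hp'.2)

theorem card_farOf_line {i : Fin 10} {m : Pt R} (hm : Line e i m) : (farOf e p0 m).ncard = 27 := by
  classical
  have : Fintype (Pt R) := Fintype.ofFinite _
  have h1 : Nat.card {p : Pt R // Adj m p ∧ p = base R} = 1 := by
    rw [Nat.card_eq_one_iff_exists]
    exact ⟨⟨base R, (h.adj_base_iff.2 ⟨i, hm⟩).symm, rfl⟩, fun q => Subtype.ext q.2.2⟩
  have h2 : Nat.card {p : Pt R // Adj m p ∧ Adj (base R) p} = 2 := by
    have h3 := h.card_line i
    rw [Nat.card_eq_fintype_card, Fintype.card_subtype] at h3 ⊢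
    have : (Finset.univ.filter fun p : Pt R => Adj m p ∧ Adj (base R) p) =
        (Finset.univ.filter fun p : Pt R => Line e i p).erase m := by
      ext p
      simp only [Finset.mem_filter, Finset.mem_univ, true_and, Finset.mem_erase]
      constructor
      · rintro ⟨ha, hb⟩
        exact ⟨fun e' => h.not_adj_self _ (e' ▸ ha), h.line_of_adj hm hb ha⟩
      · rintro ⟨hpm, hp⟩
        exact ⟨h.adj_of_line hm hp (Ne.symm hpm), h.adj_base_iff.2 ⟨i, hp⟩⟩
    rw [this, Finset.card_erase_of_mem (Finset.mem_filter.2 ⟨Finset.mem_univ _, hm⟩), h3]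
  have := h.card_split hne hna hreg m
  omega

theorem farOf_smul (m : Pt R) (v w : V) : w ∈ farOf e p0 (co e v • m) ↔ w - v ∈ farOf e p0 m := by
  show Adj _ _ ↔ Adj _ _
  conv_lhs => rw [show w = v + (w - v) by abel, co_add_smul, adj_smul]

theorem card_near_adj : Nat.card {m : Pt R // Adj (base R) m ∧ Adj m p0} = 10 ∧
    (farOf e p0 p0).ncard = 20 := by
  classical
  have : Fintype (Pt R) := Fintype.ofFinite _
  have hconst : ∀ v : V, Nat.card {m : Pt R // Adj (base R) m ∧ Adj m (co e v • p0)} =
      Nat.card {m : Pt R // Adj (base R) m ∧ Adj m p0} := by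
    intro v
    refine (Nat.card_congr ((MulAction.toPerm (co e v) : Equiv.Perm (Pt R)).subtypeEquiv fun m => ?_)).symm
    rw [MulAction.toPerm_apply, adj_smul, ← smul_base_co (e := e) v, adj_smul, smul_base_co]
  have h27 : ∀ m : {m : Pt R // Adj (base R) m}, Nat.card {v : V // Adj m.1 (co e v • p0)} = 27 := by
    intro m
    obtain ⟨i, hi⟩ := h.adj_base_iff.1 m.2
    exact (Nat.card_coe_set_eq _).trans (h.card_farOf_line hne hna hreg hi)
  have hswap : Nat.card (Σ m : {m : Pt R // Adj (base R) m}, {v : V // Adj m.1 (co e v • p0)}) =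
      Nat.card (Σ v : V, {m : Pt R // Adj (base R) m ∧ Adj m (co e v • p0)}) :=
    Nat.card_congr
      { toFun := fun a => ⟨a.2.1, ⟨a.1.1, a.1.2, a.2.2⟩⟩
        invFun := fun b => ⟨⟨b.2.1, b.2.2.1⟩, ⟨b.1, b.2.2.2⟩⟩
        left_inv := fun _ => rfl
        right_inv := fun _ => rfl }
  rw [Nat.card_sigma, Nat.card_sigma, Finset.sum_congr rfl fun m _ => h27 m,
    Finset.sum_congr rfl fun v _ => hconst v, Finset.sum_const, Finset.sum_const, smul_eq_mul, smul_eq_mul,
    Finset.card_univ, Finset.card_univ, ← Nat.card_eq_fintype_card (α := {m : Pt R // Adj (base R) m}),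
    h.card_adj (base R), show Fintype.card V = 81 by simp] at hswap
  have h10 : Nat.card {m : Pt R // Adj (base R) m ∧ Adj m p0} = 10 := by omega
  refine ⟨h10, ?_⟩
  have hsplit := h.card_split hne hna hreg p0
  have h0 : Nat.card {p : Pt R // Adj p0 p ∧ p = base R} = 0 := by
    rw [Nat.card_eq_zero]; left
    exact ⟨fun q => hna ((q.2.2 ▸ q.2.1 : Adj p0 (base R)).symm)⟩
  have h1 : Nat.card {p : Pt R // Adj p0 p ∧ Adj (base R) p} = 10 := by
    rw [← h10]
    exact Nat.card_congr (Equiv.subtypeEquivRight fun p => ⟨fun a => ⟨a.2, a.1.symm⟩, fun a => ⟨a.2.symm, a.1⟩⟩)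
  omega

theorem card_stab {H : Subgroup G} (hH : H ≤ Subgroup.normalizer (R : Set G)) (hRH : R ≤ H) :
    Nat.card ↥(H ⊓ MulAction.stabilizer G p0) * 81 = Nat.card H := by
  have horb : MulAction.orbit H p0 = Set.range fun v => co e v • p0 := by
    ext p
    constructor
    · rintro ⟨k, rfl⟩
      obtain ⟨v, hv⟩ := h.exists_far hne hna hreg (p := (k : G) • p0)
        (fun e' => hne (smul_left_cancel (k : G) (e'.trans (smul_base_eq.2 (hH k.2)).symm)))
        (by rw [← smul_base_eq.2 (hH k.2), adj_smul]; exact hna)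
      exact ⟨v, hv.symm⟩
    · rintro ⟨v, rfl⟩
      exact ⟨⟨_, hRH (co_mem v)⟩, rfl⟩
  have h1 := (MulAction.stabilizer H p0).card_mul_index
  rw [MulAction.index_stabilizer, horb, Set.ncard_range_of_injective (h.far_injective hne hna hreg),
    show Nat.card V = 81 by simp] at h1
  rw [← h1]
  congr 1
  refine Nat.card_congr
    { toFun := fun x => ⟨⟨x.1, x.2.1⟩, x.2.2⟩
      invFun := fun x => ⟨x.1.1, x.1.2, x.2⟩
      left_inv := fun _ => rfl
      right_inv := fun _ => rfl }

/-- The other points adjacent to `p0` are its translates by singular vectors. -/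
theorem adj_p0_iff {v : V} : Adj p0 (co e v • p0) ↔ v ≠ 0 ∧ qv v = 0 := by
  classical
  have h20 := (h.card_near_adj hne hna hreg).2
  have hsub : farOf e p0 p0 ⊆ {v | v ≠ 0 ∧ qv v = 0} := by
    intro v hv
    refine ⟨fun e' => h.not_adj_self p0 (by simpa [farOf, e', co_zero] using hv), ?_⟩
    by_contra hq
    set K := Subgroup.normalizer (R : Set G) ⊓ MulAction.stabilizer G p0
    set C := Subgroup.centralizer ({co e v} : Set G)
    have hK : Nat.card K = 360 := by
      have := h.card_stab hne hna hreg le_rfl Subgroup.le_normalizer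
      rw [h.card_N] at this
      change Nat.card K * 81 = 29160 at this
      omega
    have hCN : C ≤ Subgroup.normalizer (R : Set G) := fun x hx => h.mem_normalizer_of_cent hq (by
      rw [Subgroup.mem_centralizer_singleton_iff.1 hx]; simpa using co_mem v)
    have hRC : R ≤ C := fun x hx => by
      obtain ⟨w, rfl⟩ := exists_co (e := e) hx
      exact Subgroup.mem_centralizer_singleton_iff.2 (co_comm w v)
    have hCK : Nat.card (C.subgroupOf K) = 12 := by
      have h1 := h.card_stab hne hna hreg hCN hRC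
      rw [h.card_cent_co hq] at h1
      have h2 : Nat.card (C.subgroupOf K) = Nat.card ↥(C ⊓ MulAction.stabilizer G p0) :=
        Nat.card_congr
          { toFun := fun x => ⟨x.1.1, x.2, x.1.2.2⟩
            invFun := fun x => ⟨⟨x.1, hCN x.2.1, x.2.2⟩, x.2.1⟩
            left_inv := fun _ => rfl
            right_inv := fun _ => rfl }
      omega
    have hidx : (C.subgroupOf K).index = 30 := by
      have := (C.subgroupOf K).card_mul_index
      rw [hCK, hK] at this
      omega
    have hact : ∀ k : K, ∃ w ∈ farOf e p0 p0, (k : G) * co e v * (k : G)⁻¹ = co e w := by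
      intro k
      obtain ⟨w, hw⟩ := exists_co (e := e) ((Subgroup.mem_normalizer_iff.1 k.2.1 _).1 (co_mem v))
      refine ⟨w, ?_, hw⟩
      have hk : (k : G) • p0 = p0 := k.2.2
      show Adj p0 _
      rw [← hw, mul_smul, mul_smul, inv_smul_eq_iff.2 hk.symm]
      have := (adj_smul (g := (k : G))).2 hv
      rwa [hk] at this
    choose w hwS hw using hact
    let f : ↥K ⧸ C.subgroupOf K → farOf e p0 p0 := Quotient.lift (fun k => ⟨w k, hwS k⟩) (by
      intro a b hab
      refine Subtype.ext (co_injective (e := e) ?_)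
      show co e (w a) = co e (w b)
      rw [← hw, ← hw]
      have hc := Subgroup.mem_centralizer_singleton_iff.1 (QuotientGroup.leftRel_apply.1 hab : _)
      change (a : G)⁻¹ * (b : G) * co e v = co e v * ((a : G)⁻¹ * (b : G)) at hc
      calc (a : G) * co e v * (a : G)⁻¹ = (a : G) * (co e v * ((a : G)⁻¹ * (b : G))) * (b : G)⁻¹ := by group
        _ = (a : G) * ((a : G)⁻¹ * (b : G) * co e v) * (b : G)⁻¹ := by rw [hc]
        _ = _ := by group)
    have hf : Function.Injective f := by
      intro a b
      induction a using QuotientGroup.induction_on with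
      | H a => induction b using QuotientGroup.induction_on with
        | H b =>
          intro hab
          have hab' : co e (w a) = co e (w b) := congrArg (fun x : farOf e p0 p0 => co e x.1) hab
          rw [← hw, ← hw] at hab'
          refine QuotientGroup.eq.2 (Subgroup.mem_centralizer_singleton_iff.2 ?_)
          change (a : G)⁻¹ * (b : G) * co e v = co e v * ((a : G)⁻¹ * (b : G))
          calc (a : G)⁻¹ * (b : G) * co e v = (a : G)⁻¹ * ((b : G) * co e v * (b : G)⁻¹) * (b : G) := by group
            _ = (a : G)⁻¹ * ((a : G) * co e v * (a : G)⁻¹) * (b : G) := by rw [hab']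
            _ = _ := by group
    have := Nat.card_le_card_of_injective f hf
    rw [← Subgroup.index, hidx, Nat.card_coe_set_eq, h20] at this
    omega
  have hD : ({v | v ≠ 0 ∧ qv v = 0} : Set V).ncard = 20 := by
    rw [Set.ncard_eq_toFinset_card']
    simpa using U43Graph14.card_sing
  have := Set.eq_of_subset_of_ncard_le hsub (by rw [hD, h20])
  exact Set.ext_iff.1 this v

/-- Each line has one point adjacent to `p0`; the translations fixing it form the orthogonal of a singular
point, and the singular points so obtained are distinct. -/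
theorem exists_lines : ∃ (M : Fin 10 → Pt R) (φ : Fin 10 → Fin 10), Function.Injective φ ∧
    (∀ i, Line e i (M i)) ∧ (∀ i w, Adj (M i) (co e w • p0) ↔ bv (pts (φ i)) w = 0) ∧
    ∀ i w, co e w • M i = M i ↔ bv (pts (φ i)) w = 0 := by
  classical
  have : Fintype (Pt R) := Fintype.ofFinite _
  have h10 := (h.card_near_adj hne hna hreg).1
  have hone : ∀ {i : Fin 10} {m m' : Pt R}, Line e i m → Line e i m' → Adj m p0 → Adj m' p0 → m = m' := by
    intro i m m' hm hm' ha ha'
    by_contra hmm
    have ht := h.triangle (h.adj_of_line hm hm' hmm) ha ha'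
    have hx : co e (pts i) ∈ grp m ⊓ grp m' := ⟨hm.2, hm'.2⟩
    rw [ht] at hx
    exact hna (h.adj_base_iff.2 ⟨i, hne, hx.2⟩)
  let f : {m : Pt R // Adj (base R) m ∧ Adj m p0} → Fin 10 := fun m => (h.adj_base_iff.1 m.2.1).choose
  have hf : ∀ m, Line e (f m) m.1 := fun m => (h.adj_base_iff.1 m.2.1).choose_spec
  have hfi : Function.Injective f := fun a b hab =>
    Subtype.ext (hone (hf a) (hab ▸ hf b) a.2.2 b.2.2)
  have hfb : Function.Bijective f :=
    (Fintype.bijective_iff_injective_and_card f).2 ⟨hfi, by rw [← Nat.card_eq_fintype_card, h10]; simp⟩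
  choose m hm using hfb.2
  have hML : ∀ i, Line e i (m i).1 := fun i => by
    have := hf (m i)
    rwa [hm i] at this
  have hstep : ∀ i, ∃ k, (∀ w, Adj (m i).1 (co e w • p0) ↔ bv (pts k) w = 0) ∧
      (∀ w, co e w • (m i).1 = (m i).1 ↔ bv (pts k) w = 0) ∧
      grp p0 ⊓ grp (m i).1 = grp p0 ⊓ grp (co e (pts k) • p0) := by
    intro i
    set M := (m i).1
    have hMp : Adj M p0 := (m i).2.2
    set H := stabV e M
    have hF0 : (0 : V) ∈ farOf e p0 M := by simpa [farOf, co_zero] using hMp
    have h27 := h.card_farOf_line hne hna hreg (hML i)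
    have hHF : (H : Set V) ⊆ farOf e p0 M := by
      intro v hv
      have := (h.farOf_smul hne hna hreg M v v).2 (by rwa [sub_self])
      rwa [show co e v • M = M from hv] at this
    have hidx : H.index ≤ 3 := by
      let g : V ⧸ H → {p : Pt R // Line e i p} := Quotient.lift (fun v => ⟨co e v • M, (hML i).smul_co v⟩) (by
        intro a b hab
        have hab' : -a + b ∈ H := QuotientAddGroup.leftRel_apply.1 hab
        refine Subtype.ext ?_
        show co e a • M = co e b • M
        conv_rhs => rw [show b = a + (-a + b) by abel, co_add_smul, show co e (-a + b) • M = M from hab'])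
      have hg : Function.Injective g := by
        intro a b
        induction a using QuotientAddGroup.induction_on with
        | H a => induction b using QuotientAddGroup.induction_on with
          | H b =>
            intro hab
            have hab' : co e a • M = co e b • M := congrArg Subtype.val hab
            refine QuotientAddGroup.eq.2 ?_
            show co e (-a + b) • M = M
            rw [co_add_smul, ← hab', co_neg, inv_smul_smul]
      exact (Nat.card_le_card_of_injective g hg).trans (h.card_line i).le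
    have hH : Nat.card H = 27 := by
      have h1 := H.card_mul_index
      rw [show Nat.card V = 81 by simp] at h1
      have hle : Nat.card H ≤ 27 := by
        have := Set.ncard_le_ncard hHF
        rwa [h27, ← Nat.card_coe_set_eq] at this
      have := Nat.mul_le_mul (le_refl (Nat.card H)) hidx
      omega
    have hHeq : (H : Set V) = farOf e p0 M :=
      Set.eq_of_subset_of_ncard_le hHF (by rw [h27, ← Nat.card_coe_set_eq]; exact hH.ge)
    have htri : ∀ {v : V}, v ∈ H → v ≠ 0 → qv v = 0 →
        grp p0 ⊓ grp M = grp p0 ⊓ grp (co e v • p0) := by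
      intro v hv hv0 hq
      have hv' : Adj M (co e v • p0) := by
        have : v ∈ farOf e p0 M := hHeq ▸ hv
        exact this
      exact h.triangle hMp.symm ((h.adj_p0_iff hne hna hreg).2 ⟨hv0, hq⟩) hv'
    have hMne : M ≠ p0 := fun e' => h.not_adj_self _ (e' ▸ hMp)
    obtain ⟨z, hz, hz1⟩ := (h.adj_iff hMne).1 hMp
    set Lz := Finset.univ.filter fun p : Pt R => z ∈ grp p
    have hLz : Lz.card = 4 := by
      have := h.card_contain (h.sing_of_mem_inf hMne hz hz1)
      rwa [Nat.card_eq_fintype_card, Fintype.card_subtype] at this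
    -- a singular vector in `H`
    have hp0z : p0 ∈ Lz := Finset.mem_filter.2 ⟨Finset.mem_univ _, hz.2⟩
    have hMz : M ∈ Lz := Finset.mem_filter.2 ⟨Finset.mem_univ _, hz.1⟩
    obtain ⟨q, hq, hqM⟩ : ∃ q ∈ Lz.erase p0, q ≠ M := Finset.exists_mem_ne (by
      rw [Finset.card_erase_of_mem hp0z, hLz]; norm_num) M
    obtain ⟨hq0, hzq⟩ := Finset.mem_erase.1 hq
    have hzq' : z ∈ grp q := (Finset.mem_filter.1 hzq).2
    have hqp : Adj p0 q := (h.adj_iff (Ne.symm hq0)).2 ⟨z, ⟨hz.2, hzq'⟩, hz1⟩
    have hqM' : Adj M q := (h.adj_iff (Ne.symm hqM)).2 ⟨z, ⟨hz.1, hzq'⟩, hz1⟩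
    have hqb : q ≠ base R := fun e' => hna ((e' ▸ hqp).symm)
    have hqn : ¬ Adj (base R) q := fun ha =>
      hqM (hone (h.line_of_adj (hML i) ha hqM') (hML i) hqp.symm hMp)
    obtain ⟨v, rfl⟩ := h.exists_far hne hna hreg hqb hqn
    obtain ⟨hv0, hqv⟩ := (h.adj_p0_iff hne hna hreg).1 hqp
    have hvH : v ∈ H := by
      have : v ∈ farOf e p0 M := hqM'
      rwa [← hHeq] at this
    obtain ⟨k, hk⟩ := sing_cases v hqv hv0
    have hkH : pts k ∈ H := by
      rcases hk with rfl | rfl
      · exact hvH
      · simpa using H.neg_mem hvH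
    have huniq : ∀ j, pts j ∈ H → j = k := by
      intro j hj
      by_contra hjk
      let S : Finset V := {0, pts k, -pts k, pts j}
      have hS : S.card = 4 := by
        have : ∀ j k : Fin 10, j ≠ k → ({0, pts k, -pts k, pts j} : Finset V).card = 4 := by decide +kernel
        exact this j k hjk
      have hmaps : (S.image fun w => co e w • p0) ⊆ Lz.erase M := by
        intro p hp
        obtain ⟨w, hw, rfl⟩ := Finset.mem_image.1 hp
        refine Finset.mem_erase.2 ⟨fun e' => (h.far_co hne hna hreg w).2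
          (by rw [e']; exact h.adj_base_iff.2 ⟨i, hML i⟩), Finset.mem_filter.2 ⟨Finset.mem_univ _, ?_⟩⟩
        simp only [S, Finset.mem_insert, Finset.mem_singleton] at hw
        have aux : ∀ {x : V}, x ∈ H → x ≠ 0 → qv x = 0 → z ∈ grp (co e x • p0) := fun hx hx0 hxq => by
          have : z ∈ grp p0 ⊓ grp M := ⟨hz.2, hz.1⟩
          rw [htri hx hx0 hxq] at this
          exact this.2
        rcases hw with rfl | rfl | rfl | rfl
        · rw [co_zero, one_smul]; exact hz.2
        · exact aux hkH (qv_pts k).2 (qv_pts k).1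
        · exact aux (H.neg_mem hkH) (neg_ne_zero.2 (qv_pts k).2) (by rw [qv_neg]; exact (qv_pts k).1)
        · exact aux hj (qv_pts j).2 (qv_pts j).1
      have := Finset.card_le_card hmaps
      rw [Finset.card_image_of_injective _ (h.far_injective hne hna hreg), hS,
        Finset.card_erase_of_mem hMz, hLz] at this
      omega
    have hiff := mem_iff_of_tangent hH k hkH huniq
    refine ⟨k, fun w => ?_, fun w => hiff w, htri hkH (qv_pts k).2 (qv_pts k).1⟩
    have : w ∈ farOf e p0 M ↔ w ∈ H := by rw [← hHeq]; rfl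
    exact this.trans (hiff w)
  choose φ hφ1 hφ2 hφ3 using hstep
  refine ⟨fun i => (m i).1, φ, fun i j hij => ?_, hML, hφ1, hφ2⟩
  have he : grp p0 ⊓ grp (m i).1 = grp p0 ⊓ grp (m j).1 := by rw [hφ3, hφ3, hij]
  by_contra hne'
  have hmne : (m i).1 ≠ (m j).1 := fun e' => hne' (h.line_unique (hML i) (e' ▸ hML j))
  have hMne : (m i).1 ≠ p0 := fun e' => by
    have h1 := (m i).2.2
    rw [e'] at h1
    exact h.not_adj_self p0 h1
  obtain ⟨z, hz, hz1⟩ := (h.adj_iff hMne).1 (m i).2.2
  have hz' : z ∈ grp p0 ⊓ grp (m i).1 := ⟨hz.2, hz.1⟩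
  rw [he] at hz'
  have hadj : Adj (m i).1 (m j).1 := (h.adj_iff hmne).2 ⟨z, ⟨hz.1, hz'.2⟩, hz1⟩
  exact hne' (h.line_unique (h.line_of_adj (hML i) (h.adj_base_iff.2 ⟨j, hML j⟩) hadj) (hML j))

end Geo

end Cfsg.Agent.Lib.U43Graph14
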