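import Cfsg.Agent.Lib.U43Graph14.Orbits

/-!
# The normaliser and the classes of the elementary subgroup
-/

set_option autoImplicit false
set_option linter.unusedSectionVars false

namespace Cfsg.Agent.Lib.U43Graph14

open Blocks

variable {G : Type*} [Group G] [Finite G] {R : Subgroup G} {e : ↥R ≃* Multiplicative V}

namespace Local

variable (h : Local R e)
include h

theorem rot_orb {u v : V} (hv : v ∈ orb e u) : rot v ∈ orb e u := by
  obtain ⟨t, ht⟩ := h.exists_rot
  exact orb_trans hv (mem_orb.2 ⟨t, mem_normalizer_of_map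
    (fun w => ⟨rot (rot w), rot_rot_rot w⟩) ht, ht v⟩)

theorem flip_orb {u v : V} (hv : v ∈ orb e u) : flip v ∈ orb e u := by
  obtain ⟨t, ht⟩ := h.exists_flip
  exact orb_trans hv (mem_orb.2 ⟨t, mem_normalizer_of_map (fun w => ⟨flip w, flip_flip w⟩) ht, ht v⟩)

theorem neg_self_c : -rep 0 ∈ orb e (rep 0) := by
  obtain ⟨g, hg⟩ := isConj_iff.1 h.inv_c
  refine mem_orb.2 ⟨g, h.uniq_c g ?_, by rw [hg, co_neg]⟩
  rw [hg]; exact inv_mem (co_mem _)

theorem neg_self_d : -rep 1 ∈ orb e (rep 1) := by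
  obtain ⟨g, hg⟩ := isConj_iff.1 h.inv_d
  refine mem_orb.2 ⟨g, h.uniq_d g ?_, by rw [hg, co_neg]⟩
  rw [hg]; exact inv_mem (co_mem _)

theorem disjoint_cd : Disjoint (orb e (rep 0)) (orb e (rep 1)) :=
  Finset.disjoint_left.2 fun _ hv hw =>
    h.not_conj (IsConj.trans (isConj_of_mem_orb hv) (IsConj.symm (isConj_of_mem_orb hw)))

theorem cent_of_mem_c {v : V} (hv : v ∈ orb e (rep 0)) :
    Nat.card (Subgroup.centralizer ({co e v} : Set G)) = 972 := by
  rw [← card_cent_of_isConj (isConj_of_mem_orb hv), h.cent_c]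

theorem cent_of_mem_d {v : V} (hv : v ∈ orb e (rep 1)) :
    Nat.card (Subgroup.centralizer ({co e v} : Set G)) = 972 := by
  rw [← card_cent_of_isConj (isConj_of_mem_orb hv), h.cent_d]

theorem card_c_mul : (orb e (rep 0)).card * 972 = Nat.card (Subgroup.normalizer (R : Set G)) := by
  have hle : Subgroup.centralizer ({co e (rep 0)} : Set G) ≤ Subgroup.normalizer (R : Set G) :=
    fun g hg => h.uniq_c g (by
      rw [Subgroup.mem_centralizer_singleton_iff.1 hg, mul_inv_cancel_right]
      exact co_mem _)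
  rw [← card_orb_mul (e := e) (rep 0), inf_eq_left.2 hle, h.cent_c]

theorem card_d_mul : (orb e (rep 1)).card * 972 = Nat.card (Subgroup.normalizer (R : Set G)) := by
  have hle : Subgroup.centralizer ({co e (rep 1)} : Set G) ≤ Subgroup.normalizer (R : Set G) :=
    fun g hg => h.uniq_d g (by
      rw [Subgroup.mem_centralizer_singleton_iff.1 hg, mul_inv_cancel_right]
      exact co_mem _)
  rw [← card_orb_mul (e := e) (rep 1), inf_eq_left.2 hle, h.cent_d]

theorem card_c_le : (orb e (rep 0)).card ≤ 34 := by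
  classical
  let S : Finset V := Finset.univ.filter fun v => v ≠ 0 ∧
    Nat.card (Subgroup.centralizer ({co e v} : Set G)) = 5832
  have hS : ∀ {v}, v ∈ S ↔ v ≠ 0 ∧ Nat.card (Subgroup.centralizer ({co e v} : Set G)) = 5832 := by simp [S]
  have hconj : ∀ {f : V → V}, Function.Injective f → f 0 = 0 →
      (∀ v, IsConj (co e v) (co e (f v))) → ∀ v ∈ S, f v ∈ S := by
    intro f hf hf0 hc v hv
    obtain ⟨hv0, hvc⟩ := hS.1 hv
    exact hS.2 ⟨fun e' => hv0 (hf (e'.trans hf0.symm)), by rw [← card_cent_of_isConj (hc v), hvc]⟩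
  have hneg : ∀ v ∈ S, -v ∈ S := by
    intro v hv
    obtain ⟨hv0, hvc⟩ := hS.1 hv
    refine hS.2 ⟨neg_ne_zero.2 hv0, ?_⟩
    have : Subgroup.centralizer ({(co e v)⁻¹} : Set G) = Subgroup.centralizer ({co e v} : Set G) := by
      ext x
      rw [Subgroup.mem_centralizer_singleton_iff, Subgroup.mem_centralizer_singleton_iff]
      exact ⟨fun hx => (show Commute x (co e v) by
          simpa using (show Commute x (co e v)⁻¹ from hx).inv_right).eq,
        fun hx => (show Commute x (co e v) from hx).inv_right.eq⟩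
    rw [co_neg, this, hvc]
  obtain ⟨t, ht⟩ := h.exists_rot
  obtain ⟨s, hs⟩ := h.exists_flip
  have hU := eq_union S (by simp [hS]) (hconj (Function.LeftInverse.injective
      (g := fun v => rot (rot v)) rot_rot_rot) (by decide) fun v => isConj_iff.2 ⟨t, ht v⟩)
    (hconj (Function.LeftInverse.injective flip_flip) (by decide) fun v => isConj_iff.2 ⟨s, hs v⟩) hneg
  have h12 : 12 ≤ S.card := hU ▸ twelve_le _ (decide_eq_true (hS.2 ⟨rep_ne_zero 2, h.cent_a⟩))
  have hd : Disjoint S (orb e (rep 0) ∪ orb e (rep 1)) := Finset.disjoint_left.2 fun v hv hw => by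
    have h5 := (hS.1 hv).2
    rcases Finset.mem_union.1 hw with hw | hw
    · rw [h.cent_of_mem_c hw] at h5; norm_num at h5
    · rw [h.cent_of_mem_d hw] at h5; norm_num at h5
  have hsub : S ∪ (orb e (rep 0) ∪ orb e (rep 1)) ⊆ Finset.univ.erase 0 := fun v hv => by
    refine Finset.mem_erase.2 ⟨fun e' => ?_, Finset.mem_univ _⟩
    subst e'
    rcases Finset.mem_union.1 hv with hv | hv
    · exact (hS.1 hv).1 rfl
    rcases Finset.mem_union.1 hv with hv | hv
    · exact zero_notMem_orb (rep_ne_zero 0) hv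
    · exact zero_notMem_orb (rep_ne_zero 1) hv
  have := Finset.card_le_card hsub
  rw [Finset.card_union_of_disjoint hd, Finset.card_union_of_disjoint h.disjoint_cd,
    Finset.card_erase_of_mem (Finset.mem_univ _), Finset.card_univ, show Fintype.card V = 81 by simp] at this
  have h1 := h.card_c_mul
  have h2 := h.card_d_mul
  omega

theorem dvd_card_N : 729 ∣ Nat.card (Subgroup.normalizer (R : Set G)) := by
  classical
  set N := Subgroup.normalizer (R : Set G)
  by_contra hdvd
  have h3 : Fact (Nat.Prime 3) := ⟨by norm_num⟩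
  have h243 : 243 ∣ Nat.card N := ⟨(orb e (rep 0)).card * 4, by rw [← h.card_c_mul]; ring⟩
  obtain ⟨t, ht⟩ := h.exists_rot
  have htN : t ∈ N := mem_normalizer_of_map (fun w => ⟨rot (rot w), rot_rot_rot w⟩) ht
  obtain ⟨a, l, hl, hal⟩ := Nat.exists_eq_pow_mul_and_not_dvd (orderOf_pos t).ne' 3 (by norm_num)
  have hiter : ∀ (n : ℕ) v, t ^ n * co e v * (t ^ n)⁻¹ = co e (rot^[n] v) := by
    intro n
    induction n with
    | zero => intro v; simp
    | succ n ih => intro v; rw [Function.iterate_succ_apply', ← ht, ← ih]; simp [pow_succ', mul_assoc]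
  have hmod : ∀ (n : ℕ) v, rot^[n] v = rot^[n % 3] v := by
    intro n v
    conv_lhs => rw [← Nat.mod_add_div n 3, Function.iterate_add_apply, Function.iterate_mul]
    congr 1
    exact Function.iterate_fixed (rot_rot_rot v) _
  have hfix : ∀ v, t ^ l * co e v = co e v * t ^ l → rot v = v := by
    intro v hv
    have h1 : co e (rot^[l] v) = co e v := by rw [← hiter, hv]; group
    have h2 := (hmod l v).symm.trans (co_injective h1)
    have hl3 : l % 3 = 1 ∨ l % 3 = 2 := by omega
    rcases hl3 with h' | h' <;> rw [h'] at h2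
    · exact h2
    · calc rot v = rot (rot^[2] v) := by rw [h2]
        _ = v := rot_rot_rot v
  have htR : t ^ l ∉ R := fun hR => by
    obtain ⟨w, hw⟩ := exists_co (e := e) hR
    have h1 := hfix (rep 1) (by rw [hw, co_comm])
    exact absurd h1 (by decide)
  -- a Sylow subgroup of the normaliser holding the power of `t`
  let tN : N := ⟨t ^ l, pow_mem htN l⟩
  have htp : IsPGroup 3 (Subgroup.zpowers tN) := by
    refine IsPGroup.of_card (n := a) ?_
    rw [Nat.card_zpowers, ← Subgroup.orderOf_coe]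
    show orderOf (t ^ l) = 3 ^ a
    have hl0 : l ≠ 0 := fun e' => hl (e' ▸ dvd_zero 3)
    rw [orderOf_pow_of_dvd hl0 (hal ▸ dvd_mul_left l _), hal, Nat.mul_div_cancel _ (Nat.pos_of_ne_zero hl0)]
  obtain ⟨P0, hP0⟩ := htp.exists_le_sylow
  set P := (P0 : Subgroup N).map N.subtype with hP
  have hPN : P ≤ N := Subgroup.map_subtype_le _
  have hcardP : Nat.card P = 243 := by
    rw [hP, Subgroup.card_map_of_injective N.subtype_injective, P0.card_eq_multiplicity]
    have hlo : 5 ≤ (Nat.card N).factorization 3 :=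
      (Nat.Prime.pow_dvd_iff_le_factorization h3.out Nat.card_pos.ne').1 (by norm_num; exact h243)
    have hhi : ¬ 6 ≤ (Nat.card N).factorization 3 := fun h6 =>
      hdvd (by simpa using (Nat.Prime.pow_dvd_iff_le_factorization h3.out Nat.card_pos.ne').2 h6)
    rw [show (Nat.card N).factorization 3 = 5 by omega]; norm_num
  have htP : t ^ l ∈ P := ⟨tN, hP0 (Subgroup.mem_zpowers tN), rfl⟩
  have hRP : R ≤ P := by
    have hp : IsPGroup 3 (R.subgroupOf N) := by
      refine IsPGroup.of_card (n := 4) ?_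
      rw [Nat.card_congr (Subgroup.subgroupOfEquivOfLe (Subgroup.le_normalizer)).toEquiv, card_R e]
      norm_num
    obtain ⟨Q, hQ⟩ := hp.exists_le_sylow
    obtain ⟨n, hn⟩ := MulAction.exists_smul_eq N Q P0
    intro x hx
    refine ⟨⟨x, Subgroup.le_normalizer hx⟩, ?_, rfl⟩
    rw [← hn]
    show _ ∈ ((n • Q : Sylow 3 N) : Subgroup N)
    rw [Sylow.coe_subgroup_smul, Subgroup.mem_pointwise_smul_iff_inv_smul_mem]
    refine hQ ?_
    rw [Subgroup.mem_subgroupOf]
    have := (Subgroup.mem_normalizer_iff.1 (inv_mem n.2) x).1 hx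
    simpa using this
  have hidx : R.relIndex P = 3 := by
    have h1 := (R.subgroupOf P).card_mul_index
    rw [Nat.card_congr (Subgroup.subgroupOfEquivOfLe hRP).toEquiv, card_R e, hcardP] at h1
    rw [Subgroup.relIndex]; omega
  have hrot : ∀ x ∈ P, x ∉ R → ∀ v, x * co e v = co e v * x → rot v = v := by
    intro x hx hxR v hv
    have hnorm : (R.subgroupOf P).Normal := ⟨fun y hy g => by
      rw [Subgroup.mem_subgroupOf] at hy ⊢
      simpa using (Subgroup.mem_normalizer_iff.1 (hPN g.2) _).1 hy⟩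
    have hq : Nat.card (↥P ⧸ R.subgroupOf P) = 3 := hidx
    have hne : ((⟨x, hx⟩ : P) : ↥P ⧸ R.subgroupOf P) ≠ 1 := fun h1 =>
      hxR (Subgroup.mem_subgroupOf.1 ((QuotientGroup.eq_one_iff (N := R.subgroupOf P) _).1 h1))
    obtain ⟨k, hk⟩ := Subgroup.mem_zpowers_iff.1 (mem_zpowers_of_prime_card hq hne
      (g' := ((⟨t ^ l, htP⟩ : P) : ↥P ⧸ R.subgroupOf P)))
    rw [← QuotientGroup.mk_zpow, QuotientGroup.eq] at hk
    have hr : (x ^ k)⁻¹ * t ^ l ∈ R := by simpa [Subgroup.mem_subgroupOf] using hk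
    obtain ⟨w, hw⟩ := exists_co (e := e) hr
    refine hfix v ?_
    rw [show t ^ l = x ^ k * co e w by rw [← hw]; group]
    exact ((show Commute x (co e v) from hv).zpow_left k).mul_left (co_comm w v)
  -- a larger 3-subgroup
  obtain ⟨K, hK, hPK⟩ := Sylow.exists_subgroup_card_pow_succ (G := G) (p := 3) (n := 5)
    (by rw [h.card_G]; norm_num) (H := P) (by rw [hcardP]; norm_num)
  have hnorm : (P.subgroupOf K).Normal := by
    refine Subgroup.normal_of_index_eq_minFac_card ?_
    have h1 := (P.subgroupOf K).card_mul_index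
    rw [Nat.card_congr (Subgroup.subgroupOfEquivOfLe hPK).toEquiv, hcardP, hK] at h1
    rw [hK, Nat.Prime.pow_minFac h3.out (by norm_num : (5 + 1) ≠ 0)]
    omega
  obtain ⟨g, hgK, hgN⟩ : ∃ g ∈ K, g ∉ N := by
    by_contra hall
    push Not at hall
    refine hdvd ?_
    have := Subgroup.card_dvd_of_le (show K ≤ N from hall)
    rwa [hK] at this
  set A := R.map (MulAut.conj g).toMonoidHom
  have hAP : A ≤ P := by
    rintro _ ⟨r, hr, rfl⟩
    exact hnorm.conj_mem ⟨r, hPK (hRP hr)⟩ (hRP hr) ⟨g, hgK⟩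
  have hcardA : Nat.card A = 81 := by
    rw [Subgroup.card_map_of_injective (MulAut.conj g).injective, card_R e]
  obtain ⟨x, hxA, hxR⟩ : ∃ x ∈ A, x ∉ R := by
    by_contra hall
    push Not at hall
    have hAR : A = R := Subgroup.eq_of_le_of_card_ge hall (by rw [hcardA, card_R e])
    refine hgN (Subgroup.mem_normalizer_iff.2 fun y => ?_)
    constructor
    · intro hy
      have : g * y * g⁻¹ ∈ A := ⟨y, hy, rfl⟩
      rwa [hAR] at this
    · intro hy
      rw [← hAR] at hy
      obtain ⟨r, hr, hre⟩ := hy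
      have : r = y := (MulAut.conj g).injective hre
      exact this ▸ hr
  have hbig : 27 ≤ Nat.card (R.subgroupOf A) := by
    have h1 := (R.subgroupOf A).card_mul_index
    have h2 : R.relIndex A ≤ R.relIndex P := Subgroup.relIndex_le_of_le_right hAP (by rw [hidx]; norm_num)
    rw [hidx, Subgroup.relIndex] at h2
    rw [hcardA] at h1
    have := Nat.mul_le_mul_left (Nat.card (R.subgroupOf A)) h2
    omega
  have hsmall : Nat.card (R.subgroupOf A) ≤ Nat.card {v : V // rot v = v} := by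
    have hcomm : ∀ y : R.subgroupOf A, ∃ v, rot v = v ∧ co e v = ((y : A) : G) := by
      rintro ⟨⟨y, hyA⟩, hyR⟩
      obtain ⟨v, rfl⟩ := exists_co (e := e) (Subgroup.mem_subgroupOf.1 hyR)
      refine ⟨v, hrot x (hAP hxA) hxR v ?_, rfl⟩
      obtain ⟨r, hr, rfl⟩ := hxA
      obtain ⟨r', hr', hr'e⟩ := hyA
      obtain ⟨u, rfl⟩ := exists_co (e := e) hr
      obtain ⟨u', rfl⟩ := exists_co (e := e) hr'
      rw [← hr'e, ← map_mul, ← map_mul, co_comm]
    choose v hv hvy using hcomm
    refine Nat.card_le_card_of_injective (fun y => ⟨v y, hv y⟩) fun y z hyz => ?_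
    have h1 : v y = v z := congrArg Subtype.val hyz
    exact Subtype.ext (Subtype.ext (by rw [← hvy, ← hvy, h1]))
  have : Nat.card {v : V // rot v = v} = 9 := by
    rw [Nat.card_eq_fintype_card]; decide +kernel
  omega

theorem orbits : Nat.card (Subgroup.normalizer (R : Set G)) = 29160 ∧
    ∀ v : V, v ≠ 0 → (qv (toX v) = 0 ↔ v ∈ orb e (rep 2)) ∧
      (qv (toX v) ≠ 0 → v ∈ orb e (rep 0) ∨ v ∈ orb e (rep 1)) := by
  classical
  set Oc := orb e (rep 0) with hOc
  set Od := orb e (rep 1) with hOd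
  set Oa := orb e (rep 2) with hOa
  have hnc : ∀ v ∈ Oc, -v ∈ Oc := fun v hv => orb_trans h.neg_self_c (orb_neg hv)
  have hnd : ∀ v ∈ Od, -v ∈ Od := fun v hv => orb_trans h.neg_self_d (orb_neg hv)
  have hC := eq_union Oc (zero_notMem_orb (rep_ne_zero 0)) (fun v => h.rot_orb) (fun v => h.flip_orb) hnc
  have hD := eq_union Od (zero_notMem_orb (rep_ne_zero 1)) (fun v => h.rot_orb) (fun v => h.flip_orb) hnd
  have hac : ∀ {v}, v ∈ Oa → v ∉ Oc ∧ v ∉ Od := by
    intro v hv
    have h5 : Nat.card (Subgroup.centralizer ({co e v} : Set G)) = 5832 := by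
      rw [← card_cent_of_isConj (isConj_of_mem_orb hv), h.cent_a]
    constructor <;> intro hv'
    · rw [h.cent_of_mem_c hv'] at h5; norm_num at h5
    · rw [h.cent_of_mem_d hv'] at h5; norm_num at h5
  set bc := fun i => decide (rep i ∈ Oc) with hbc
  set bd := fun i => decide (rep i ∈ Od) with hbd
  have hcd : ∀ i, bc i = true → bd i = false := fun i hi => decide_eq_false
    (Finset.disjoint_left.1 h.disjoint_cd (of_decide_eq_true hi))
  have hdc : ∀ i, bd i = true → bc i = false := fun i hi => decide_eq_false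
    (Finset.disjoint_right.1 h.disjoint_cd (of_decide_eq_true hi))
  have hc0 : bc 0 = true := decide_eq_true (self_mem_orb _)
  have hd1 : bd 1 = true := decide_eq_true (self_mem_orb _)
  have hc2 : bc 2 = false := decide_eq_false (hac (self_mem_orb _)).1
  have hd2 : bd 2 = false := decide_eq_false (hac (self_mem_orb _)).2
  obtain ⟨k, hk⟩ := h.dvd_card_N
  have hle : Oc.card ≤ 34 := h.card_c_le
  have hmc : Oc.card * 972 = Nat.card (Subgroup.normalizer (R : Set G)) := h.card_c_mul
  have hmd : Od.card * 972 = Nat.card (Subgroup.normalizer (R : Set G)) := h.card_d_mul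
  have hkdvd : k ∣ 4480 := by
    have h1 := Subgroup.card_subgroup_dvd_card (Subgroup.normalizer (R : Set G))
    rw [h.card_G, hk] at h1
    exact Nat.dvd_of_mul_dvd_mul_left (k := 729) (by norm_num) h1
  have hk46 : k < 46 := by omega
  obtain ⟨hk40, hc3, hc4, hc567⟩ := card_pair bc hc0 (hdc 1 hd1) hc2 (by rw [← hC]; exact hle) ⟨k, hk46⟩
    (by rw [← hC]; show 4 * Oc.card = 3 * k; omega) (by show 4 ∣ k; omega) hkdvd
  replace hk40 : k = 40 := hk40
  subst hk40
  have hm : Nat.card (Subgroup.normalizer (R : Set G)) = 29160 := by omega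
  have hcc : Oc.card = 30 := by omega
  have hdc30 : Od.card = 30 := by omega
  have hd3 : bd 3 = false := hcd 3 hc3
  have hsome : bd 5 = false ∨ bd 6 = false ∨ bd 7 = false := by
    rcases hc567 with ⟨-, h6, -⟩ | ⟨h5, -, -⟩ | ⟨h5, -, -⟩
    exacts [Or.inr (Or.inl (hcd 6 h6)), Or.inl (hcd 5 h5), Or.inl (hcd 5 h5)]
  obtain ⟨hd4, hd5, hd6, hd7⟩ := card_second bd (hcd 0 hc0) hd1 hd2 hd3 (by rw [← hD]; exact hdc30) hsome
  -- the third orbit
  have hcard : Oa.card = 20 ∧ Oa = (Finset.univ.erase 0) \ (Oc ∪ Od) := by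
    set D := Nat.card ↥(Subgroup.centralizer ({co e (rep 2)} : Set G) ⊓ Subgroup.normalizer (R : Set G)) with hD'
    have h1 : Oa.card * D = 29160 := hm ▸ card_orb_mul (e := e) (rep 2)
    have h2 : D ∣ 5832 := h.cent_a ▸ Subgroup.card_dvd_of_le inf_le_left
    have h4 : ¬ 4 ∣ D := h.not_four
    have hsub : Oa ⊆ (Finset.univ.erase 0) \ (Oc ∪ Od) := fun v hv => Finset.mem_sdiff.2
      ⟨Finset.mem_erase.2 ⟨fun e' => zero_notMem_orb (rep_ne_zero 2) (e' ▸ hv : (0 : V) ∈ Oa),
        Finset.mem_univ _⟩, fun hw => (Finset.mem_union.1 hw).elim (hac hv).1 (hac hv).2⟩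
    have h20 : ((Finset.univ.erase (0 : V)) \ (Oc ∪ Od)).card = 20 := by
      rw [Finset.card_sdiff_of_subset, Finset.card_union_of_disjoint h.disjoint_cd, hcc, hdc30,
        Finset.card_erase_of_mem (Finset.mem_univ _), Finset.card_univ, show Fintype.card V = 81 by simp]
      intro v hv
      refine Finset.mem_erase.2 ⟨fun e' => ?_, Finset.mem_univ _⟩
      subst e'
      rcases Finset.mem_union.1 hv with hv | hv
      · exact zero_notMem_orb (rep_ne_zero 0) hv
      · exact zero_notMem_orb (rep_ne_zero 1) hv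
    have hle20 : Oa.card ≤ 20 := h20 ▸ Finset.card_le_card hsub
    have hD1458 : D = 1458 := by
      obtain ⟨j, hj⟩ := h2
      have hj4 : j ≤ 4 := by
        have := Nat.mul_le_mul_right D hle20
        by_contra hh
        have := Nat.mul_le_mul_left D (not_le.1 hh)
        omega
      interval_cases j <;> omega
    rw [hD1458] at h1
    exact ⟨by omega, Finset.eq_of_subset_of_card_le hsub (by rw [h20]; omega)⟩
  obtain ⟨hca, hOa'⟩ := hcard
  have hna : ∀ v ∈ Oa, -v ∈ Oa := by
    intro v hv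
    rw [hOa', Finset.mem_sdiff, Finset.mem_erase, Finset.mem_union, not_or] at hv ⊢
    exact ⟨⟨neg_ne_zero.2 hv.1.1, Finset.mem_univ _⟩,
      fun hw => hv.2.1 (neg_neg v ▸ hnc _ hw), fun hw => hv.2.2 (neg_neg v ▸ hnd _ hw)⟩
  have hA := eq_union Oa (zero_notMem_orb (rep_ne_zero 2)) (fun v => h.rot_orb) (fun v => h.flip_orb) hna
  set ba := fun i => decide (rep i ∈ Oa) with hba
  have hna' : ∀ i, bc i = true ∨ bd i = true → ba i = false := by
    intro i hi
    refine decide_eq_false fun hh => ?_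
    rcases hi with hi | hi
    · exact (hac hh).1 (of_decide_eq_true hi)
    · exact (hac hh).2 (of_decide_eq_true hi)
  have ha2 : ba 2 = true := decide_eq_true (self_mem_orb _)
  have ha567 := card_third ba (hna' 0 (Or.inl hc0)) (hna' 1 (Or.inr hd1)) ha2 (hna' 3 (Or.inl hc3))
    (hna' 4 (Or.inr hd4)) (by rw [← hA]; exact hca)
  -- transitivity fixes the last block
  have hnum : ∀ p ∈ Oa, num Oa (rep 2) = num Oa p := by
    have hle : ∀ {u p : V}, u ∈ Oa → p ∈ orb e u → num Oa u ≤ num Oa p := by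
      intro u p hu hp
      obtain ⟨g, hg, hgp⟩ := mem_orb.1 hp
      have hT : ∀ v, ∃ w, g * co e v * g⁻¹ = co e w := fun v =>
        exists_co ((Subgroup.mem_normalizer_iff.1 hg _).1 (co_mem v))
      choose T hT using hT
      have hTS : ∀ {v}, v ∈ Oa → T v ∈ Oa := fun hv => orb_trans hv (mem_orb.2 ⟨g, hg, hT _⟩)
      refine Finset.card_le_card_of_injOn T (fun q hq => ?_) fun q _ q' _ hqq => ?_
      · obtain ⟨hq1, hq2⟩ := Finset.mem_filter.1 hq
        refine Finset.mem_filter.2 ⟨hTS hq1, ?_⟩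
        have : T (u + q) = p + T q := co_injective (e := e) (by
          rw [← hT, co_add, co_add, ← hT, ← hgp]; group)
        exact this ▸ hTS hq2
      · exact co_injective (e := e) (mul_left_cancel (mul_right_cancel
          (show g * co e q * g⁻¹ = g * co e q' * g⁻¹ by rw [hT, hT, hqq])))
    exact fun p hp => le_antisymm (hle (self_mem_orb _) hp) (hle hp (orb_symm hp))
  have ha5 : ba 5 = true ∧ ba 6 = false ∧ ba 7 = false := by
    have hfun : ∀ (j : Fin 8), (∀ i, ba i = true ↔ i = 2 ∨ i = j) →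
        num (union fun i => decide (i = 2 ∨ i = j)) (rep 2) =
          num (union fun i => decide (i = 2 ∨ i = j)) (rep j) := by
      intro j hj
      have : ba = fun i => decide (i = 2 ∨ i = j) := funext fun i => by
        rw [Bool.eq_iff_iff, hj, decide_eq_true_eq]
      rw [← this, ← hA]
      exact hnum _ (of_decide_eq_true ((hj j).2 (Or.inr rfl)))
    have h0 := hna' 0 (Or.inl hc0)
    have h1 := hna' 1 (Or.inr hd1)
    have h3 := hna' 3 (Or.inl hc3)
    have h4 := hna' 4 (Or.inr hd4)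
    rcases ha567 with h5 | ⟨h5, h6, h7⟩ | ⟨h5, h6, h7⟩
    · exact h5
    · exact absurd (hfun 6 (two_six ba h0 h1 ha2 h3 h4 h5 h6 h7)) not_six
    · exact absurd (hfun 7 (two_seven ba h0 h1 ha2 h3 h4 h5 h6 h7)) not_seven
  have hc67 : bc 6 = true ∧ bc 7 = true := by
    rcases hc567 with ⟨-, h6, h7⟩ | ⟨h5, -, -⟩ | ⟨h5, -, -⟩
    · exact ⟨h6, h7⟩
    · exact absurd (hna' 5 (Or.inl h5)) (by simp [ha5.1])
    · exact absurd (hna' 5 (Or.inl h5)) (by simp [ha5.1])
  have hba_iff : ∀ i, ba i = true ↔ i = 2 ∨ i = 5 := by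
    intro i
    constructor
    · intro hi
      by_contra hne
      rcases covers bc bd hc0 hc3 hc67.1 hc67.2 hd1 hd4 i hne with hh | hh
      · simp [hna' i (Or.inl hh)] at hi
      · simp [hna' i (Or.inr hh)] at hi
    · rintro (rfl | rfl)
      exacts [ha2, ha5.1]
  refine ⟨hm, fun v hv => ?_⟩
  have hva : v ∈ Oa ↔ qv (toX v) = 0 := by
    rw [qv_toX v hv, hA, mem_union, hba_iff]
    exact ⟨And.right, fun h' => ⟨hv, h'⟩⟩
  refine ⟨hva.symm, fun hq => ?_⟩
  by_contra hcon
  rw [not_or] at hcon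
  refine hq (hva.1 ?_)
  rw [hOa', Finset.mem_sdiff, Finset.mem_erase, Finset.mem_union, not_or]
  exact ⟨⟨hv, Finset.mem_univ _⟩, hcon⟩

/-- The local data in the coordinates of the form. -/
theorem geo : Geo R (e.trans (AddEquiv.toMultiplicative toX)) := by
  obtain ⟨hm, hcls⟩ := h.orbits
  have key : ∀ r : ↥R, ∃ v : V, (r : G) = co e v ∧
      ((e.trans (AddEquiv.toMultiplicative toX)) r).toAdd = toX v ∧ (r ≠ 1 → v ≠ 0) := by
    intro r
    refine ⟨(e r).toAdd, by simp [co], rfl, fun hr h0 => hr ?_⟩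
    apply e.injective
    rw [map_one]
    exact Multiplicative.toAdd.injective h0
  have hne : ∀ {v : V}, qv (toX v) ≠ 0 → v ≠ 0 := fun hq e' => hq (by subst e'; simp [qv])
  refine ⟨h.card_G, h.cent, ?_, fun r hr g hg => ?_, fun r hr => ?_, fun r hr1 hr => ?_, ?_⟩
  · have h1 := (Subgroup.normalizer (R : Set G)).card_mul_index
    rw [hm, h.card_G] at h1
    omega
  · obtain ⟨v, hrv, hev, -⟩ := key r
    rw [hev] at hr
    rw [hrv] at hg
    have step : ∀ {u : V}, (∀ g : G, g * co e u * g⁻¹ ∈ R → g ∈ Subgroup.normalizer (R : Set G)) →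
        v ∈ orb e u → g ∈ Subgroup.normalizer (R : Set G) := by
      intro u huniq hv
      obtain ⟨k, hk, hkv⟩ := mem_orb.1 hv
      have h1 : g * k ∈ Subgroup.normalizer (R : Set G) := huniq _ (by
        rw [← hkv] at hg
        simpa [mul_assoc] using hg)
      simpa using mul_mem h1 (inv_mem hk)
    rcases (hcls v (hne hr)).2 hr with hc | hc
    exacts [step h.uniq_c hc, step h.uniq_d hc]
  · obtain ⟨v, hrv, hev, -⟩ := key r
    rw [hev] at hr
    rw [hrv]
    rcases (hcls v (hne hr)).2 hr with hc | hc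
    exacts [h.cent_of_mem_c hc, h.cent_of_mem_d hc]
  · obtain ⟨v, hrv, hev, hv0⟩ := key r
    rw [hev] at hr
    rw [hrv, ← card_cent_of_isConj (isConj_of_mem_orb ((hcls v (hv0 hr1)).1.1 hr)), h.cent_a]
  · intro r r' hr1 hr1' hr hr'
    obtain ⟨v, hrv, hev, hv0⟩ := key r
    obtain ⟨w, hrw, hew, hw0⟩ := key r'
    rw [hev] at hr
    rw [hew] at hr'
    rw [hrv, hrw]
    exact IsConj.trans (IsConj.symm (isConj_of_mem_orb ((hcls v (hv0 hr1)).1.1 hr)))
      (isConj_of_mem_orb ((hcls w (hw0 hr1')).1.1 hr'))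

/-- A simple group with the centralisers is the unitary group. -/
theorem nonempty_psu [IsSimpleGroup G] (K : Type) [Field K] [Fintype K] (hK : Fintype.card K = 9) :
    Nonempty (G ≃* Cfsg.PSU 4 K 3) :=
  h.geo.nonempty_psu K hK

end Local

end Cfsg.Agent.Lib.U43Graph14
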