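import Cfsg.Agent.Lib.U43Graph14.Final
import Cfsg.Agent.Lib.U43Graph14.Blocks

/-!
# The local data from the centralisers of three elements of order three

`Local R e` records, in coordinates `y`, the centralisers of `c = (1,0,0,0)`, `d = (0,1,0,0)` and
`a = (1,1,0,0)` and the alternating group on four letters fixing `c`. The normaliser of `R` then has index 112
and its orbits on the nontrivial elements of `R` are the three classes of sizes 30, 30 and 20, the last being
the set of zeros of an elliptic form.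
-/

set_option autoImplicit false
set_option linter.unusedSectionVars false

namespace Cfsg.Agent.Lib.U43Graph14

open Blocks

variable {G : Type*} [Group G]

/-- The centralisers of the three representatives and the action of their stabiliser. -/
structure Local (R : Subgroup G) (e : ↥R ≃* Multiplicative V) : Prop where
  card_G : Nat.card G = 3265920
  cent : Subgroup.centralizer (R : Set G) ≤ R
  cent_c : Nat.card (Subgroup.centralizer ({co e (rep 0)} : Set G)) = 972
  cent_d : Nat.card (Subgroup.centralizer ({co e (rep 1)} : Set G)) = 972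
  cent_a : Nat.card (Subgroup.centralizer ({co e (rep 2)} : Set G)) = 5832
  uniq_c : ∀ g : G, g * co e (rep 0) * g⁻¹ ∈ R → g ∈ Subgroup.normalizer (R : Set G)
  uniq_d : ∀ g : G, g * co e (rep 1) * g⁻¹ ∈ R → g ∈ Subgroup.normalizer (R : Set G)
  not_conj : ¬ IsConj (co e (rep 0)) (co e (rep 1))
  inv_c : IsConj (co e (rep 0)) (co e (rep 0))⁻¹
  inv_d : IsConj (co e (rep 1)) (co e (rep 1))⁻¹
  exists_rot : ∃ t : G, ∀ v, t * co e v * t⁻¹ = co e (rot v)
  exists_flip : ∃ s : G, ∀ v, s * co e v * s⁻¹ = co e (flip v)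
  not_four : ¬ 4 ∣ Nat.card ↥(Subgroup.centralizer ({co e (rep 2)} : Set G) ⊓
    Subgroup.normalizer (R : Set G))

variable {R : Subgroup G} {e : ↥R ≃* Multiplicative V}

theorem mem_normalizer_of_map {t : G} {f : V → V} (hf : Function.Surjective f)
    (ht : ∀ v, t * co e v * t⁻¹ = co e (f v)) : t ∈ Subgroup.normalizer (R : Set G) := by
  refine Subgroup.mem_normalizer_iff.2 fun x => ⟨fun hx => ?_, fun hx => ?_⟩
  · obtain ⟨v, rfl⟩ := exists_co (e := e) hx
    rw [ht]; exact co_mem _
  · obtain ⟨w, hw⟩ := exists_co (e := e) hx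
    obtain ⟨v, rfl⟩ := hf w
    rw [← ht, mul_left_inj, mul_right_inj] at hw
    rw [hw]; exact co_mem _

open scoped Classical in
/-- The orbit of a vector under the normaliser. -/
noncomputable def orb (e : ↥R ≃* Multiplicative V) (u : V) : Finset V :=
  Finset.univ.filter fun v => ∃ g ∈ Subgroup.normalizer (R : Set G), g * co e u * g⁻¹ = co e v

theorem mem_orb {u v : V} :
    v ∈ orb e u ↔ ∃ g ∈ Subgroup.normalizer (R : Set G), g * co e u * g⁻¹ = co e v := by
  simp [orb]

theorem self_mem_orb (u : V) : u ∈ orb e u := mem_orb.2 ⟨1, one_mem _, by group⟩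

theorem orb_trans {u v w : V} (hv : v ∈ orb e u) (hw : w ∈ orb e v) : w ∈ orb e u := by
  obtain ⟨g, hg, hgv⟩ := mem_orb.1 hv
  obtain ⟨g', hg', hgw⟩ := mem_orb.1 hw
  refine mem_orb.2 ⟨g' * g, mul_mem hg' hg, ?_⟩
  rw [← hgw, ← hgv]; group

theorem orb_symm {u v : V} (hv : v ∈ orb e u) : u ∈ orb e v := by
  obtain ⟨g, hg, hgv⟩ := mem_orb.1 hv
  refine mem_orb.2 ⟨g⁻¹, inv_mem hg, ?_⟩
  rw [← hgv]; group

theorem orb_neg {u v : V} (hv : v ∈ orb e u) : -v ∈ orb e (-u) := by
  obtain ⟨g, hg, hgv⟩ := mem_orb.1 hv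
  refine mem_orb.2 ⟨g, hg, ?_⟩
  rw [co_neg, co_neg, ← hgv]; group

theorem isConj_of_mem_orb {u v : V} (hv : v ∈ orb e u) : IsConj (co e u) (co e v) := by
  obtain ⟨g, -, hgv⟩ := mem_orb.1 hv
  exact isConj_iff.2 ⟨g, hgv⟩

theorem zero_notMem_orb {u : V} (hu : u ≠ 0) : (0 : V) ∉ orb e u := by
  intro h
  obtain ⟨g, -, hg⟩ := mem_orb.1 h
  rw [co_zero] at hg
  exact hu (co_eq_one (conj_eq_one_iff.1 hg))

theorem card_cent_of_isConj [Finite G] {x y : G} (h : IsConj x y) :
    Nat.card (Subgroup.centralizer ({x} : Set G)) = Nat.card (Subgroup.centralizer ({y} : Set G)) := by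
  have h1 := SmallGroups.Counting.card_isConj_mul x
  have h2 := SmallGroups.Counting.card_isConj_mul y
  have heq : Nat.card {z : G // IsConj x z} = Nat.card {z : G // IsConj y z} :=
    Nat.card_congr (Equiv.subtypeEquivRight fun z =>
      ⟨fun a => IsConj.trans (IsConj.symm h) a, fun a => IsConj.trans h a⟩)
  rw [heq, ← h2] at h1
  have : Nonempty {z : G // IsConj y z} := ⟨⟨y, IsConj.refl y⟩⟩
  exact Nat.eq_of_mul_eq_mul_left Nat.card_pos h1

theorem card_orb_mul [Finite G] (u : V) :
    (orb e u).card * Nat.card ↥(Subgroup.centralizer ({co e u} : Set G) ⊓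
      Subgroup.normalizer (R : Set G)) = Nat.card (Subgroup.normalizer (R : Set G)) := by
  classical
  set N := Subgroup.normalizer (R : Set G)
  set C := Subgroup.centralizer ({co e u} : Set G)
  have hw : ∀ n : N, ∃ w ∈ orb e u, (n : G) * co e u * (n : G)⁻¹ = co e w := fun n => by
    obtain ⟨w, hw⟩ := exists_co (e := e) ((Subgroup.mem_normalizer_iff.1 n.2 _).1 (co_mem u))
    exact ⟨w, mem_orb.2 ⟨n, n.2, hw⟩, hw⟩
  choose w hwS hw using hw
  let f : ↥N ⧸ C.subgroupOf N → orb e u := Quotient.lift (fun n => ⟨w n, hwS n⟩) (by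
    intro a b hab
    refine Subtype.ext (co_injective (e := e) ?_)
    show co e (w a) = co e (w b)
    rw [← hw, ← hw]
    have hc := Subgroup.mem_centralizer_singleton_iff.1 (QuotientGroup.leftRel_apply.1 hab : _)
    change (a : G)⁻¹ * (b : G) * co e u = co e u * ((a : G)⁻¹ * (b : G)) at hc
    calc (a : G) * co e u * (a : G)⁻¹ = (a : G) * (co e u * ((a : G)⁻¹ * (b : G))) * (b : G)⁻¹ := by group
      _ = (a : G) * ((a : G)⁻¹ * (b : G) * co e u) * (b : G)⁻¹ := by rw [hc]
      _ = _ := by group)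
  have hf : Function.Bijective f := by
    constructor
    · intro a b
      induction a using QuotientGroup.induction_on with
      | H a => induction b using QuotientGroup.induction_on with
        | H b =>
          intro hab
          have hab' : co e (w a) = co e (w b) := congrArg (fun x : orb e u => co e x.1) hab
          rw [← hw, ← hw] at hab'
          refine QuotientGroup.eq.2 (Subgroup.mem_centralizer_singleton_iff.2 ?_)
          change (a : G)⁻¹ * (b : G) * co e u = co e u * ((a : G)⁻¹ * (b : G))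
          calc (a : G)⁻¹ * (b : G) * co e u = (a : G)⁻¹ * ((b : G) * co e u * (b : G)⁻¹) * (b : G) := by group
            _ = (a : G)⁻¹ * ((a : G) * co e u * (a : G)⁻¹) * (b : G) := by rw [hab']
            _ = _ := by group
    · rintro ⟨v, hv⟩
      obtain ⟨g, hg, hgv⟩ := mem_orb.1 hv
      refine ⟨((⟨g, hg⟩ : N) : ↥N ⧸ C.subgroupOf N), Subtype.ext (co_injective (e := e) ?_)⟩
      exact (hw ⟨g, hg⟩).symm.trans hgv
  have h1 := (C.subgroupOf N).card_mul_index
  rw [Subgroup.index, Nat.card_congr (Equiv.ofBijective f hf), Nat.card_eq_fintype_card (α := orb e u),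
    Fintype.card_coe] at h1
  rw [← h1, mul_comm]
  congr 1
  exact Nat.card_congr
    { toFun := fun x => ⟨⟨x.1, x.2.2⟩, x.2.1⟩
      invFun := fun x => ⟨x.1.1, x.2, x.1.2⟩
      left_inv := fun _ => rfl
      right_inv := fun _ => rfl }

end Cfsg.Agent.Lib.U43Graph14
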