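import Cfsg.Agent.Lib.U43Graph14.Coord
import Cfsg.Agent.Lib.SmallGroups.Counting

/-!
# The conjugates of the elementary subgroup of order 81

`Geo R e` collects the local data; the points are the cosets of the normaliser, two of them being adjacent if
their subgroups meet in a group of order three.
-/

set_option autoImplicit false
set_option maxRecDepth 20000
set_option linter.unusedSectionVars false

namespace Cfsg.Agent.Lib.U43Graph14

open Subgroup

variable {G : Type*} [Group G]

/-- The local data at a subgroup of order 81. -/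
structure Geo (R : Subgroup G) (e : ↥R ≃* Multiplicative V) : Prop where
  card_G : Nat.card G = 3265920
  cent : Subgroup.centralizer (R : Set G) ≤ R
  index_N : (Subgroup.normalizer (R : Set G)).index = 112
  uniq : ∀ r : ↥R, qv (e r).toAdd ≠ 0 → ∀ g : G, g * (r : G) * g⁻¹ ∈ R → g ∈ Subgroup.normalizer (R : Set G)
  card_nonsing : ∀ r : ↥R, qv (e r).toAdd ≠ 0 → Nat.card (Subgroup.centralizer ({(r : G)} : Set G)) = 972
  card_sing : ∀ r : ↥R, r ≠ 1 → qv (e r).toAdd = 0 →
    Nat.card (Subgroup.centralizer ({(r : G)} : Set G)) = 5832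
  conj_sing : ∀ r r' : ↥R, r ≠ 1 → r' ≠ 1 → qv (e r).toAdd = 0 → qv (e r').toAdd = 0 →
    IsConj (r : G) (r' : G)

variable {R : Subgroup G} {e : ↥R ≃* Multiplicative V}

/-- The element with given coordinates. -/
def co (e : ↥R ≃* Multiplicative V) (v : V) : G := (e.symm (Multiplicative.ofAdd v) : G)

theorem co_mem (v : V) : co e v ∈ R := SetLike.coe_mem _

theorem co_zero : co e 0 = 1 := by simp [co]

theorem co_add (u v : V) : co e (u + v) = co e u * co e v := by
  simp [co, ofAdd_add]

theorem co_neg (u : V) : co e (-u) = (co e u)⁻¹ := by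
  simp [co, ofAdd_neg]

theorem co_injective : Function.Injective (co e) := fun u v h => by
  have h' : e.symm (Multiplicative.ofAdd u) = e.symm (Multiplicative.ofAdd v) := Subtype.ext h
  exact Multiplicative.ofAdd.injective (e.symm.injective h')

theorem exists_co {x : G} (hx : x ∈ R) : ∃ v, x = co e v :=
  ⟨(e ⟨x, hx⟩).toAdd, by simp [co]⟩

theorem co_comm (u v : V) : co e u * co e v = co e v * co e u := by
  rw [← co_add, ← co_add, add_comm]

theorem card_R (_e : ↥R ≃* Multiplicative V) : Nat.card R = 81 := by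
  rw [Nat.card_congr _e.toEquiv, Nat.card_congr Multiplicative.toAdd]
  simp

theorem co_eq_one {v : V} (h : co e v = 1) : v = 0 := co_injective (h.trans co_zero.symm)

/-- The coordinates of a subgroup inside `R`. -/
def vecs (e : ↥R ≃* Multiplicative V) (H : Subgroup G) : AddSubgroup V where
  carrier := {v | co e v ∈ H}
  zero_mem' := by simp [co_zero]
  add_mem' {a b} ha hb := by
    show co e (a + b) ∈ H
    rw [co_add]; exact mul_mem ha hb
  neg_mem' {a} ha := by
    show co e (-a) ∈ H
    rw [co_neg]; exact inv_mem ha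

theorem mem_vecs {H : Subgroup G} {v : V} : v ∈ vecs e H ↔ co e v ∈ H := Iff.rfl

theorem card_vecs {H : Subgroup G} (hH : H ≤ R) : Nat.card (vecs e H) = Nat.card H :=
  Nat.card_congr
    { toFun := fun v => ⟨co e v.1, v.2⟩
      invFun := fun x => ⟨(e ⟨x.1, hH x.2⟩).toAdd, by rw [mem_vecs]; simpa [co] using x.2⟩
      left_inv := fun v => Subtype.ext (by simp [co])
      right_inv := fun x => Subtype.ext (by simp [co]) }

/-- The type of the points. -/
abbrev Pt (R : Subgroup G) : Type _ := G ⧸ Subgroup.normalizer (R : Set G)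

/-- The base point. -/
abbrev base (R : Subgroup G) : Pt R := ((1 : G) : Pt R)

/-- The subgroup of a point. -/
def grp (p : Pt R) : Subgroup G :=
  Quotient.liftOn' p (fun g => R.map (MulAut.conj g).toMonoidHom) fun a b h => by
    have h' := QuotientGroup.leftRel_apply.1 h
    have hm : R.map (MulAut.conj (a⁻¹ * b)).toMonoidHom = R := by
      ext x
      simp only [Subgroup.mem_map, MulEquiv.coe_toMonoidHom, MulAut.conj_apply]
      constructor
      · rintro ⟨y, hy, rfl⟩
        exact (Subgroup.mem_normalizer_iff.1 h' y).1 hy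
      · intro hx
        refine ⟨(a⁻¹ * b)⁻¹ * x * (a⁻¹ * b), ?_, by group⟩
        have := (Subgroup.mem_normalizer_iff.1 (inv_mem h') x).1 hx
        simpa using this
    show R.map _ = R.map _
    conv_lhs => rw [← hm]
    rw [Subgroup.map_map]
    congr 1
    ext x
    simp [mul_assoc]

theorem mem_grp_mk {g x : G} : x ∈ grp ((g : Pt R)) ↔ g⁻¹ * x * g ∈ R := by
  show x ∈ R.map _ ↔ _
  rw [Subgroup.mem_map]
  constructor
  · rintro ⟨y, hy, rfl⟩
    simpa [mul_assoc] using hy
  · intro h
    exact ⟨_, h, by simp [mul_assoc]⟩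

theorem mem_grp_smul {g x : G} {p : Pt R} : x ∈ grp (g • p) ↔ g⁻¹ * x * g ∈ grp p := by
  induction p using QuotientGroup.induction_on with
  | H a =>
    rw [show g • ((a : Pt R)) = ((g * a : G) : Pt R) from rfl, mem_grp_mk, mem_grp_mk, mul_inv_rev]
    simp [mul_assoc]

theorem grp_base : grp (base R) = R := by
  ext x; rw [mem_grp_mk]; simp

theorem grp_comm {p : Pt R} {x y : G} (e : ↥R ≃* Multiplicative V) (hx : x ∈ grp p) (hy : y ∈ grp p) :
    x * y = y * x := by
  induction p using QuotientGroup.induction_on with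
  | H a =>
    rw [mem_grp_mk] at hx hy
    obtain ⟨u, hu⟩ := exists_co (e := e) hx
    obtain ⟨v, hv⟩ := exists_co (e := e) hy
    have h := co_comm (e := e) u v
    rw [← hu, ← hv] at h
    calc x * y = a * (a⁻¹ * x * a * (a⁻¹ * y * a)) * a⁻¹ := by group
      _ = a * (a⁻¹ * y * a * (a⁻¹ * x * a)) * a⁻¹ := by rw [h]
      _ = y * x := by group

theorem card_grp (e : ↥R ≃* Multiplicative V) (p : Pt R) : Nat.card (grp p) = 81 := by
  induction p using QuotientGroup.induction_on with
  | H a =>
    show Nat.card (R.map _) = 81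
    rw [Subgroup.card_map_of_injective (MulAut.conj a).injective, card_R e]

/-- Adjacency. -/
def Adj (p q : Pt R) : Prop := Nat.card ↥(grp p ⊓ grp q) = 3

theorem Adj.symm {p q : Pt R} (h : Adj p q) : Adj q p := by rwa [Adj, inf_comm]

theorem grp_smul_inf (g : G) (p q : Pt R) :
    grp (g • p) ⊓ grp (g • q) = (grp p ⊓ grp q).map (MulAut.conj g).toMonoidHom := by
  ext x
  simp only [Subgroup.mem_inf, mem_grp_smul, Subgroup.mem_map, MulEquiv.coe_toMonoidHom, MulAut.conj_apply]
  constructor
  · intro h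
    exact ⟨_, h, by group⟩
  · rintro ⟨y, hy, rfl⟩
    simpa [mul_assoc] using hy

theorem adj_smul {g : G} {p q : Pt R} : Adj (g • p) (g • q) ↔ Adj p q := by
  rw [Adj, Adj, grp_smul_inf, Subgroup.card_map_of_injective (MulAut.conj g).injective]

theorem exists_smul_base (p : Pt R) : ∃ g : G, g • base R = p := by
  induction p using QuotientGroup.induction_on with
  | H a => exact ⟨a, by rw [show a • base R = ((a * 1 : G) : Pt R) from rfl, mul_one]⟩

theorem smul_base_eq {g : G} : g • base R = base R ↔ g ∈ Subgroup.normalizer (R : Set G) := by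
  rw [show g • base R = ((g * 1 : G) : Pt R) from rfl, mul_one, eq_comm, QuotientGroup.eq, inv_one, one_mul]

/-- The singular elements of the group. -/
def Sing (e : ↥R ≃* Multiplicative V) (x : G) : Prop := IsConj (co e (pts 0)) x

theorem Sing.conj {x : G} (h : Sing e x) (g : G) : Sing e (g * x * g⁻¹) :=
  IsConj.trans h (isConj_iff.2 ⟨g, rfl⟩)

namespace Geo

variable [Finite G] (h : Geo R e)
include h

theorem card_cent_co {v : V} (hv : qv v ≠ 0) :
    Nat.card (Subgroup.centralizer ({co e v} : Set G)) = 972 :=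
  h.card_nonsing (e.symm (Multiplicative.ofAdd v)) (by simpa using hv)

theorem card_cent_co_sing {v : V} (hv : qv v = 0) (hv0 : v ≠ 0) :
    Nat.card (Subgroup.centralizer ({co e v} : Set G)) = 5832 :=
  h.card_sing (e.symm (Multiplicative.ofAdd v)) (by simpa using hv0) (by simpa using hv)

theorem sing_co {v : V} : Sing e (co e v) ↔ v ≠ 0 ∧ qv v = 0 := by
  constructor
  · intro hs
    have hcard : Nat.card (Subgroup.centralizer ({co e v} : Set G)) = 5832 := by
      obtain ⟨g, hg⟩ := isConj_iff.1 hs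
      rw [← h.card_cent_co_sing (qv_pts 0).1 (qv_pts 0).2, ← hg]
      refine Nat.card_congr
        { toFun := fun c => ⟨g⁻¹ * c * g, ?_⟩
          invFun := fun c => ⟨g * c * g⁻¹, ?_⟩
          left_inv := fun c => Subtype.ext (by group)
          right_inv := fun c => Subtype.ext (by group) }
      · refine Subgroup.mem_centralizer_singleton_iff.2 ?_
        have hc := Subgroup.mem_centralizer_singleton_iff.1 c.2
        calc g⁻¹ * (c : G) * g * co e (pts 0) = g⁻¹ * ((c : G) * (g * co e (pts 0) * g⁻¹)) * g := by group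
          _ = g⁻¹ * (g * co e (pts 0) * g⁻¹ * (c : G)) * g := by rw [hc]
          _ = _ := by group
      · refine Subgroup.mem_centralizer_singleton_iff.2 ?_
        have hc := Subgroup.mem_centralizer_singleton_iff.1 c.2
        calc g * (c : G) * g⁻¹ * (g * co e (pts 0) * g⁻¹) = g * ((c : G) * co e (pts 0)) * g⁻¹ := by group
          _ = g * (co e (pts 0) * (c : G)) * g⁻¹ := by rw [hc]
          _ = _ := by group
    refine ⟨?_, ?_⟩
    · rintro rfl
      rw [co_zero] at hs
      have := isConj_one_left.1 hs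
      exact (qv_pts 0).2 (co_eq_one this)
    · by_contra hq
      rw [h.card_cent_co hq] at hcard
      norm_num at hcard
  · rintro ⟨hv0, hq⟩
    exact h.conj_sing (e.symm (Multiplicative.ofAdd (pts 0))) (e.symm (Multiplicative.ofAdd v))
      (by simpa using (qv_pts 0).2) (by simpa using hv0) (by simpa using (qv_pts 0).1) (by simpa using hq)

theorem mem_normalizer_of_cent {v : V} (hv : qv v ≠ 0) {g : G} (hg : g * co e v * g⁻¹ ∈ R) :
    g ∈ Subgroup.normalizer (R : Set G) :=
  h.uniq (e.symm (Multiplicative.ofAdd v)) (by simpa using hv) g hg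

theorem eq_base_of_mem {v : V} (hv : qv v ≠ 0) {p : Pt R} (hp : co e v ∈ grp p) : p = base R := by
  obtain ⟨g, rfl⟩ := exists_smul_base p
  rw [mem_grp_smul, grp_base] at hp
  exact smul_base_eq.2 ((inv_inv g) ▸ inv_mem (h.mem_normalizer_of_cent hv (g := g⁻¹) (by simpa using hp)))

theorem sing_of_mem_inf {p q : Pt R} (hne : p ≠ q) {x : G} (hx : x ∈ grp p ⊓ grp q) (hx1 : x ≠ 1) :
    Sing e x := by
  obtain ⟨g, rfl⟩ := exists_smul_base p
  obtain ⟨h1, h2⟩ := Subgroup.mem_inf.1 hx
  rw [mem_grp_smul, grp_base] at h1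
  obtain ⟨v, hv⟩ := exists_co (e := e) h1
  have hx' : x = g * co e v * g⁻¹ := by rw [← hv]; group
  have hv0 : v ≠ 0 := by rintro rfl; exact hx1 (by rw [hx', co_zero]; group)
  by_cases hq : qv v = 0
  · rw [hx']; exact (h.sing_co.2 ⟨hv0, hq⟩).conj g
  · exfalso
    have h3 : co e v ∈ grp (g⁻¹ • q) := by
      have h4 := h2
      rw [hx'] at h4
      rw [mem_grp_smul]
      simpa [mul_assoc] using h4
    exact hne (by rw [← h.eq_base_of_mem hq h3, smul_inv_smul])

theorem card_inf_le {p q : Pt R} (hne : p ≠ q) : Nat.card ↥(grp p ⊓ grp q) ≤ 3 := by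
  obtain ⟨g, rfl⟩ := exists_smul_base p
  have hq : g • (g⁻¹ • q) = q := smul_inv_smul g q
  rw [← hq, grp_smul_inf, Subgroup.card_map_of_injective (MulAut.conj g).injective, grp_base,
    ← card_vecs (e := e) inf_le_left]
  refine card_le_three _ fun v hv => ?_
  by_cases hv0 : v = 0
  · subst hv0; simp [qv]
  refine (h.sing_co.1 (h.sing_of_mem_inf (p := base R) (q := g⁻¹ • q) ?_ ?_ ?_)).2
  · intro e'; exact hne (by rw [e', smul_inv_smul])
  · rw [grp_base]; exact hv
  · exact fun h1 => hv0 (co_eq_one h1)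

theorem dvd_card_inf (p q : Pt R) : Nat.card ↥(grp p ⊓ grp q) ∣ 81 := by
  rw [← card_grp e p]; exact Subgroup.card_dvd_of_le inf_le_left

theorem adj_iff {p q : Pt R} (hne : p ≠ q) : Adj p q ↔ ∃ x ∈ grp p ⊓ grp q, x ≠ 1 := by
  constructor
  · intro ha
    have : grp p ⊓ grp q ≠ ⊥ := fun hb => by rw [Adj, hb, Subgroup.card_bot] at ha; norm_num at ha
    obtain ⟨x, hx, hx1⟩ := (Subgroup.ne_bot_iff_exists_ne_one.1 this : ∃ a : ↥(grp p ⊓ grp q), a ≠ 1) |>.elim
      (fun a ha => (⟨a.1, a.2, fun h1 => ha (Subtype.ext h1)⟩ : ∃ x, x ∈ grp p ⊓ grp q ∧ x ≠ 1))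
    exact ⟨x, hx, hx1⟩
  · rintro ⟨x, hx, hx1⟩
    have h1 : Nat.card ↥(grp p ⊓ grp q) ≠ 1 := fun hc =>
      hx1 (Subgroup.mem_bot.1 ((Subgroup.card_eq_one.1 hc) ▸ hx))
    have h2 := h.card_inf_le hne
    have h3 := h.dvd_card_inf p q
    have h0 : 0 < Nat.card ↥(grp p ⊓ grp q) := Nat.card_pos
    rw [Adj]
    interval_cases (Nat.card ↥(grp p ⊓ grp q)) <;> first | rfl | omega

theorem not_adj_self (p : Pt R) : ¬ Adj p p := by
  rw [Adj, inf_idem, card_grp e]; norm_num

theorem card_Pt : Nat.card (Pt R) = 112 := h.index_N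

theorem card_N : Nat.card (Subgroup.normalizer (R : Set G)) = 29160 := by
  have := (Subgroup.normalizer (R : Set G)).card_mul_index
  rw [h.index_N, h.card_G] at this
  omega

/-- A singular element lies in four of the subgroups. -/
theorem card_contain {x : G} (hx : Sing e x) : Nat.card {p : Pt R // x ∈ grp p} = 4 := by
  classical
  have : Fintype G := Fintype.ofFinite G
  have hconst : ∀ y : {y : G // Sing e y}, Nat.card {p : Pt R // (y : G) ∈ grp p} =
      Nat.card {p : Pt R // x ∈ grp p} := by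
    intro y
    obtain ⟨g, hg⟩ := isConj_iff.1 (IsConj.trans (IsConj.symm hx) y.2)
    refine Nat.card_congr ((MulAction.toPerm (g⁻¹ : G) : Equiv.Perm (Pt R)).subtypeEquiv fun p => ?_)
    rw [MulAction.toPerm_apply, mem_grp_smul, inv_inv, hg]
  have hclass : Nat.card {y : G // Sing e y} = 560 := by
    have h1 := SmallGroups.Counting.card_isConj_mul (co e (pts 0))
    rw [h.card_cent_co_sing (qv_pts 0).1 (qv_pts 0).2, h.card_G] at h1
    show Nat.card {y : G // IsConj (co e (pts 0)) y} = 560
    omega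
  have hper : ∀ p : Pt R, Nat.card {y : {y : G // Sing e y} // (y : G) ∈ grp p} = 20 := by
    intro p
    obtain ⟨g, rfl⟩ := exists_smul_base p
    have h20 : Nat.card {v : V // v ≠ 0 ∧ qv v = 0} = 20 := by
      rw [Nat.card_eq_fintype_card, Fintype.card_subtype]; exact U43Graph14.card_sing
    rw [← h20]
    symm
    refine Nat.card_congr
      { toFun := fun v => ⟨⟨g * co e v.1 * g⁻¹, (h.sing_co.2 v.2).conj g⟩, ?_⟩
        invFun := fun y => ⟨(e ⟨g⁻¹ * y.1.1 * g, ?_⟩).toAdd, ?_⟩
        left_inv := fun v => Subtype.ext (by simp [co, mul_assoc])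
        right_inv := fun y => Subtype.ext (Subtype.ext (by simp [co, mul_assoc])) }
    · show g * co e v.1 * g⁻¹ ∈ grp (g • base R)
      rw [mem_grp_smul, grp_base]; simpa [mul_assoc] using co_mem v.1
    · have := y.2; rwa [mem_grp_smul, grp_base] at this
    · refine h.sing_co.1 ?_
      have := y.1.2.conj g⁻¹
      simpa [co, mul_assoc] using this
  have hswap : Nat.card (Σ y : {y : G // Sing e y}, {p : Pt R // (y : G) ∈ grp p}) =
      Nat.card (Σ p : Pt R, {y : {y : G // Sing e y} // (y : G) ∈ grp p}) :=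
    Nat.card_congr
      { toFun := fun a => ⟨a.2.1, ⟨a.1, a.2.2⟩⟩
        invFun := fun b => ⟨b.2.1, ⟨b.1, b.2.2⟩⟩
        left_inv := fun _ => rfl
        right_inv := fun _ => rfl }
  have : Fintype (Pt R) := Fintype.ofFinite _
  rw [Nat.card_sigma, Nat.card_sigma, Finset.sum_congr rfl fun y _ => hconst y,
    Finset.sum_congr rfl fun p _ => hper p, Finset.sum_const, Finset.sum_const, smul_eq_mul, smul_eq_mul,
    Finset.card_univ, Finset.card_univ, ← Nat.card_eq_fintype_card, ← Nat.card_eq_fintype_card, hclass,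
    h.card_Pt] at hswap
  omega

/-- An element of exponent three centralising two singular lines of `R` and normalising `R` lies in `R`. -/
theorem mem_R_of_fix {s : G} (hs : s ∈ Subgroup.normalizer (R : Set G)) (h3 : s ^ 3 = 1)
    {i j : Fin 10} (hij : i ≠ j) (hi : s * co e (pts i) = co e (pts i) * s)
    (hj : s * co e (pts j) = co e (pts j) * s) : s ∈ R := by
  have hstab : ∀ v, ∃ w, s * co e v * s⁻¹ = co e w := fun v =>
    exists_co ((Subgroup.mem_normalizer_iff.1 hs _).1 (co_mem v))
  choose T hT using hstab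
  have hadd : ∀ u v, T (u + v) = T u + T v := fun u v => co_injective (e := e) (by
    rw [co_add, ← hT, ← hT, ← hT, co_add]; group)
  have hT3 : ∀ v, T (T (T v)) = v := fun v => co_injective (e := e) (by
    rw [← hT, ← hT, ← hT]
    calc s * (s * (s * co e v * s⁻¹) * s⁻¹) * s⁻¹ = s ^ 3 * co e v * (s ^ 3)⁻¹ := by
          simp [pow_succ, mul_assoc]
      _ = co e v := by rw [h3]; group)
  let T' : V ≃+ V :=
    { toFun := T
      invFun := fun v => T (T v)
      left_inv := hT3
      right_inv := hT3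
      map_add' := hadd }
  have hq : ∀ v, qv (T' v) = 0 ↔ qv v = 0 := by
    intro v
    show qv (T v) = 0 ↔ _
    by_cases hv : v = 0
    · subst hv
      have : T 0 = 0 := co_injective (e := e) (by rw [← hT, co_zero]; group)
      rw [this]
    have hTv : T v ≠ 0 := fun h0 => hv (T'.injective (h0.trans (map_zero T').symm))
    have e1 : Sing e (co e (T v)) ↔ Sing e (co e v) := by
      rw [← hT]
      exact ⟨fun hx => by simpa [mul_assoc] using hx.conj s⁻¹, fun hx => hx.conj s⟩
    rw [h.sing_co, h.sing_co] at e1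
    exact ⟨fun a => (e1.1 ⟨hTv, a⟩).2, fun a => (e1.2 ⟨hv, a⟩).2⟩
  have hfix : ∀ {k : Fin 10}, s * co e (pts k) = co e (pts k) * s → T' (pts k) = pts k := fun hk =>
    co_injective (e := e) (by
      show co e (T _) = _
      rw [← hT, hk]; group)
  have hid := eq_id_of_fix T' hT3 hq i j hij (hfix hi) (hfix hj)
  refine h.cent (Subgroup.mem_centralizer_iff.2 fun x hx => ?_)
  obtain ⟨v, rfl⟩ := exists_co (e := e) hx
  have e1 : s * co e v * s⁻¹ = co e v := by rw [hT]; exact congrArg (co e) (hid v)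
  calc co e v * s = s * co e v * s⁻¹ * s := by rw [e1]
    _ = s * co e v := by group

/-- Two neighbours of the base point are adjacent only inside a line. -/
theorem triangle_base {p q : Pt R} (hp : Adj (base R) p) (hq : Adj (base R) q) (hpq : Adj p q) :
    R ⊓ grp p = R ⊓ grp q := by
  have hp' : base R ≠ p := fun e' => h.not_adj_self _ (e' ▸ hp)
  have hq' : base R ≠ q := fun e' => h.not_adj_self _ (e' ▸ hq)
  have hne : p ≠ q := fun e' => h.not_adj_self _ (e' ▸ hpq)
  have get : ∀ {r : Pt R}, base R ≠ r → Adj (base R) r →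
      ∃ i, co e (pts i) ∈ grp r ∧ ∀ v, co e v ∈ grp r → v = 0 ∨ v = pts i ∨ v = -pts i := by
    intro r hr ha
    obtain ⟨x, hx, hx1⟩ := (h.adj_iff hr).1 ha
    obtain ⟨v, rfl⟩ := exists_co (e := e) (grp_base (R := R) ▸ (Subgroup.mem_inf.1 hx).1)
    obtain ⟨hv0, hqv⟩ := h.sing_co.1 (h.sing_of_mem_inf hr hx hx1)
    obtain ⟨i, hi⟩ := sing_cases v hqv hv0
    have hiv : co e (pts i) ∈ grp r := by
      rcases hi with rfl | rfl
      · exact (Subgroup.mem_inf.1 hx).2
      · simpa [co_neg] using (Subgroup.mem_inf.1 hx).2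
    refine ⟨i, hiv, fun w hw => ?_⟩
    by_cases hw0 : w = 0
    · exact Or.inl hw0
    right
    have hwi : co e w ∈ grp (base R) ⊓ grp r := ⟨by rw [grp_base]; exact co_mem w, hw⟩
    have hws := h.sing_co.1 (h.sing_of_mem_inf hr hwi fun h1 => hw0 (co_eq_one h1))
    rcases sing_bv (qv_pts i).1 (qv_pts i).2 hws.2 hws.1 with hb | hb
    · exfalso
      have hsum : co e (pts i + w) ∈ grp r := by rw [co_add]; exact mul_mem hiv hw
      refine hr (h.eq_base_of_mem (v := pts i + w) ?_ hsum).symm
      rwa [qv_add, (qv_pts i).1, hws.2, zero_add, zero_add]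
    · exact hb
  obtain ⟨i, hip, hiu⟩ := get hp' hp
  obtain ⟨j, hjq, hju⟩ := get hq' hq
  by_cases hij : i = j
  · subst hij
    ext x
    simp only [Subgroup.mem_inf]
    constructor <;> rintro ⟨hxR, hx⟩ <;> obtain ⟨v, rfl⟩ := exists_co (e := e) hxR <;>
      refine ⟨hxR, ?_⟩
    · rcases hiu v hx with rfl | rfl | rfl
      · rw [co_zero]; exact one_mem _
      · exact hjq
      · rw [co_neg]; exact inv_mem hjq
    · rcases hju v hx with rfl | rfl | rfl
      · rw [co_zero]; exact one_mem _
      · exact hip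
      · rw [co_neg]; exact inv_mem hip
  exfalso
  obtain ⟨s, hs, hs1⟩ := (h.adj_iff hne).1 hpq
  obtain ⟨hsp, hsq⟩ := Subgroup.mem_inf.1 hs
  have hci : s * co e (pts i) = co e (pts i) * s := grp_comm e hsp hip
  have hcj : s * co e (pts j) = co e (pts j) * s := grp_comm e hsq hjq
  have hns : qv (pts i + pts j) ≠ 0 := by
    rw [qv_add, (qv_pts i).1, (qv_pts j).1, zero_add, zero_add]; exact bv_ne_zero i j hij
  have hsN : s ∈ Subgroup.normalizer (R : Set G) := by
    refine h.mem_normalizer_of_cent hns ?_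
    rw [co_add, ← mul_assoc, hci, mul_assoc (co e (pts i)), hcj]
    simpa [mul_assoc] using R.mul_mem (co_mem (e := e) (pts i)) (co_mem (e := e) (pts j))
  have h3 : s ^ 3 = 1 := by
    obtain ⟨g, rfl⟩ := exists_smul_base p
    rw [mem_grp_smul, grp_base] at hsp
    obtain ⟨v, hv⟩ := exists_co (e := e) hsp
    have e1 : s = g * co e v * g⁻¹ := by rw [← hv]; group
    have e3 : co e v ^ 3 = 1 := by
      rw [pow_succ, pow_succ, pow_one, ← co_add, ← co_add,
        (by decide +kernel : ∀ v : V, v + v + v = 0) v, co_zero]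
    rw [e1, conj_pow, e3]; group
  have hsR := h.mem_R_of_fix hsN h3 hij hci hcj
  obtain ⟨v, rfl⟩ := exists_co (e := e) hsR
  rcases hiu v hsp with rfl | rfl | rfl
  · exact hs1 co_zero
  · rcases hju _ hsq with e' | e'
    · exact (qv_pts i).2 e'
    · exact hij (pts_injective i j e')
  · rcases hju _ hsq with e' | e' | e'
    · exact (qv_pts i).2 (neg_eq_zero.1 e')
    · exact hij (pts_injective i j (Or.inr (by rw [← e', neg_neg])))
    · exact hij (pts_injective i j (Or.inl (neg_injective e')))

/-- Three pairwise adjacent points share their intersection. -/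
theorem triangle {m p q : Pt R} (hp : Adj m p) (hq : Adj m q) (hpq : Adj p q) :
    grp m ⊓ grp p = grp m ⊓ grp q := by
  obtain ⟨g, rfl⟩ := exists_smul_base m
  obtain ⟨p, rfl⟩ : ∃ p', g • p' = p := ⟨_, smul_inv_smul g p⟩
  obtain ⟨q, rfl⟩ : ∃ q', g • q' = q := ⟨_, smul_inv_smul g q⟩
  rw [adj_smul] at hp hq hpq
  rw [grp_smul_inf, grp_smul_inf, grp_base, h.triangle_base hp hq hpq]

end Geo

end Cfsg.Agent.Lib.U43Graph14
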