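import Mathlib

/-!
# Simplicity from the centraliser of an involution

One class of involutions, no odd normal subgroup in the centraliser of the involution `z`, that centraliser
generated by its involutions, a second involution commuting with `z`, and `z` the only central involution of a
Sylow subgroup: then the group is simple.
-/

set_option autoImplicit false

namespace Cfsg.Agent.Lib.U43Graph14

theorem isSimpleGroup_of_involutions {G : Type*} [Group G] [Finite G] (z : G) (hz : orderOf z = 2)
    (hone : ∀ x : G, orderOf x = 2 → IsConj z x)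
    (hodd : ∀ N : Subgroup (Subgroup.centralizer ({z} : Set G)), N.Normal → Odd (Nat.card N) → N = ⊥)
    (hgen : Subgroup.closure {x : Subgroup.centralizer ({z} : Set G) | orderOf x = 2} = ⊤)
    (hw : ∃ w : G, orderOf w = 2 ∧ w ≠ z ∧ w * z = z * w)
    (hsyl : ∃ P : Sylow 2 G, (P : Subgroup G) ≤ Subgroup.centralizer ({z} : Set G) ∧ z ∈ (P : Subgroup G) ∧
      ∀ x ∈ (P : Subgroup G), orderOf x = 2 → (∀ y ∈ (P : Subgroup G), x * y = y * x) → x = z) :
    IsSimpleGroup G := by
  classical
  have : Fact (Nat.Prime 2) := ⟨by norm_num⟩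
  set C := Subgroup.centralizer ({z} : Set G)
  have hz2 : z * z = 1 := by
    have h := pow_orderOf_eq_one z
    rwa [hz, pow_two] at h
  have : Nontrivial G := ⟨⟨z, 1, fun h => by rw [h, orderOf_one] at hz; norm_num at hz⟩⟩
  refine ⟨fun M hM => ?_⟩
  by_cases hev : 2 ∣ Nat.card M
  · right
    obtain ⟨x, hx⟩ := exists_prime_orderOf_dvd_card' (G := M) 2 hev
    have hall : ∀ y : G, orderOf y = 2 → y ∈ M := by
      intro y hy
      have hxG : orderOf (x : G) = 2 := by rw [Subgroup.orderOf_coe]; exact hx
      obtain ⟨g, hg⟩ := isConj_iff.1 ((hone _ hxG).symm.trans (hone y hy))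
      exact hg ▸ hM.conj_mem _ x.2 g
    have hC : C ≤ M := by
      have h : Subgroup.closure {x : C | orderOf x = 2} ≤ M.subgroupOf C :=
        (Subgroup.closure_le _).2 fun y hy => Subgroup.mem_subgroupOf.2
          (hall _ (by rw [Subgroup.orderOf_coe]; exact hy))
      rw [hgen] at h
      exact fun y hy => Subgroup.mem_subgroupOf.1 (h (Subgroup.mem_top (⟨y, hy⟩ : C)))
    obtain ⟨P, hPC, hzP, hPz⟩ := hsyl
    have hPM : (P : Subgroup G) ≤ M := hPC.trans hC
    have hfr := Sylow.normalizer_sup_eq_top' P hPM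
    have hN : Subgroup.normalizer ((P : Subgroup G) : Set G) ≤ C := by
      intro g hg
      have hgz : g * z * g⁻¹ = z := by
        refine hPz _ ((Subgroup.mem_normalizer_iff.1 hg z).1 hzP) ?_ fun y hy => ?_
        · rw [← MulAut.conj_apply, MulEquiv.orderOf_eq, hz]
        · have hy' : g⁻¹ * y * g ∈ (P : Subgroup G) := by
            simpa using (Subgroup.mem_normalizer_iff.1 (inv_mem hg) y).1 hy
          have hc := Subgroup.mem_centralizer_singleton_iff.1 (hPC hy')
          calc g * z * g⁻¹ * y = g * (z * (g⁻¹ * y * g)) * g⁻¹ := by group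
            _ = g * (g⁻¹ * y * g * z) * g⁻¹ := by rw [hc]
            _ = _ := by group
      exact Subgroup.mem_centralizer_singleton_iff.2 (mul_inv_eq_iff_eq_mul.1 hgz)
    exact top_unique (hfr ▸ sup_le (hN.trans hC) le_rfl)
  · left
    have hodd' : Odd (Nat.card M) := Nat.odd_iff.2 (by omega)
    have hfix : ∀ m ∈ M, m * z = z * m → m = 1 := by
      intro m hm hmz
      have hbot : (M ⊓ C).subgroupOf C = ⊥ := by
        refine hodd _ ?_ ?_
        · constructor
          intro a ha g
          rw [Subgroup.mem_subgroupOf] at ha ⊢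
          exact ⟨by simpa using hM.conj_mem _ ha.1 (g : G), SetLike.coe_mem _⟩
        · rw [Nat.card_congr (Subgroup.subgroupOfEquivOfLe inf_le_right).toEquiv]
          exact hodd'.of_dvd_nat (Subgroup.card_dvd_of_le inf_le_left)
      have hmC : m ∈ C := Subgroup.mem_centralizer_singleton_iff.2 hmz
      have : (⟨m, hmC⟩ : C) ∈ (M ⊓ C).subgroupOf C := Subgroup.mem_subgroupOf.2 ⟨hm, hmC⟩
      rw [hbot, Subgroup.mem_bot] at this
      exact congrArg Subtype.val this
    -- every involution inverts `M`
    have hinv : ∀ x : G, orderOf x = 2 → ∀ m ∈ M, x * m * x⁻¹ = m⁻¹ := by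
      intro x hx
      obtain ⟨g, hg⟩ := isConj_iff.1 (hone x hx)
      have hx2 : x * x = 1 := by
        have h := pow_orderOf_eq_one x
        rwa [hx, pow_two] at h
      let σ : M →* M :=
        { toFun := fun m => ⟨x * m * x⁻¹, hM.conj_mem _ m.2 x⟩
          map_one' := Subtype.ext (by simp)
          map_mul' := fun a b => Subtype.ext (by simp [mul_assoc]) }
      have hfpf : MonoidHom.FixedPointFree σ := by
        intro m hm
        have hm' : x * (m : G) * x⁻¹ = m := congrArg Subtype.val hm
        have h1 := hfix (g⁻¹ * (m : G) * g) (by simpa using hM.conj_mem _ m.2 g⁻¹) (by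
          rw [show z = g⁻¹ * x * g by rw [← hg]; group]
          calc g⁻¹ * (m : G) * g * (g⁻¹ * x * g) = g⁻¹ * ((m : G) * x) * g := by group
            _ = g⁻¹ * (x * m) * g := by rw [← mul_inv_eq_iff_eq_mul.1 hm']
            _ = _ := by group)
        refine Subtype.ext ?_
        show (m : G) = 1
        rw [show (m : G) = g * (g⁻¹ * (m : G) * g) * g⁻¹ by group, h1]
        group
      have hσ2 : Function.Involutive σ := fun m => Subtype.ext (by
        show x * (x * (m : G) * x⁻¹) * x⁻¹ = m
        calc x * (x * (m : G) * x⁻¹) * x⁻¹ = (x * x) * (m : G) * (x * x)⁻¹ := by group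
          _ = m := by rw [hx2]; group)
      intro m hm
      exact congrArg Subtype.val (congrFun (hfpf.coe_eq_inv_of_involutive hσ2) ⟨m, hm⟩)
    obtain ⟨w, hw2, hwz, hwc⟩ := hw
    have hwz2 : orderOf (w * z) = 2 := by
      refine orderOf_eq_prime ?_ fun h => hwz ?_
      · rw [pow_two, show w * z * (w * z) = w * w * (z * z) by
          rw [mul_assoc, ← mul_assoc z, ← hwc, mul_assoc, mul_assoc], hz2, mul_one]
        have h := pow_orderOf_eq_one w
        rwa [hw2, pow_two] at h
      · rw [mul_eq_one_iff_eq_inv] at h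
        rw [h, inv_eq_of_mul_eq_one_right hz2]
    refine (Subgroup.eq_bot_iff_forall M).2 fun m hm => ?_
    have h1 := hinv _ hwz2 m hm
    have h2 : w * z * m * (w * z)⁻¹ = m := by
      calc w * z * m * (w * z)⁻¹ = w * (z * m * z⁻¹) * w⁻¹ := by group
        _ = m := by rw [hinv z hz m hm, hinv w hw2 _ (inv_mem hm), inv_inv]
    rw [h2] at h1
    have h3 : m ^ 2 = 1 := by rw [pow_two]; nth_rewrite 1 [h1]; exact inv_mul_cancel m
    have h4 : orderOf m ∣ 2 := orderOf_dvd_of_pow_eq_one h3
    have h5 : orderOf m ∣ Nat.card M := Subgroup.orderOf_dvd_natCard M hm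
    have h6 : orderOf m = 1 := Nat.eq_one_of_dvd_coprimes
      ((Nat.prime_two.coprime_iff_not_dvd).2 hev) h4 h5
    exact orderOf_eq_one_iff.1 h6

end Cfsg.Agent.Lib.U43Graph14
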